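import Cfsg.Agent.Lib.Fusion.CentralLift.Transfer
import Cfsg.Agent.Lib.Fusion.GeneratedSaturation
import Cfsg.Agent.Lib.Fusion.Invariant
import Cfsg.Agent.Lib.Fusion.NormSys
import Cfsg.Agent.Lib.Fusion.ResidualNormal
import Cfsg.Prelude.Def_FusionComponents

/-!
# Subsystems saturated modulo a central subgroup

`CentralSub F Z G p` records the properties of the pullback `G`, to a strongly closed subgroup `T`
of `F`, of a normal subsystem of the factor system of `F` modulo a central subgroup `Z ≤ T`.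
-/

set_option autoImplicit false

open Cfsg Cfsg.FusionSystem

namespace CfsgLib.Fusion.CentralLift

variable {Ω : Type*} [Group Ω]

/-- `G` over `T` is invariant in `F` and saturated modulo the central subgroup `Z`, with the
extension condition at `T`. -/
structure CentralSub {S : Subgroup Ω} (F : FusionSystem S) (Z : Subgroup Ω) {T : Subgroup Ω}
    (G : FusionSystem T) (p : ℕ) : Prop where
  isPGroup : IsPGroup p S
  saturated : F.IsSaturated p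
  central : F.IsCentral Z
  le : Z ≤ T
  inv : G.IsInvariantIn F
  agree : ∀ {P P' : Subgroup Ω} {φ : P →* Ω} {φ' : P' →* Ω}, φ ∈ G.Hom P → φ' ∈ F.Hom P' →
    P' ≤ T → (∀ y : P', ∃ x : P, (x : Ω)⁻¹ * y ∈ Z ∧ (φ x)⁻¹ * φ' y ∈ Z) → φ' ∈ G.Hom P'
  sylow : ∀ {Q : Subgroup Ω}, Z ≤ Q → G.IsFullyNormalized Q →
    ∀ K : Subgroup (MulAut Q),
      (∀ a : MulAut Q, a ∈ F.autGroup Q → (∀ x : Q, (x : Ω)⁻¹ * (a x : Ω) ∈ Z) → a ∈ K) →
      ¬ p ∣ (autInducedBy T Q ⊔ K).relIndex (G.autGroup Q)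
  recep : ∀ {P Q M : Subgroup Ω} (e : P ≃* Q), IsIso G e → Z ≤ P → G.IsFullyNormalized Q →
    ∀ (hPM : P ≤ M), M ≤ normalizerIn T P →
    (∀ m ∈ M, ∃ n ∈ T, ∀ (x : P) (hx : m * (x : Ω) * m⁻¹ ∈ P),
      (n * (e x : Ω) * n⁻¹)⁻¹ * (e ⟨m * x * m⁻¹, hx⟩ : Ω) ∈ Z) →
    ∃ ψ ∈ G.Hom M, ∀ x : P, (e x : Ω)⁻¹ * ψ (Subgroup.inclusion hPM x) ∈ Z
  top : ∀ a ∈ G.autGroup T, (orderOf a).Coprime p →
    ∀ (r : Ω) (hr : r ∈ Subgroup.normalizer (T : Set Ω)), r ∈ S →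
    (∀ t : T, (t : Ω)⁻¹ * (r * t * r⁻¹) ∈ Z) →
    ∃ (r' : Ω) (hr' : r' ∈ Subgroup.normalizer (T : Set Ω)), r' ∈ S ∧ r⁻¹ * r' ∈ T ∧
      a * normAut r hr * a⁻¹ = normAut r' hr'

/-- The automorphisms of `P` in `F` trivial on `P ∩ Z` and on `P` modulo `Z`. -/
def kAut {S : Subgroup Ω} (F : FusionSystem S) (Z P : Subgroup Ω) : Subgroup (MulAut P) where
  carrier := {a | a ∈ F.autGroup P ∧ (∀ x : P, (x : Ω)⁻¹ * (a x : Ω) ∈ Z) ∧
    ∀ x : P, (x : Ω) ∈ Z → a x = x}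
  one_mem' := ⟨one_mem _, fun x => by simp, fun _ _ => rfl⟩
  mul_mem' := by
    rintro a b ⟨ha, ha1, ha2⟩ ⟨hb, hb1, hb2⟩
    refine ⟨mul_mem ha hb, fun x => ?_, fun x hx => by rw [MulAut.mul_apply, hb2 x hx, ha2 x hx]⟩
    have h1 := Z.mul_mem (hb1 x) (ha1 (b x))
    rwa [mul_assoc, mul_inv_cancel_left] at h1
  inv_mem' := by
    rintro a ⟨ha, ha1, ha2⟩
    refine ⟨inv_mem ha, fun x => ?_, fun x hx => ?_⟩
    · have h1 := Z.inv_mem (ha1 (a⁻¹ x))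
      rwa [MulAut.apply_inv_self, mul_inv_rev, inv_inv] at h1
    · have h1 := ha2 x hx
      conv_lhs => rw [← h1, MulAut.inv_apply_self]

/-- `P ≤ T` contains `Z` and each conjugate contains what centralizes it in `T` modulo `Z`. -/
def IsCent {T : Subgroup Ω} (Z : Subgroup Ω) (G : FusionSystem T) (P : Subgroup Ω) : Prop :=
  P ≤ T ∧ Z ≤ P ∧
    ∀ Q : Subgroup Ω, G.IsConj P Q → ∀ t ∈ T, (∀ q ∈ Q, q⁻¹ * (t * q * t⁻¹) ∈ Z) → t ∈ Q

/-- The automorphisms lifting `O^p` of those of `G`, with those induced by `T`. -/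
def liftAut {S T : Subgroup Ω} (F : FusionSystem S) (G : FusionSystem T) (p : ℕ) (P : Subgroup Ω) :
    Subgroup (MulAut P) :=
  Subgroup.closure ({a | a ∈ G.autGroup P ∧ (orderOf a).Coprime p} ∪
    {a | ∃ (X : Subgroup Ω) (e : X ≃* P), IsIso F e ∧ X ≤ T ∧
      ∃ (t : Ω) (ht : t ∈ Subgroup.normalizer (X : Set Ω)), t ∈ T ∧
        a = MulAut.congr e (normAut t ht)})

theorem congr_trans_apply {X Y W : Subgroup Ω} (e : X ≃* Y) (f : Y ≃* W) (a : MulAut X) :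
    MulAut.congr f (MulAut.congr e a) = MulAut.congr (e.trans f) a :=
  MulEquiv.ext fun _ => rfl

theorem congr_symm_congr {X Y : Subgroup Ω} (e : X ≃* Y) (a : MulAut X) :
    MulAut.congr e.symm (MulAut.congr e a) = a :=
  MulEquiv.ext fun x => by simp [MulAut.congr]

theorem congr_eq_conj {X : Subgroup Ω} (b a : MulAut X) : MulAut.congr b a = b * a * b⁻¹ :=
  MulEquiv.ext fun _ => rfl

theorem congr_normAut {X Y : Subgroup Ω} (e : X ≃* Y) {t : Ω}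
    (ht : t ∈ Subgroup.normalizer (X : Set Ω)) (htX : t ∈ X) :
    MulAut.congr e (normAut t ht) =
      normAut ((e ⟨t, htX⟩ : Y) : Ω) (Subgroup.le_normalizer (e ⟨t, htX⟩).2) := by
  refine MulEquiv.ext fun y => Subtype.ext ?_
  change ((e (normAut t ht (e.symm y)) : Y) : Ω) = _
  rw [show normAut t ht (e.symm y) = ⟨t, htX⟩ * e.symm y * (⟨t, htX⟩ : X)⁻¹ from
    Subtype.ext rfl, map_mul, map_mul, map_inv, MulEquiv.apply_symm_apply]
  rfl

theorem congr_mem_inn {X Y : Subgroup Ω} (e : X ≃* Y) {a : MulAut X} (ha : a ∈ Cfsg.Inn X) :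
    MulAut.congr e a ∈ Cfsg.Inn Y := by
  obtain ⟨g, rfl⟩ := ha
  exact ⟨e g, MulEquiv.ext fun y => by simp [MulAut.congr]⟩

theorem inn_conj_mem {X : Subgroup Ω} (b : MulAut X) {a : MulAut X} (ha : a ∈ Cfsg.Inn X) :
    b * a * b⁻¹ ∈ Cfsg.Inn X :=
  congr_eq_conj b a ▸ congr_mem_inn b ha

theorem normAut_mem_inn {X : Subgroup Ω} {t : Ω} (ht : t ∈ Subgroup.normalizer (X : Set Ω))
    (htX : t ∈ X) : normAut t ht ∈ Cfsg.Inn X := by
  rw [inn_eq]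
  exact mem_autInducedBy_iff.2 ⟨t, htX, fun _ => rfl⟩

/-- A map into its own source gives an automorphism. -/
theorem exists_aut_of_map {U M : Subgroup Ω} [Finite U] {H : FusionSystem U} {ψ : M →* Ω}
    (hψ : ψ ∈ H.Hom M) (h : ∀ x, ψ x ∈ M) :
    ∃ α ∈ H.autGroup M, ∀ x, (α x : Ω) = ψ x := by
  have hMU := le_S H hψ
  have := finite_of_le hMU
  have hr : ψ.range = M := by
    refine Subgroup.eq_of_le_of_card_ge (by rintro _ ⟨x, rfl⟩; exact h x) ?_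
    exact (Nat.card_congr (MonoidHom.ofInjective (H.injective_of_mem hψ)).toEquiv).le
  obtain ⟨α, hα, hαe⟩ := exists_iso_of_range hψ hr
  exact ⟨α, (mem_autGroup_iff H hMU).2 hα, hαe⟩

variable {S T Z : Subgroup Ω} [Finite S] {F : FusionSystem S} {G : FusionSystem T} {p : ℕ}
  [Fact p.Prime]

namespace CentralSub

variable (h : CentralSub F Z G p)
include h

omit [Finite S] [Fact p.Prime]

theorem stronglyClosed : F.StronglyClosed T := h.inv.2.1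

theorem T_le : T ≤ S := h.inv.2.1.1

theorem Z_le : Z ≤ S := h.le.trans h.T_le

theorem sub : G.IsSubsystemOf F := h.inv.1

/-- `Z` is central in `S`. -/
theorem commute_Z {z s : Ω} (hz : z ∈ Z) (hs : s ∈ S) : s * z = z * s :=
  F.center_le_centralizer ((le_sSup (show Z ∈ {Q | F.IsCentral Q} from h.central) :
    Z ≤ F.center) hz) s hs

/-- Maps of `F` fix `Z`. -/
theorem fix {P : Subgroup Ω} {φ : P →* Ω} (hφ : φ ∈ F.Hom P) {x : P} (hx : (x : Ω) ∈ Z) :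
    φ x = x := by
  obtain ⟨ψ, -, hψe, hψZ⟩ := h.central.2 P φ hφ
  rw [← hψe x]
  exact (congrArg ψ (Subtype.ext rfl)).trans (hψZ ⟨x, hx⟩)

theorem iso_fix {P Q : Subgroup Ω} {e : P ≃* Q} (he : IsIso F e) {x : P} (hx : (x : Ω) ∈ Z) :
    (e x : Ω) = x :=
  h.fix he hx

theorem iso_symm_fix {P Q : Subgroup Ω} {e : P ≃* Q} (he : IsIso F e) {y : Q} (hy : (y : Ω) ∈ Z) :
    (e.symm y : Ω) = y :=
  h.fix he.symm hy

theorem isIso_of_G {P Q : Subgroup Ω} {e : P ≃* Q} (he : IsIso G e) : IsIso F e := h.sub P he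

/-- An isomorphism of `F` keeps congruence modulo `Z`. -/
theorem iso_mem_Z {P Q : Subgroup Ω} {e : P ≃* Q} (he : IsIso F e) {x : P} (hx : (x : Ω) ∈ Z) :
    (e x : Ω) ∈ Z := by
  rw [h.iso_fix he hx]; exact hx

theorem Z_le_range {P : Subgroup Ω} {φ : P →* Ω} (hφ : φ ∈ F.Hom P) (hZP : Z ≤ P) :
    Z ≤ φ.range := fun z hz => ⟨⟨z, hZP hz⟩, h.fix hφ (x := ⟨z, hZP hz⟩) hz⟩

theorem Z_le_of_iso {P Q : Subgroup Ω} {e : P ≃* Q} (he : IsIso F e) (hZP : Z ≤ P) : Z ≤ Q :=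
  (h.Z_le_range he hZP).trans (range_subtype_comp e).le

theorem range_eq_of_mod {P : Subgroup Ω} {φ ψ : P →* Ω} (hφ : φ ∈ F.Hom P) (hψ : ψ ∈ F.Hom P)
    (hZP : Z ≤ P) (hm : ∀ x, (φ x)⁻¹ * ψ x ∈ Z) : φ.range = ψ.range := by
  refine le_antisymm ?_ ?_
  · rintro _ ⟨x, rfl⟩
    have := ψ.range.mul_mem ⟨x, rfl⟩ (ψ.range.inv_mem (h.Z_le_range hψ hZP (hm x)))
    simpa using this
  · rintro _ ⟨x, rfl⟩
    have := φ.range.mul_mem ⟨x, rfl⟩ (h.Z_le_range hφ hZP (hm x))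
    simpa using this

theorem mem_kAut {P : Subgroup Ω} (hP : P ≤ S) {a : MulAut P} (ha : a ∈ F.autGroup P)
    (hm : ∀ x : P, (x : Ω)⁻¹ * (a x : Ω) ∈ Z) : a ∈ kAut F Z P :=
  ⟨ha, hm, fun _ hx => Subtype.ext (h.iso_fix ((mem_autGroup_iff F hP).1 ha) hx)⟩

theorem kAut_comm {P : Subgroup Ω} (hP : P ≤ S) {a b : MulAut P} (ha : a ∈ kAut F Z P)
    (hb : b ∈ kAut F Z P) : a * b = b * a := by
  refine MulEquiv.ext fun x => ?_
  obtain ⟨za, hza0⟩ : ∃ za : P, za = x⁻¹ * a x := ⟨_, rfl⟩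
  obtain ⟨zb, hzb0⟩ : ∃ zb : P, zb = x⁻¹ * b x := ⟨_, rfl⟩
  have hza : (za : Ω) ∈ Z := by simpa [hza0] using ha.2.1 x
  have hzb : (zb : Ω) ∈ Z := by simpa [hzb0] using hb.2.1 x
  have hax : a x = x * za := by rw [hza0, mul_inv_cancel_left]
  have hbx : b x = x * zb := by rw [hzb0, mul_inv_cancel_left]
  rw [MulAut.mul_apply, MulAut.mul_apply, hbx, map_mul, ha.2.2 zb hzb, hax, map_mul,
    hb.2.2 za hza, hbx, mul_assoc, mul_assoc]
  exact congrArg (x * ·) (Subtype.ext (show ((za * zb : P) : Ω) = ((zb * za : P) : Ω) from h.commute_Z hzb (hP za.2)))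

theorem kAut_normal {P : Subgroup Ω} (hP : P ≤ S) {a b : MulAut P} (ha : a ∈ kAut F Z P)
    (hb : b ∈ F.autGroup P) : b * a * b⁻¹ ∈ kAut F Z P := by
  refine h.mem_kAut hP (mul_mem (mul_mem hb ha.1) (inv_mem hb)) fun x => ?_
  set y := b⁻¹ x
  have h1 : ((b (y⁻¹ * a y) : P) : Ω) ∈ Z :=
    h.iso_mem_Z ((mem_autGroup_iff F hP).1 hb) (x := y⁻¹ * a y) (by simpa using ha.2.1 y)
  rw [map_mul, map_inv, show b y = x from MulAut.apply_inv_self _ _ _] at h1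
  simp only [Subgroup.coe_mul, Subgroup.coe_inv] at h1
  exact h1

theorem congr_mem_kAut {P Q : Subgroup Ω} {e : P ≃* Q} (he : IsIso F e) {a : MulAut P}
    (ha : a ∈ kAut F Z P) : MulAut.congr e a ∈ kAut F Z Q := by
  refine h.mem_kAut he.le_right (congr_mem_autGroup he ha.1) fun x => ?_
  set y := e.symm x
  have h1 : ((e (y⁻¹ * a y) : Q) : Ω) ∈ Z :=
    h.iso_mem_Z he (x := y⁻¹ * a y) (by simpa using ha.2.1 y)
  rw [map_mul, map_inv, show e y = x from e.apply_symm_apply x] at h1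
  simp only [Subgroup.coe_mul, Subgroup.coe_inv] at h1
  exact h1

theorem kAut_le_G {P : Subgroup Ω} (hP : P ≤ T) : kAut F Z P ≤ G.autGroup P := by
  intro a ha
  refine (mem_autGroup_iff G hP).2 (h.agree (id_mem G hP) ((mem_autGroup_iff F
    (hP.trans h.T_le)).1 ha.1) hP fun y => ⟨y, by simp, ?_⟩)
  exact ha.2.1 y

variable [Finite S] [Fact p.Prime]

omit [Fact p.Prime] in
theorem congr_mem_G {X Y : Subgroup Ω} {e : X ≃* Y} (he : IsIso F e) (hX : X ≤ T) (hY : Y ≤ T)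
    {a : MulAut X} (ha : a ∈ G.autGroup X) : MulAut.congr e a ∈ G.autGroup Y :=
  congr_mem_of_conjClosed h.sub (conjClosed_of_isInvariantIn h.inv) he hX hY ha

theorem isPGroup_kAut {P : Subgroup Ω} (hP : P ≤ S) : IsPGroup p (kAut F Z P) := by
  have := finite_of_le hP
  obtain ⟨j, hj⟩ := (h.isPGroup.to_le hP).exists_card_eq
  intro a
  refine ⟨j, Subtype.ext ?_⟩
  obtain ⟨a, ha⟩ := a
  change a ^ p ^ j = 1
  refine MulEquiv.ext fun x => ?_
  set z : P := x⁻¹ * a x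
  have hz : a z = z := ha.2.2 z (by simpa [z] using ha.2.1 x)
  have hn : ∀ n : ℕ, (a ^ n) x = x * z ^ n := by
    intro n
    induction n with
    | zero => simp
    | succ n ihn =>
      rw [pow_succ', MulAut.mul_apply, ihn, map_mul, map_pow, hz, pow_succ', ← mul_assoc,
        show x * z = a x from mul_inv_cancel_left x _]
  rw [hn, ← hj, pow_card_eq_one', mul_one]
  rfl

/-- The class condition passes to overgroups. -/
theorem isCent_mono {P M : Subgroup Ω} (hP : IsCent Z G P) (hPM : P ≤ M) (hM : M ≤ T) :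
    IsCent Z G M := by
  refine ⟨hM, hP.2.1.trans hPM, fun Q hQ t ht htQ => ?_⟩
  obtain ⟨φ, hφ, rfl⟩ := hQ
  obtain ⟨x, hx⟩ := hP.2.2 _ ⟨_, res_mem G hφ hPM, rfl⟩ t ht
    fun q hq => htQ q (by obtain ⟨x, rfl⟩ := hq; exact ⟨_, rfl⟩)
  exact ⟨_, hx⟩

theorem isCent_top : IsCent Z G T := by
  refine ⟨le_rfl, h.le, fun Q hQ t ht _ => ?_⟩
  obtain ⟨φ, hφ, rfl⟩ := hQ
  rw [(weaklyClosed_of_stronglyClosed h.stronglyClosed).2 φ (h.sub T hφ)]
  exact ht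

theorem isCent_of_conj {P Q : Subgroup Ω} (hP : IsCent Z G P) (hQ : G.IsConj P Q) :
    IsCent Z G Q := by
  obtain ⟨e, he⟩ := isConj_iff.1 hQ
  exact ⟨he.le_right, h.Z_le_of_iso (h.isIso_of_G he) hP.2.1,
    fun R hR => hP.2.2 R (isConj_trans hQ hR)⟩

/-- The class condition is invariant under `F` inside `T`. -/
theorem isCent_of_iso {P X : Subgroup Ω} (hP : IsCent Z G P) {e : P ≃* X} (he : IsIso F e) :
    X ≤ T ∧ IsCent Z G X := by
  have hXT : X ≤ T := fun y hy => by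
    have h1 := h.stronglyClosed.2 P hP.1 _ he (e.symm ⟨y, hy⟩)
    simpa using h1
  refine ⟨hXT, hXT, h.Z_le_of_iso he hP.2.1, fun R hR t ht htR => ?_⟩
  obtain ⟨α, hα, φ₀, hφ₀, hφe⟩ := h.inv.2.2.2 P hP.1 _ he
  have hαF := (mem_autGroup_iff F h.T_le).1 hα
  obtain ⟨φ, hφ, rfl⟩ := hR
  obtain ⟨χ, hχ, hχe⟩ := h.inv.2.2.1 X hXT φ hφ α⁻¹ (inv_mem hα)
  have hval : ∀ x : P, φ₀ x ∈ (X.subgroupOf T).map (T.subtype.comp (α⁻¹).toMonoidHom) := fun x =>
    ⟨⟨(e x : Ω), hXT (e x).2⟩, (e x).2, by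
      change ((α⁻¹ ⟨(e x : Ω), _⟩ : T) : Ω) = φ₀ x
      rw [show (⟨(e x : Ω), hXT (e x).2⟩ : T) = α ⟨φ₀ x, apply_mem_S G hφ₀ x⟩ from
        Subtype.ext (hφe x _), MulAut.inv_apply_self]⟩
  -- the conjugate of `P` corresponding to the range of `φ`
  set R' := (χ.comp (φ₀.codRestrict _ hval)).range
  have hR' : G.IsConj P R' := ⟨_, G.comp_mem hφ₀ hχ hval, rfl⟩
  have hχe' : ∀ x : P, χ ⟨φ₀ x, hval x⟩ = ((α⁻¹ ⟨φ (e x), apply_mem_S G hφ _⟩ : T) : Ω) := by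
    intro x
    have h1 : φ₀ x = ((α⁻¹ ⟨(e x : Ω), hXT (e x).2⟩ : T) : Ω) := by
      rw [show (⟨(e x : Ω), hXT (e x).2⟩ : T) = α ⟨φ₀ x, apply_mem_S G hφ₀ x⟩ from
        Subtype.ext (hφe x _), MulAut.inv_apply_self]
    refine Eq.trans ?_ (hχe (e x) (apply_mem_S G hφ _) (h1 ▸ hval x))
    exact congrArg χ (Subtype.ext h1)
  have hαi := (mem_autGroup_iff F h.T_le).1 (inv_mem hα)
  set t' : T := α⁻¹ ⟨t, ht⟩ with ht'
  have hmem := hP.2.2 R' hR' t' t'.2 (by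
    rintro _ ⟨x, rfl⟩
    set q : T := ⟨φ (e x), apply_mem_S G hφ _⟩ with hq
    rw [show (χ.comp (φ₀.codRestrict _ hval)) x = ((α⁻¹ q : T) : Ω) from hχe' x]
    have h2 := h.iso_mem_Z hαi (x := q⁻¹ * (⟨t, ht⟩ * q * (⟨t, ht⟩ : T)⁻¹))
      (by simpa using htR _ ⟨e x, rfl⟩)
    simpa [ht'] using h2)
  obtain ⟨x, hx⟩ := hmem
  have h3 : ((α⁻¹ ⟨φ (e x), apply_mem_S G hφ _⟩ : T) : Ω) = (t' : Ω) := (hχe' x).symm.trans hx
  exact ⟨e x, congrArg Subtype.val ((α⁻¹ : MulAut T).injective (Subtype.ext h3))⟩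

omit [Fact p.Prime] in
theorem liftAut_le {P : Subgroup Ω} (hP : P ≤ T) : liftAut F G p P ≤ G.autGroup P := by
  refine (Subgroup.closure_le _).2 ?_
  rintro a (⟨ha, -⟩ | ⟨X, e, he, hX, t, ht, htT, rfl⟩)
  · exact ha
  · exact h.congr_mem_G he hX hP (autInducedBy_le_autGroup hX
      (mem_autInducedBy_iff.2 ⟨t, htT, fun _ => rfl⟩))

omit [Fact p.Prime] in
theorem congr_mem_liftAut {P Q : Subgroup Ω} {f : P ≃* Q} (hf : IsIso F f) (hP : P ≤ T)
    (hQ : Q ≤ T) {a : MulAut P} (ha : a ∈ liftAut F G p P) :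
    MulAut.congr f a ∈ liftAut F G p Q := by
  induction ha using Subgroup.closure_induction with
  | mem a ha =>
    refine Subgroup.subset_closure ?_
    rcases ha with ⟨ha, hco⟩ | ⟨X, e, he, hX, t, ht, htT, rfl⟩
    · exact Or.inl ⟨h.congr_mem_G hf hP hQ ha, by rwa [MulEquiv.orderOf_eq]⟩
    · exact Or.inr ⟨X, e.trans f, he.trans hf, hX, t, ht, htT, congr_trans_apply e f _⟩
  | one => rw [map_one]; exact one_mem _
  | mul a b _ _ ha hb => rw [map_mul]; exact mul_mem ha hb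
  | inv a _ ha => rw [map_inv]; exact inv_mem ha

omit [Fact p.Prime] in
theorem liftAut_normal {P : Subgroup Ω} (hP : P ≤ T) {a b : MulAut P}
    (ha : a ∈ liftAut F G p P) (hb : b ∈ F.autGroup P) : b * a * b⁻¹ ∈ liftAut F G p P :=
  congr_eq_conj b a ▸
    h.congr_mem_liftAut ((mem_autGroup_iff F (hP.trans h.T_le)).1 hb) hP hP ha

omit [Finite S] [Fact p.Prime] in
theorem normAut_mem_liftAut {P : Subgroup Ω} (hP : P ≤ T) {t : Ω}
    (ht : t ∈ Subgroup.normalizer (P : Set Ω)) (htT : t ∈ T) :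
    normAut t ht ∈ liftAut F G p P :=
  Subgroup.subset_closure (Or.inr ⟨P, MulEquiv.refl P, isIso_refl (hP.trans h.T_le), hP, t, ht,
    htT, MulEquiv.ext fun _ => rfl⟩)

omit [Finite S] [Fact p.Prime] in
theorem inn_le_liftAut {P : Subgroup Ω} (hP : P ≤ T) : Cfsg.Inn P ≤ liftAut F G p P := by
  intro a ha
  rw [inn_eq, mem_autInducedBy_iff] at ha
  obtain ⟨t, ht, hte⟩ := ha
  rw [show a = normAut t (Subgroup.le_normalizer ht) from
    MulEquiv.ext fun x => Subtype.ext (hte x)]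
  exact h.normAut_mem_liftAut hP _ (hP ht)

end CentralSub

end CfsgLib.Fusion.CentralLift
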