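import Cfsg.Agent.Lib.Fusion.CentralLift.FromFactor
import Cfsg.Agent.Lib.Fusion.CoreCentralizesComponents
import Cfsg.Agent.Lib.Fusion.PPowerIndexExists
import Cfsg.Agent.Lib.Fusion.PPowerIndexNormal
import Cfsg.Agent.Lib.Fusion.HypFocal
import Cfsg.Agent.Lib.Fusion.Inner
import Cfsg.Agent.Lib.Fusion.SmallControl
import Cfsg.Agent.Lib.Fusion.Sparse
import Cfsg.Agent.Lib.Transfer.FusionQuot

/-!
# A saturated system without components is constrained

By induction on the number of maps. In a system `F` that is not constrained and has no component,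
every proper normal subsystem lives inside `O_p(F)`; so `O_p(F)` is the centre, `F` is perfect, and,
normal subsystems of `F/Z(F)` lifting to normal subsystems of `F`, `F` is quasisimple.
-/

set_option autoImplicit false

open Cfsg Cfsg.FusionSystem

namespace CfsgLib.Fusion.CentralLift

variable {Ω : Type*} [Group Ω]

/-- The graphs of the maps of a system. -/
def graphs {S : Subgroup Ω} (F : FusionSystem S) : Set (Set (Ω × Ω)) :=
  {g | ∃ (P : Subgroup Ω) (φ : P →* Ω), φ ∈ F.Hom P ∧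
    g = Set.range fun x : P => ((x : Ω), φ x)}

theorem finite_graphs {S : Subgroup Ω} [Finite S] (F : FusionSystem S) : (graphs F).Finite := by
  have h : ((S : Set Ω) ×ˢ (S : Set Ω)).Finite :=
    (Set.toFinite (S : Set Ω)).prod (Set.toFinite (S : Set Ω))
  refine h.finite_subsets.subset ?_
  rintro _ ⟨P, φ, hφ, rfl⟩ _ ⟨x, rfl⟩
  exact ⟨le_S F hφ x.2, apply_mem_S F hφ x⟩

theorem mem_of_graph_mem {S T : Subgroup Ω} {F : FusionSystem S} {D : FusionSystem T}
    (h : graphs F ⊆ graphs D) : F.IsSubsystemOf D := by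
  intro P φ hφ
  obtain ⟨P', φ', hφ', he⟩ := h ⟨P, φ, hφ, rfl⟩
  have h1 : ∀ x : P, ∃ hx : (x : Ω) ∈ P', φ' ⟨x, hx⟩ = φ x := by
    intro x
    obtain ⟨y, hy⟩ := he.le ⟨x, rfl⟩
    have hy1 : (y : Ω) = x := congrArg Prod.fst hy
    refine ⟨hy1 ▸ y.2, ?_⟩
    rw [← show φ' y = φ x from congrArg Prod.snd hy]
    exact congrArg φ' (Subtype.ext hy1.symm)
  have h2 : P' = P := by
    refine le_antisymm (fun y hy => ?_) fun y hy => (h1 ⟨y, hy⟩).1
    obtain ⟨x, hx⟩ := he.ge ⟨⟨y, hy⟩, rfl⟩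
    have hxy : (x : Ω) = y := congrArg Prod.fst hx
    exact hxy ▸ x.2
  exact mem_of_eq h2 hφ' fun y => (h1 ⟨y, h2 ▸ y.2⟩).2.symm

theorem ncard_graphs_lt {S T : Subgroup Ω} [Finite S] {F : FusionSystem S} {D : FusionSystem T}
    (hD : D.IsSubsystemOf F) (hne : ¬ F.IsSubsystemOf D) :
    (graphs D).ncard < (graphs F).ncard := by
  refine Set.ncard_lt_ncard ⟨?_, fun h => hne (mem_of_graph_mem h)⟩ (finite_graphs F)
  rintro _ ⟨P, φ, hφ, rfl⟩
  exact ⟨P, φ, hD P hφ, rfl⟩

/-- No component lies inside the largest normal subgroup. -/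
theorem not_component_le_core {S : Subgroup Ω} [Finite S] {F : FusionSystem S} {p : ℕ}
    [Fact p.Prime] (hS : IsPGroup p S) {U : Subgroup Ω} {C : FusionSystem U}
    (hC : C.IsComponentIn F p) (hU : U ≤ F.core) : False := by
  obtain ⟨hsub, hCs, hperf, hsimp⟩ := hC
  have hfix : ∀ (P : Subgroup Ω) (φ : P →* Ω), φ ∈ C.Hom P → ∀ x : P, φ x = (x : Ω) := by
    intro P φ hφ x
    obtain ⟨-, -, -, ψ, -, hψe, hψQ⟩ :=
      CoreCent.component_centralizes hsub hS ⟨hCs, hperf, hsimp⟩ P hφ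
    rw [← hψe x]
    exact (congrArg ψ (Subtype.ext rfl)).trans (hψQ ⟨x, hU (le_S C hφ x.2)⟩)
  have hbot : C.hyperfocalSubgroup p = ⊥ := by
    rw [eq_bot_iff]
    refine (Subgroup.closure_le _).2 ?_
    rintro _ ⟨P, α, x, hP, -, rfl⟩
    exact Subgroup.mem_bot.2 (inv_mul_eq_one.2
      (hfix P _ ((mem_autGroup_iff C hP).1 α.2) x).symm)
  have hU1 : U = ⊥ := hperf.symm.trans hbot
  have := finite_of_le (subgroup_le_of_isSubnormalIn hsub)
  obtain ⟨hZU, hZc⟩ := isCentral_center (F := C)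
  have hker : ∀ s : U, QuotientGroup.mk' ((C.center).subgroupOf U) s = 1 ↔ (s : Ω) ∈ C.center :=
    fun s => (QuotientGroup.eq_one_iff s).trans Subgroup.mem_subgroupOf
  obtain ⟨-, hne, -⟩ := hsimp _ (isFactorSystem_factorSystem
    (stronglyClosed_of_isCentral ⟨hZU, hZc⟩) hker (QuotientGroup.range_mk' _))
  refine hne (eq_bot_iff.2 fun y _ => ?_)
  obtain ⟨s, rfl⟩ := QuotientGroup.mk'_surjective _ y
  refine Subgroup.mem_bot.2 ((hker s).2 ?_)
  have h1 : (s : Ω) = 1 := Subgroup.mem_bot.1 (hU1.le s.2)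
  rw [h1]
  exact one_mem _

/-- In a constrained system the largest normal subgroup contains its centralizer. -/
theorem centralizerIn_core_le {S : Subgroup Ω} {F : FusionSystem S} {p : ℕ}
    (hF : F.IsConstrained p) : centralizerIn S F.core ≤ F.core := by
  obtain ⟨-, Q, hQ, hQc⟩ := hF
  have hle : Q ≤ F.core := le_sSup hQ
  exact fun x hx => hle (hQc.2 Q (isConj_refl hQ.1) ⟨hx.1, fun q hq => hx.2 q (hle hq)⟩)

theorem isConstrained_of_centralizerIn_le {S : Subgroup Ω} [Finite S] {F : FusionSystem S}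
    {p : ℕ} (hF : F.IsSaturated p) {Q : Subgroup Ω} (hQ : F.IsNormal Q)
    (hC : centralizerIn S Q ≤ Q) : F.IsConstrained p := by
  refine ⟨hF, Q, hQ, hQ.1, fun R hR => ?_⟩
  obtain ⟨φ, hφ, rfl⟩ := hR
  rw [(weaklyClosed_of_stronglyClosed (stronglyClosed_of_isNormal hQ)).2 φ hφ]
  exact hC

/-- A constrained system has no component. -/
theorem not_component_of_isConstrained {S : Subgroup Ω} [Finite S] {F : FusionSystem S} {p : ℕ}
    [Fact p.Prime] (hS : IsPGroup p S) (hF : F.IsConstrained p) {U : Subgroup Ω}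
    {C : FusionSystem U} (hC : C.IsComponentIn F p) : False := by
  refine not_component_le_core hS hC fun u hu => centralizerIn_core_le hF ?_
  exact (CoreCent.component_centralizes hC.1 hS hC.2 U (id_mem C le_rfl)).2.1 hu

/-- A proper normal subsystem with no component lies in the largest normal subgroup, as far as
centralizers are concerned. -/
theorem inf_centralizer_core_le {S T : Subgroup Ω} [Finite S] {F : FusionSystem S}
    {D : FusionSystem T} {p : ℕ} [Fact p.Prime] (hS : IsPGroup p S) (hD : D.IsNormalIn F p)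
    (hDc : D.IsConstrained p) : ∀ x ∈ T, x ∈ centralizerIn S F.core → x ∈ F.core := by
  intro x hxT hx
  have hTS := hD.1.2.2.2.1.1
  have := finite_of_le hTS
  obtain ⟨-, R, hR, hRc⟩ := hDc
  have hRQ : R ≤ F.core := by
    refine le_trans (fun r hr => Subgroup.subset_closure ?_)
      (le_sSup (isNormal_closure_of_weaklyNormal hS hD.1 hR))
    exact ⟨R.subtype, id_mem F (hR.1.trans hTS), ⟨r, hr⟩, rfl⟩
  exact hRQ (hRc.2 R (isConj_refl hR.1) ⟨hxT, fun r hr => hx.2 r (hRQ hr)⟩)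

/-- **A saturated system that is not constrained has a component.** -/
theorem exists_component {p : ℕ} [Fact p.Prime] : ∀ (n : ℕ) {S : Subgroup Ω} [Finite S]
    (F : FusionSystem S), (graphs F).ncard = n → IsPGroup p S → F.IsSaturated p →
      ¬ F.IsConstrained p → ∃ (T : Subgroup Ω) (C : FusionSystem T), C.IsComponentIn F p := by
  intro n
  induction n using Nat.strong_induction_on with
  | _ n ih =>
  intro S _ F hn hS hF hnc
  by_contra hno
  -- proper normal subsystems
  have hnormal : ∀ (T : Subgroup Ω) (D : FusionSystem T), D.IsNormalIn F p →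
      ¬ F.IsSubsystemOf D → ∀ x ∈ T, x ∈ centralizerIn S F.core → x ∈ F.core := by
    intro T D hD hne
    have hTS := hD.1.2.2.2.1.1
    have := finite_of_le hTS
    by_cases hDc : D.IsConstrained p
    · exact inf_centralizer_core_le hS hD hDc
    · obtain ⟨T', C, hC, hCq⟩ := ih _ (hn ▸ ncard_graphs_lt hD.1.2.2.1 hne) D rfl (hS.to_le hTS)
        hD.1.1 hDc
      exact absurd ⟨T', C, .step hC hD, hCq⟩ hno
  have hQ : F.IsNormal F.core := isNormal_core
  set Q := F.core with hQdef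
  have hsub : F.IsSubsystemOf (centSys F Q rfl hQ.1) := by
    by_contra hne
    exact hnc (isConstrained_of_centralizerIn_le hF hQ fun x hx =>
      hnormal _ _ (CoreCent.isNormalIn_centSys hS hF hQ) hne x hx hx)
  have hSC : ∀ x ∈ S, x ∈ centralizerIn S Q := fun x hx =>
    (hsub S (id_mem F le_rfl)).2.1 hx
  have hQc : F.IsCentral Q := ⟨hQ.1, fun P φ hφ => (hsub P hφ).2.2.2⟩
  have hcen : F.center = Q := by
    refine le_antisymm (le_sSup ?_) (le_sSup hQc)
    obtain ⟨h1, h2⟩ := isCentral_center (F := F)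
    exact ⟨h1, fun P φ hφ => by
      obtain ⟨ψ, hψ, hψe, hψC⟩ := h2 P φ hφ
      exact ⟨ψ, hψ, hψe, img_eq_of_forall_fixed le_sup_right hψC⟩⟩
  have hQS : Q ≠ S := fun h => hnc (isConstrained_of_centralizerIn_le hF hQ fun x hx => h ▸ hx.1)
  -- `F` is perfect
  have hperf : F.hyperfocalSubgroup p = S := by
    by_contra hne
    have hHS := hyperfocalSubgroup_le (F := F) p
    obtain ⟨D, hDs, hDi⟩ := exists_saturated_pPowerIndex hS hF hHS le_rfl
    have hD := isNormalIn_of_hasPPowerIndex hS hF hHS (le_normalizer_hyperfocalSubgroup p) hDs hDi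
    have hHQ : F.hyperfocalSubgroup p ≤ Q := fun x hx =>
      hnormal _ D hD (fun h => hne (le_antisymm hHS (le_S D (h S (id_mem F le_rfl))))) x hx
        (hSC x (hHS hx))
    have hpg : ∀ P : Subgroup Ω, P ≤ S → IsPGroup p (F.autGroup P) := by
      intro P hP
      have := finite_of_le hP
      refine isPGroup_of_no_coprime fun a ha => Subtype.ext (MulEquiv.ext fun w => ?_)
      refine apply_eq_of_diff_fixed (hS.to_le hP) (by rwa [← Subgroup.orderOf_coe] at ha) ?_
      have hd : ((w⁻¹ * (a : MulAut P) w : P) : Ω) ∈ Q := hHQ (Subgroup.subset_closure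
        ⟨P, a, w, hP, Transfer.mem_pResidual_of_coprime ha, rfl⟩)
      obtain ⟨ψ, -, hψe, hψQ⟩ := hQc.2 P _ ((mem_autGroup_iff F hP).1 a.2)
      exact Subtype.ext ((hψe _).symm.trans
        ((congrArg ψ (Subtype.ext rfl)).trans (hψQ ⟨_, hd⟩)))
    have hin := eq_inner_of_isPGroup hS hF hpg
    refine hnc (isConstrained_of_centralizerIn_le hF (Q := S) ⟨le_rfl, fun P φ hφ => ?_⟩
      fun x hx => hx.1)
    rw [hin] at hφ
    obtain ⟨hP, g, hg, hge⟩ := hφ
    refine ⟨conjHom (P ⊔ S) g, F.conj_mem (sup_le hP le_rfl) hg, fun x => (hge x).symm, ?_⟩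
    ext y
    constructor
    · rintro ⟨z, hz, rfl⟩
      exact S.mul_mem (S.mul_mem hg hz) (S.inv_mem hg)
    · intro hy
      refine ⟨⟨g⁻¹ * y * g, le_sup_right (a := P) (S.mul_mem (S.mul_mem (S.inv_mem hg) hy) hg)⟩,
        S.mul_mem (S.mul_mem (S.inv_mem hg) hy) hg, ?_⟩
      change g * (g⁻¹ * y * g) * g⁻¹ = y
      group
  -- `F` is quasisimple
  refine hno ⟨S, F, .refl F p, hF, hperf, fun E hE => ?_⟩
  set θ := QuotientGroup.mk' ((F.center).subgroupOf S)
  have hcc := isCentral_center (F := F)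
  have hEs := CfsgLib.Transfer.isSaturated_of_isFactorSystem hS hF
    (stronglyClosed_of_isCentral hcc) hE
  have hker : ∀ s : S, θ s = 1 ↔ (s : Ω) ∈ F.center := hE.2.1
  refine ⟨hEs, fun h => hQS (le_antisymm hQ.1 fun s hs => ?_), fun T' D' hD' => ?_⟩
  · rw [← hcen]
    exact (hker ⟨s, hs⟩).1 (Subgroup.mem_bot.1 (h.le (Subgroup.mem_top _)))
  have hL : LiftData F F.center θ E D' p := ⟨hS, hF, hcc, hE, hD'⟩
  obtain ⟨D, hD, hDG⟩ := hL.centralSub.exists_isNormalIn
  by_cases hfull : F.IsSubsystemOf D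
  · refine Or.inr ⟨top_le_iff.1 fun y _ => ?_,
      fun P' => Set.Subset.antisymm (hD'.1.2.2.1 P') fun φ' hφ' => ?_⟩
    · obtain ⟨s, rfl⟩ := QuotientGroup.mk'_surjective _ y
      exact hL.mem_T.1 (le_S D (hfull S (id_mem F le_rfl)) s.2)
    · obtain ⟨-, φ, hφ, hP, hφS, hθP, he⟩ := (hE.2.2.2 P' φ').1 hφ'
      obtain ⟨-, -, φ'', hφ'', he''⟩ := hDG _ (hfull _ hφ)
      have him : imageAlong θ (preimageAlong θ P') = P' := by
        refine le_antisymm (by rintro _ ⟨s, hs, rfl⟩; exact mem_preimageAlong.1 hs) fun y hy => ?_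
        obtain ⟨s, rfl⟩ := QuotientGroup.mk'_surjective _ y
        exact ⟨s, mem_preimageAlong.2 hy, rfl⟩
      refine mem_of_eq him hφ'' ?_
      rintro ⟨_, s, hs, rfl⟩
      exact (he ⟨s, hs⟩).trans (he'' ⟨s, hs⟩ s.2 (hφS _)).symm
  · refine Or.inl (eq_bot_iff.2 fun y hy => ?_)
    obtain ⟨s, rfl⟩ := QuotientGroup.mk'_surjective _ y
    refine Subgroup.mem_bot.2 ((hker s).2 (hcen.symm ▸ ?_))
    exact hnormal _ D hD hfull s (hL.mem_T.2 hy) (hSC s s.2)

theorem isConstrained_iff_no_component {S : Subgroup Ω} [Finite S] {F : FusionSystem S} {p : ℕ}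
    [Fact p.Prime] (hS : IsPGroup p S) (hF : F.IsSaturated p) :
    F.IsConstrained p ↔ ¬ ∃ (T : Subgroup Ω) (C : FusionSystem T), C.IsComponentIn F p :=
  ⟨fun h ⟨_, _, hC⟩ => not_component_of_isConstrained hS h hC,
    fun h => by_contra fun hc => h (exists_component _ F rfl hS hF hc)⟩

end CfsgLib.Fusion.CentralLift
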