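import Cfsg.Agent.Lib.Fusion.CentralLift.Component
import Cfsg.Agent.Lib.Fusion.FunctorCore
import Cfsg.Agent.Lib.Local.AB
import Cfsg.Agent.Lib.PGroup.Basic
import Mathlib.GroupTheory.SemidirectProduct

/-!
# Characteristic `p`-type or component type

If the centralizer systems of the fully normalized subgroups of order `p` are constrained then so
is each normalizer system `N`: with `Q` the largest normal subgroup of `N`, the `A × B` lemma makes
the coprime automorphisms in the centralizer of `Q` in `N` trivial.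
-/

set_option autoImplicit false

open Cfsg Cfsg.FusionSystem

namespace CfsgLib.Fusion.CentralLift

variable {Ω : Type*} [Group Ω]

/-- The `A × B` lemma for automorphisms of a `p`-group. -/
theorem eq_one_of_axb {R : Type*} [Group R] [Finite R] {p : ℕ} [Fact p.Prime] (hR : IsPGroup p R)
    {a : MulAut R} (hco : (orderOf a).Coprime p) {B : Subgroup (MulAut R)} (hB : IsPGroup p B)
    (hcomm : ∀ b ∈ B, a * b = b * a) (hfix : ∀ r : R, (∀ b ∈ B, b r = r) → a r = r) : a = 1 := by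
  have : Finite (R ⋊[MonoidHom.id (MulAut R)] MulAut R) :=
    Finite.of_equiv _ SemidirectProduct.equivProd.symm
  let il : R →* R ⋊[MonoidHom.id (MulAut R)] MulAut R := SemidirectProduct.inl
  let ir : MulAut R →* R ⋊[MonoidHom.id (MulAut R)] MulAut R := SemidirectProduct.inr
  have hconj : ∀ (c : MulAut R) (r : R), ir c * il r * (ir c)⁻¹ = il (c r) := fun c r => by
    rw [← map_inv]
    exact (SemidirectProduct.inl_aut (φ := MonoidHom.id (MulAut R)) c r).symm
  have hn : ∀ c : MulAut R, ir c ∈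
      Subgroup.normalizer (il.range : Set (R ⋊[MonoidHom.id (MulAut R)] MulAut R)) := fun c =>
    mem_normalizer_of_forall (by
      rintro _ ⟨r, rfl⟩
      exact ⟨c r, (hconj c r).symm⟩)
  have hq := Local.commute_of_commute_fixedPoints (p := p) (U := B.map ir) (x := ir a) (hB.map ir)
    (fun u hu => by
      obtain ⟨b, hb, rfl⟩ := hu
      rw [← map_mul, ← map_mul, hcomm b hb])
    (by rwa [orderOf_injective ir SemidirectProduct.inr_injective])
    il.range (hR.of_surjective il.rangeRestrict il.rangeRestrict_surjective)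
    (by rintro _ ⟨b, -, rfl⟩; exact hn b) (hn a) fun q hq hc => by
      obtain ⟨r, rfl⟩ := hq
      have hr : a r = r := hfix r fun b hb => SemidirectProduct.inl_injective (φ := MonoidHom.id (MulAut R))
        (show il (b r) = il r by rw [← hconj, hc _ ⟨b, hb, rfl⟩, mul_inv_cancel_right])
      exact mul_inv_eq_iff_eq_mul.1 (by rw [hconj, hr])
  refine MulEquiv.ext fun (r : R) => SemidirectProduct.inl_injective (φ := MonoidHom.id (MulAut R)) ?_
  change il (a r) = il r
  rw [← hconj, hq (il r) ⟨r, rfl⟩, mul_inv_cancel_right]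

/-- Maps inside a subgroup move along an isomorphism of it. -/
theorem exists_transport {S : Subgroup Ω} {F : FusionSystem S} {A B D : Subgroup Ω} {e : A ≃* B}
    (he : IsIso F e) (hD : D ≤ A) {φ : D →* Ω} (hφ : φ ∈ F.Hom D) (hφA : ∀ x, φ x ∈ A) :
    ∃ φ' ∈ F.Hom (img (B.subtype.comp e.toMonoidHom) D),
      ∀ (x : D) (h : ((e ⟨x, hD x.2⟩ : B) : Ω) ∈ img (B.subtype.comp e.toMonoidHom) D),
        φ' ⟨(e ⟨x, hD x.2⟩ : B), h⟩ = ((e ⟨φ x, hφA x⟩ : B) : Ω) := by
  obtain ⟨f, hf, hfe⟩ := exists_iso_of_range (res_mem F he.mem hD)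
    (range_comp_inclusion (B.subtype.comp e.toMonoidHom) hD)
  refine ⟨_, F.comp_mem (F.comp_mem hf.symm.mem hφ fun y => (f.symm y).2) he.mem fun y => hφA _,
    fun x h => ?_⟩
  have h1 : (⟨((e ⟨x, hD x.2⟩ : B) : Ω), h⟩ : img (B.subtype.comp e.toMonoidHom) D) = f x :=
    Subtype.ext (hfe x).symm
  rw [h1]
  change ((e ⟨φ (⟨(f.symm (f x) : Ω), _⟩ : D), _⟩ : B) : Ω) = _
  exact congrArg (fun z : D => ((e ⟨φ z, hφA z⟩ : B) : Ω)) (f.symm_apply_apply x)

variable {S : Subgroup Ω} [Finite S] {F : FusionSystem S} {p : ℕ} [Fact p.Prime]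

/-- An element of order `p` of a normalized subgroup centralized by the normalizer. -/
theorem exists_central_orderOf (hS : IsPGroup p S) {U : Subgroup Ω} (hU : U ≤ S) (hne : U ≠ ⊥) :
    ∃ x ∈ U, orderOf x = p ∧ ∀ y ∈ normalizerIn S U, y * x = x * y := by
  set Y := normalizerIn S U
  have := finite_of_le (normalizerIn_le (S := S) U)
  have hYp : IsPGroup p Y := hS.to_le (normalizerIn_le U)
  have hn : (U.subgroupOf Y).Normal := ⟨fun u hu g => Subgroup.mem_subgroupOf.2
    (conj_mem_of_mem_normalizer g.2.2 hu)⟩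
  have hne' : U.subgroupOf Y ≠ ⊥ := by
    rw [Ne, Subgroup.subgroupOf_eq_bot, disjoint_iff, inf_eq_left.2 (le_normalizerIn hU)]
    exact hne
  obtain ⟨x, hx, hxo⟩ := PGroup.exists_orderOf_eq hYp (PGroup.inf_center_ne_bot hYp _ hne')
  exact ⟨x, hx.1, (Subgroup.orderOf_coe x).trans hxo, fun y hy =>
    congrArg Subtype.val (Subgroup.mem_center_iff.1 hx.2 ⟨y, hy⟩)⟩

/-- Normalizer systems are constrained when the centralizers of the order `p` subgroups are. -/
theorem isConstrained_normSys (hS : IsPGroup p S) (hF : F.IsSaturated p) {U : Subgroup Ω}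
    (hne : U ≠ ⊥) (hUn : F.IsFullyNormalized U)
    (hK : ∀ (X : Subgroup Ω) (hX : X ≤ S), Nat.card X = p → F.IsFullyNormalized X →
      (centSys F X rfl hX).IsConstrained p) :
    (normSys F U rfl hUn.1).IsConstrained p := by
  have hUS := hUn.1
  set Y := normalizerIn S U with hYdef
  set N : FusionSystem Y := normSys F U rfl hUS with hNdef
  have hNs : N.IsSaturated p := isSaturated_normSys hS hF hUn
  have hYS : Y ≤ S := normalizerIn_le U
  have := finite_of_le hYS
  have hYp : IsPGroup p Y := hS.to_le hYS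
  have hUY : U ≤ Y := le_normalizerIn hUS
  -- a central subgroup of order `p`, and its fully normalized conjugate
  obtain ⟨x, hxU, hxo, hxc⟩ := exists_central_orderOf hS hUS hne
  obtain ⟨X', hXX', hX'n⟩ :=
    exists_fullyNormalized F (Subgroup.zpowers_le.2 (hUS hxU) : Subgroup.zpowers x ≤ S)
  obtain ⟨e₀, hX0, he₀, ψ, hψ, hψe, -⟩ :=
    exists_hom_normalizerIn_of_fullyNormalized hS hF hX'n hXX'
  have hYX : Y ≤ normalizerIn S (Subgroup.zpowers x) := fun y hy =>
    ⟨hYS hy, mem_normalizer_of_forall_commute fun z hz => by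
      obtain ⟨i, rfl⟩ := Subgroup.mem_zpowers_iff.1 hz
      exact (Commute.zpow_left (hxc y hy).symm i)⟩
  obtain ⟨χ, hχ, hχe⟩ : ∃ χ ∈ F.Hom Y, ∀ (w : Y) (hw : (w : Ω) ∈ Subgroup.zpowers x),
      χ w = e₀ ⟨w, hw⟩ :=
    ⟨_, res_mem F hψ hYX, fun w hw => Eq.trans (congrArg ψ (Subtype.ext rfl)) (hψe ⟨w, hw⟩)⟩
  obtain ⟨Y', hY'def⟩ : ∃ Y', Y' = χ.range := ⟨_, rfl⟩
  obtain ⟨f, hf, hfe⟩ := exists_iso_of_range hχ hY'def.symm
  let ef : Y →* Ω := Y'.subtype.comp f.toMonoidHom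
  have hY'S : Y' ≤ S := hf.le_right
  have hxY : x ∈ Y := hUY hxU
  have hX'card : Nat.card X' = p := by
    rw [← card_eq_of_isConj hXX', Nat.card_zpowers, hxo]
  have hXY : Subgroup.zpowers x ≤ Y := Subgroup.zpowers_le.2 hxY
  have hX'mem : ∀ z ∈ X', ∃ w : Y, (w : Ω) ∈ Subgroup.zpowers x ∧ (f w : Ω) = z := by
    intro z hz
    obtain ⟨w, hw⟩ := e₀.surjective ⟨z, hz⟩
    refine ⟨⟨w, hXY w.2⟩, w.2, (hfe _).trans ((hχe _ w.2).trans ?_)⟩
    exact congrArg Subtype.val hw
  have hYcomm : ∀ y ∈ Y, ∀ w ∈ Subgroup.zpowers x, y * w = w * y := fun y hy w hw => by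
    obtain ⟨i, rfl⟩ := Subgroup.mem_zpowers_iff.1 hw
    exact ((Commute.zpow_left (hxc y hy).symm i).eq).symm
  have hY'C : Y' ≤ centralizerIn S X' := fun y hy => by
    refine ⟨hY'S hy, fun z hz => ?_⟩
    obtain ⟨w, hw, rfl⟩ := hX'mem z hz
    obtain ⟨v, hv⟩ := f.surjective ⟨y, hy⟩
    rw [show y = (f v : Ω) from (congrArg Subtype.val hv).symm, ← Subgroup.coe_mul,
      ← Subgroup.coe_mul, ← map_mul, ← map_mul,
      show w * v = v * w from Subtype.ext (hYcomm v v.2 w hw).symm]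
  set K := centSys F X' rfl hX'n.1 with hKdef
  have hKc : K.IsConstrained p := hK X' hX'n.1 hX'card hX'n
  have := finite_of_le (centralizerIn_le (S := S) X')
  set R := K.core with hRdef
  have hRc : centralizerIn (centralizerIn S X') R ≤ R := centralizerIn_core_le hKc
  have hRn : K.IsNormal R := isNormal_core
  have hRC : R ≤ centralizerIn S X' := hRn.1
  -- the image of `U`
  set U' := img ef U with hU'def
  have hU'Y' : U' ≤ Y' := by
    intro y hy
    obtain ⟨u, -, rfl⟩ := mem_img.1 hy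
    exact (f u).2
  have hNU' : normalizerIn S U' = Y' := by
    have hconj : F.IsConj U U' :=
      ⟨_, res_mem F hf.mem hUY, range_comp_inclusion ef hUY⟩
    have := finite_of_le (normalizerIn_le (S := S) U')
    refine (Subgroup.eq_of_le_of_card_ge (fun y hy => ?_) ?_).symm
    · refine ⟨hY'S hy, ?_⟩
      have := finite_of_le (hU'Y'.trans hY'S)
      refine mem_normalizer_of_forall fun z hz => ?_
      obtain ⟨u, hu, rfl⟩ := mem_img.1 hz
      obtain ⟨v, hv⟩ := f.surjective ⟨y, hy⟩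
      rw [show y = ef v from (congrArg Subtype.val hv).symm, ← map_inv, ← map_mul, ← map_mul]
      exact apply_mem_img ef (conj_mem_of_mem_normalizer v.2.2 hu)
    · exact (hUn.2 U' hconj).trans (Nat.card_congr f.toEquiv).le
  -- the largest normal subgroup of `N`, and its centralizer
  set Q := N.core with hQdef
  have hQn : N.IsNormal Q := isNormal_core
  have hQY : Q ≤ Y := hQn.1
  have hUQ : U ≤ Q := le_sSup (show N.IsNormal U from isNormal_normalizerSystem (F := F) (E := normSys F U rfl hUS) hUS fun P => rfl)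
  set V := centralizerIn Y Q with hVdef
  set M := centSys N Q rfl hQY with hMdef
  have hVY : V ≤ Y := centralizerIn_le Q
  have hMn : M.IsNormalIn N p := CoreCent.isNormalIn_centSys hYp hNs hQn
  have := finite_of_le hVY
  set Q' := img ef Q with hQ'def
  have hQ'Y' : Q' ≤ Y' := by
    intro y hy
    obtain ⟨u, -, rfl⟩ := mem_img.1 hy
    exact (f u).2
  have hU'Q' : U' ≤ Q' := img_mono ef hUQ
  have hX'Q' : X' ≤ Q' := fun z hz => by
    obtain ⟨w, hw, rfl⟩ := hX'mem z hz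
    exact apply_mem_img ef (hUQ (Subgroup.zpowers_le.2 hxU hw))
  have hQ'C : Q' ≤ centralizerIn S X' := hQ'Y'.trans hY'C
  -- elements of `C_{S}(X')` commuting with `Q'` come from `V`
  have hback : ∀ z ∈ S, (∀ q ∈ Q', q * z = z * q) → ∃ v : Y, (v : Ω) ∈ V ∧ (f v : Ω) = z := by
    intro z hz hc
    have hzY : z ∈ Y' := hNU' ▸ (⟨hz, mem_normalizer_of_forall_commute fun u hu =>
      hc u (hU'Q' hu)⟩ : z ∈ normalizerIn S U')
    obtain ⟨v, hv⟩ := f.surjective ⟨z, hzY⟩
    have hve : (f v : Ω) = z := congrArg Subtype.val hv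
    refine ⟨v, ⟨v.2, fun q hq => ?_⟩, hve⟩
    have h1 := hc _ (apply_mem_img ef (x := ⟨q, hQY hq⟩) hq)
    rw [← hve] at h1
    have h2 : f (⟨q, hQY hq⟩ * v) = f (v * ⟨q, hQY hq⟩) := by
      rw [map_mul, map_mul]
      exact Subtype.ext h1
    exact congrArg Subtype.val (f.injective h2)
  -- maps of `M` extend in `K` over `Q'` and `R`
  have hext : ∀ (P : Subgroup Ω) (φ : P →* Ω), φ ∈ M.Hom P → ∀ hPY : P ≤ Y,
      ∀ hφY : ∀ y, φ y ∈ Y,
      ∃ ω ∈ K.Hom (img ef P ⊔ Q' ⊔ R),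
        (∀ y : P, ω ⟨(f ⟨y, hPY y.2⟩ : Ω), Subgroup.mem_sup_left (Subgroup.mem_sup_left
          (apply_mem_img ef (x := ⟨y, hPY y.2⟩) y.2))⟩ = ((f ⟨φ y, hφY y⟩ : Y') : Ω)) ∧
        (∀ q : Q', ω ⟨q, Subgroup.mem_sup_left (Subgroup.mem_sup_right q.2)⟩ = q) ∧
        img ω R = R := by
    rintro P φ ⟨-, -, -, ψ₁, hψ₁, hψ₁e, hψ₁Q⟩ hPY hφY
    have hPQY : P ⊔ Q ≤ Y := sup_le hPY hQY
    have hψ₁Y : ∀ y, ψ₁ y ∈ Y := fun y => hψ₁.2.2.1 y
    obtain ⟨φ', hφ', hφ'e⟩ := exists_transport hf hPQY hψ₁.1 hψ₁Y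
    have hW : img ef (P ⊔ Q) = img ef P ⊔ Q' := img_sup ef hPY hQY
    let φ'' : ↥(img ef P ⊔ Q') →* Ω := φ'.comp (Subgroup.inclusion hW.ge)
    have hφ'' : φ'' ∈ F.Hom (img ef P ⊔ Q') := res_mem F hφ' hW.ge
    have hfixQ : ∀ q : Q', φ'' ⟨q, Subgroup.mem_sup_right q.2⟩ = q := by
      intro q
      obtain ⟨v, hv, hvq⟩ := mem_img.1 q.2
      have h1 := hφ'e ⟨v, le_sup_right (a := P) hv⟩
        (apply_mem_img ef (x := v) (le_sup_right (a := P) hv))
      refine Eq.trans ?_ (h1.trans ?_)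
      · exact congrArg φ' (Subtype.ext hvq.symm)
      · refine Eq.trans ?_ hvq
        exact congrArg (fun z : Y => ((f z : Y') : Ω)) (Subtype.ext (hψ₁Q ⟨v, hv⟩))
    have hleC : img ef P ⊔ Q' ≤ centralizerIn S X' := sup_le (fun y hy => by
      obtain ⟨u, -, rfl⟩ := mem_img.1 hy
      exact hY'C (f u).2) hQ'C
    have hφ''Y : ∀ y, φ'' y ∈ Y' := by
      rintro ⟨y, hy⟩
      obtain ⟨u, hu, rfl⟩ := mem_img.1 (hW.ge hy)
      refine (congrArg (· ∈ Y') (hφ'e ⟨u, hu⟩ (apply_mem_img ef (x := u) hu))).mpr ?_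
      exact (f _).2
    have hKφ : φ'' ∈ K.Hom (img ef P ⊔ Q') := by
      have hle : (img ef P ⊔ Q') ⊔ X' ≤ img ef P ⊔ Q' :=
        sup_le le_rfl (hX'Q'.trans le_sup_right)
      refine ⟨hφ'', hleC, fun y => hY'C (hφ''Y y), _, res_mem F hφ'' hle,
        fun y => congrArg φ'' (Subtype.ext rfl), fun z => ?_⟩
      exact (congrArg φ'' (Subtype.ext rfl)).trans (hfixQ ⟨z, hX'Q' z.2⟩)
    obtain ⟨ω, hω, hωe, hωR⟩ := hRn.2 _ φ'' hKφ
    refine ⟨ω, hω, fun y => ?_, fun q => (hωe ⟨q, _⟩).trans (hfixQ q), hωR⟩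
    refine (hωe ⟨_, Subgroup.mem_sup_left (apply_mem_img ef (x := ⟨y, hPY y.2⟩) y.2)⟩).trans
      ((hφ'e ⟨y, le_sup_left (b := Q) y.2⟩ _).trans ?_)
    exact congrArg (fun z : Y => ((f z : Y') : Ω)) (Subtype.ext (hψ₁e y))
  -- the part of `V` going into `R`
  set R₁ := V ⊓ (R.comap ef).map Y.subtype with hR₁def
  have hR₁n : M.IsNormal R₁ := by
    refine ⟨inf_le_left, fun P φ hφ => ?_⟩
    have hPV : P ≤ V := le_S M hφ
    have hPY : P ≤ Y := hPV.trans hVY
    have hR₁Y : R₁ ≤ Y := inf_le_left.trans hVY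
    have hφY : ∀ y, φ y ∈ Y := fun y => hVY (apply_mem_S M hφ y)
    obtain ⟨ω, hω, hωP, hωQ, hωR⟩ := hext P φ hφ hPY hφY
    set D := P ⊔ R₁ ⊔ Q
    have hDY : D ≤ Y := sup_le (sup_le hPY hR₁Y) hQY
    have hR₁R : ∀ y : Y, (y : Ω) ∈ R₁ → ef y ∈ R := by
      rintro y ⟨-, w, hw, hwy⟩
      rw [← show w = y from Subtype.ext hwy]
      exact hw
    have hle : img ef D ≤ img ef P ⊔ Q' ⊔ R := by
      rw [img_sup ef (sup_le hPY hR₁Y) hQY, img_sup ef hPY hR₁Y]
      refine sup_le (sup_le (le_sup_left.trans le_sup_left) ?_) (le_sup_right.trans le_sup_left)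
      intro y hy
      obtain ⟨u, hu, rfl⟩ := mem_img.1 hy
      exact Subgroup.mem_sup_right (hR₁R u hu)
    -- images of `R₁`
    have himR : ∀ y : Y, (y : Ω) ∈ R₁ → ∀ h : ef y ∈ img ef P ⊔ Q' ⊔ R,
        ∃ v : Y, (v : Ω) ∈ R₁ ∧ (f v : Ω) = ω ⟨ef y, h⟩ := by
      intro y hy h
      have hr : ω ⟨ef y, h⟩ ∈ R := hωR.le (apply_mem_img ω (hR₁R y hy))
      obtain ⟨v, hv, hve⟩ := hback _ (hRC hr).1 fun q hq => by
          have hq' := hωQ ⟨q, hq⟩
          change _ = q at hq'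
          rw [← hq', ← map_mul, ← map_mul]
          refine congrArg ω (Subtype.ext ?_)
          obtain ⟨u, hu, rfl⟩ := mem_img.1 hq
          change ef u * ef y = ef y * ef u
          rw [← map_mul, ← map_mul, show u * y = y * u from Subtype.ext (hy.1.2 u hu)]
      refine ⟨v, ⟨hv, v, ?_, rfl⟩, hve⟩
      change ((f v : Y') : Ω) ∈ R
      rw [hve]
      exact hr
    obtain ⟨g, hg, hge⟩ : ∃ g ∈ F.Hom D, ∀ (y : D) (h : ef ⟨y, hDY y.2⟩ ∈ img ef P ⊔ Q' ⊔ R)
        (h' : ω ⟨_, h⟩ ∈ Y'), g y = ((f.symm ⟨_, h'⟩ : Y) : Ω) := by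
      have hv : ∀ y : D, ω ⟨ef ⟨y, hDY y.2⟩, hle (apply_mem_img ef y.2)⟩ ∈ Y' := by
        have hsub : D ≤ (((Y'.comap ω).map (img ef P ⊔ Q' ⊔ R).subtype).comap ef).map Y.subtype := by
          refine sup_le (sup_le (fun y hy => ⟨⟨y, hPY hy⟩, ⟨⟨_, Subgroup.mem_sup_left
              (Subgroup.mem_sup_left (apply_mem_img ef (x := ⟨y, hPY hy⟩) hy))⟩, ?_, rfl⟩, rfl⟩)
            fun y hy => ⟨⟨y, hR₁Y hy⟩, ⟨⟨_, Subgroup.mem_sup_right (hR₁R ⟨y, hR₁Y hy⟩ hy)⟩, ?_, rfl⟩,
              rfl⟩) fun y hy => ⟨⟨y, hQY hy⟩, ⟨⟨_, Subgroup.mem_sup_left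
                (Subgroup.mem_sup_right (apply_mem_img ef (x := ⟨y, hQY hy⟩) hy))⟩, ?_, rfl⟩, rfl⟩
          · exact (congrArg (· ∈ Y') (hωP ⟨y, hy⟩)).mpr (f _).2
          · obtain ⟨v, -, hve⟩ := himR ⟨y, hR₁Y hy⟩ hy _
            exact (congrArg (· ∈ Y') hve).mp (f v).2
          · exact (congrArg (· ∈ Y') (hωQ ⟨_, apply_mem_img ef (x := ⟨y, hQY hy⟩) hy⟩)).mpr
              (hQ'Y' (apply_mem_img ef (x := ⟨y, hQY hy⟩) hy))
        intro y
        obtain ⟨u, ⟨w, hw, hwu⟩, huy⟩ := hsub y.2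
        rw [show (⟨ef ⟨y, hDY y.2⟩, hle (apply_mem_img ef y.2)⟩ : ↥(img ef P ⊔ Q' ⊔ R)) = w from
          Subtype.ext ((congrArg ef (Subtype.ext huy.symm)).trans hwu.symm)]
        exact hw
      have h1 := F.comp_mem (res_mem F hf.mem hDY) hω.1 fun y => hle (apply_mem_img ef y.2)
      exact ⟨_, F.comp_mem h1 hf.symm.mem hv, fun y h h' => rfl⟩
    have hval : ∀ (y : D) (z : Y), (∀ h, ω ⟨ef ⟨y, hDY y.2⟩, h⟩ = (f z : Ω)) → g y = z := by
      intro y z hz
      have h := hle (apply_mem_img ef (x := ⟨y, hDY y.2⟩) y.2)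
      rw [hge y h (hz h ▸ (f z).2), show (⟨ω ⟨_, h⟩, hz h ▸ (f z).2⟩ : Y') = f z from
        Subtype.ext (hz h), MulEquiv.symm_apply_apply]
    have hgP : ∀ y : P, g ⟨y, le_sup_left (b := Q) (le_sup_left (b := R₁) y.2)⟩ = φ y :=
      fun y => hval _ ⟨φ y, hφY y⟩ fun h => hωP y
    have hgQ : ∀ q : Q, g ⟨q, le_sup_right (a := P ⊔ R₁) q.2⟩ = q :=
      fun q => hval _ ⟨q, hQY q.2⟩ fun h =>
        hωQ ⟨_, apply_mem_img ef (x := ⟨q, hQY q.2⟩) q.2⟩
    have hgR : ∀ r : R₁, g ⟨r, le_sup_left (b := Q) (le_sup_right (a := P) r.2)⟩ ∈ R₁ := by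
      intro r
      obtain ⟨v, hv, hve⟩ := himR ⟨r, hR₁Y r.2⟩ r.2 (Subgroup.mem_sup_right (hR₁R _ r.2))
      rw [hval _ v fun h => hve.symm]
      exact hv
    have hgY : ∀ y, g y ∈ Y := fun y => by
      have h := hle (apply_mem_img ef (x := ⟨y, hDY y.2⟩) y.2)
      have hsub : D ≤ (Y.comap g).map D.subtype := sup_le (sup_le
        (fun z hz => ⟨⟨z, _⟩, (congrArg (· ∈ Y) (hgP ⟨z, hz⟩)).mpr (hφY _), rfl⟩)
        fun z hz => ⟨⟨z, _⟩, hR₁Y (hgR ⟨z, hz⟩), rfl⟩)
        fun z hz => ⟨⟨z, _⟩, (congrArg (· ∈ Y) (hgQ ⟨z, hz⟩)).mpr (hQY hz), rfl⟩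
      obtain ⟨w, hw, hwy⟩ := hsub y.2
      exact (Subtype.ext hwy : w = y) ▸ hw
    have hgU : img g U = U :=
      img_eq_of_forall_fixed (hUQ.trans le_sup_right) fun u => hgQ ⟨u, hUQ u.2⟩
    have hgN : g ∈ N.Hom D := by
      have hle' : D ⊔ U ≤ D := sup_le le_rfl (hUQ.trans le_sup_right)
      refine ⟨hg, hDY, hgY, _, res_mem F hg hle', fun y => congrArg g (Subtype.ext rfl), ?_⟩
      exact (img_eq_of_forall_fixed le_sup_right fun u =>
        (congrArg g (Subtype.ext rfl)).trans (hgQ ⟨u, hUQ u.2⟩))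
    have hPR : P ⊔ R₁ ≤ D := le_sup_left
    have hPRV : P ⊔ R₁ ≤ V := sup_le hPV inf_le_left
    refine ⟨g.comp (Subgroup.inclusion hPR), ⟨res_mem N hgN hPR, hPRV, fun y => ?_, g, hgN,
      fun y => rfl, hgQ⟩, hgP, ?_⟩
    · refine ⟨hgY _, fun q hq => ?_⟩
      change q * g _ = g _ * q
      have hq' := hgQ ⟨q, hq⟩
      change _ = q at hq'
      rw [← hq', ← map_mul, ← map_mul]
      exact congrArg g (Subtype.ext ((hPRV y.2).2 q hq))
    · have := finite_of_le hR₁Y
      have hinj : Function.Injective (g.comp (Subgroup.inclusion hPR)) :=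
        (F.injective_of_mem hg).comp (Subgroup.inclusion_injective _)
      refine Subgroup.eq_of_le_of_card_ge ?_ (card_img hinj le_sup_right).ge
      intro y hy
      obtain ⟨r, hr, rfl⟩ := mem_img.1 hy
      exact hgR ⟨r, hr⟩
  have hR₁Q : R₁ ≤ Q :=
    LE.le.trans' (le_sSup (isNormal_closure_of_weaklyNormal hYp hMn.1 hR₁n))
      (fun r hr => Subgroup.subset_closure
        ⟨R₁.subtype, id_mem N (hR₁n.1.trans hVY), ⟨r, hr⟩, rfl⟩)
  -- the coprime automorphisms in `M` are trivial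
  have hpg : ∀ P : Subgroup Ω, P ≤ V → IsPGroup p (M.autGroup P) := by
    intro P hPV
    have := finite_of_le (hPV.trans hVY)
    refine isPGroup_of_no_coprime fun a ha => Subtype.ext (MulEquiv.ext fun w => ?_)
    rw [← Subgroup.orderOf_coe] at ha
    have hPY := hPV.trans hVY
    set P' := img ef P with hP'def
    set W := P' ⊔ Q' ⊔ R with hWdef
    obtain ⟨ω, hω, hωP, hωQ, hωR⟩ := hext P _ ((mem_autGroup_iff M hPV).1 a.2) hPY
      fun y => hPY ((a : MulAut P) y).2
    have hWC : W ≤ centralizerIn S X' := le_S K hω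
    have := finite_of_le (hWC.trans (centralizerIn_le X'))
    have hωr : ω.range = W := by
      refine Subgroup.eq_of_le_of_card_ge ?_
        (Nat.card_congr (MonoidHom.ofInjective (K.injective_of_mem hω)).toEquiv).le
      rintro _ ⟨z, rfl⟩
      have hle : W ≤ (W.comap ω).map W.subtype := by
        refine sup_le (sup_le (fun y hy => ?_) fun y hy => ?_) fun y hy => ?_
        · obtain ⟨u, hu, rfl⟩ := mem_img.1 hy
          refine ⟨⟨_, Subgroup.mem_sup_left (Subgroup.mem_sup_left hy)⟩, ?_, rfl⟩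
          refine (congrArg (· ∈ W) (hωP ⟨u, hu⟩)).mpr ?_
          exact Subgroup.mem_sup_left (Subgroup.mem_sup_left (apply_mem_img ef
            (x := ⟨_, hPY ((a : MulAut P) ⟨u, hu⟩).2⟩) ((a : MulAut P) ⟨u, hu⟩).2))
        · refine ⟨⟨_, Subgroup.mem_sup_left (Subgroup.mem_sup_right hy)⟩, ?_, rfl⟩
          exact (congrArg (· ∈ W) (hωQ ⟨y, hy⟩)).mpr
            (Subgroup.mem_sup_left (Subgroup.mem_sup_right hy))
        · exact ⟨⟨y, Subgroup.mem_sup_right hy⟩,
            Subgroup.mem_sup_right (hωR.le (apply_mem_img ω hy)), rfl⟩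
      obtain ⟨z', hz', hzz⟩ := hle z.2
      exact (Subtype.ext hzz : z' = z) ▸ hz'
    obtain ⟨β₀, hβ₀, hβ₀e⟩ := exists_iso_of_range hω hωr
    let β : MulAut W := β₀
    obtain ⟨e', -, he'e⟩ := exists_iso_of_range (res_mem F hf.mem hPY)
      (range_comp_inclusion ef hPY)
    have hext' : ∀ y : P', β (Subgroup.inclusion (le_sup_left.trans le_sup_left) y) =
        Subgroup.inclusion (le_sup_left.trans le_sup_left : P' ≤ W)
          (MulAut.congr e' (a : MulAut P) y) := by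
      intro y
      obtain ⟨u, rfl⟩ := e'.surjective y
      refine Subtype.ext ((hβ₀e _).trans ?_)
      change _ = ((e' ((a : MulAut P) (e'.symm (e' u))) : P') : Ω)
      rw [MulEquiv.symm_apply_apply, he'e]
      exact (congrArg ω (Subtype.ext (he'e u))).trans (hωP u)
    obtain ⟨n, hn, hne'⟩ := exists_coprime_power_extending (p := p) _ hext'
      (by rwa [MulEquiv.orderOf_eq])
    have hβK : β ^ n ∈ K.autGroup W := pow_mem ((mem_autGroup_iff K hWC).2 hβ₀) n
    have hβQ : ∀ z : W, (z : Ω) ∈ Q' → (β ^ n) z = z :=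
      pow_apply_of_fixed_on (fun z hz => Subtype.ext ((hβ₀e z).trans (hωQ ⟨z, hz⟩))) n
    have hRsc : K.StronglyClosed R := stronglyClosed_of_isNormal hRn
    obtain ⟨c, hc, hce⟩ := exists_iso_of_range
      (res_mem K ((mem_autGroup_iff K hWC).1 hβK) (le_sup_right : R ≤ W))
      ((weaklyClosed_of_stronglyClosed hRsc).2 _
        (res_mem K ((mem_autGroup_iff K hWC).1 hβK) (le_sup_right : R ≤ W)))
    have := finite_of_le (hRC.trans (centralizerIn_le X'))
    have hRW : R ≤ W := le_sup_right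
    have hcW : ∀ r : R, Subgroup.inclusion hRW (c r) = (β ^ n) (Subgroup.inclusion hRW r) :=
      fun r => Subtype.ext (hce r)
    have hcpow : ∀ (m : ℕ) (r : R), Subgroup.inclusion hRW (((c : MulAut R) ^ m) r) =
        ((β ^ n) ^ m) (Subgroup.inclusion hRW r) := by
      intro m
      induction m with
      | zero => intro r; rfl
      | succ m ih =>
        intro r
        rw [pow_succ, MulAut.mul_apply, pow_succ, MulAut.mul_apply, ih, hcW]
    have hc1 : (c : MulAut R) = 1 := by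
      refine eq_one_of_axb (hS.to_le (hRC.trans (centralizerIn_le X'))) ?_
        (isPGroup_autInducedBy (hS.to_le (hQ'C.trans (centralizerIn_le X'))) R) ?_ ?_
      · refine Nat.Coprime.coprime_dvd_left (orderOf_dvd_of_pow_eq_one (MulEquiv.ext fun r => ?_)) hn
        refine Subgroup.inclusion_injective hRW ?_
        rw [hcpow, pow_orderOf_eq_one]
        rfl
      · intro b hb
        obtain ⟨q, hq, hqe⟩ := mem_autInducedBy_iff.1 hb
        refine MulEquiv.ext fun r => Subtype.ext ?_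
        rw [MulAut.mul_apply, MulAut.mul_apply, hqe (c r)]
        set zq : W := ⟨q, Subgroup.mem_sup_left (Subgroup.mem_sup_right hq)⟩
        have h1 : Subgroup.inclusion hRW (b r) = zq * Subgroup.inclusion hRW r * zq⁻¹ :=
          Subtype.ext (hqe r)
        have h2 := hcW (b r)
        rw [h1, map_mul, map_mul, map_inv, hβQ zq hq, ← hcW] at h2
        exact congrArg Subtype.val h2
      · intro r hr
        refine Subgroup.inclusion_injective hRW ((hcW r).trans (hβQ _ ?_))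
        have hrc : ∀ q ∈ Q', q * (r : Ω) = r * q := by
          intro q hq
          have hqn : q ∈ Subgroup.normalizer (R : Set Ω) :=
            le_normalizer_of_stronglyClosed hRsc (hQ'C hq)
          have h1 := hr _ (mem_autInducedBy_iff.2 ⟨q, hq, fun _ => normAut_apply q hqn _⟩)
          exact mul_inv_eq_iff_eq_mul.1 ((normAut_apply q hqn r).symm.trans (congrArg Subtype.val h1))
        obtain ⟨v, hv, hve⟩ := hback r (centralizerIn_le X' (hRC r.2)) hrc
        change (r : Ω) ∈ Q'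
        rw [← hve]
        exact apply_mem_img ef (hR₁Q ⟨hv, v, (show ef v ∈ R from (show ef v = r from hve) ▸ r.2),
          rfl⟩)
    have hβR : ∀ z : W, (z : Ω) ∈ R → (β ^ n) z = z := by
      intro z hz
      have := hcW ⟨z, hz⟩
      rw [hc1] at this
      exact this.symm
    have hPW : P' ≤ W := le_sup_left.trans le_sup_left
    set y : W := Subgroup.inclusion hPW (e' w)
    have hd : (β ^ n) (y⁻¹ * (β ^ n) y) = y⁻¹ * (β ^ n) y := by
      have hmem : ((y⁻¹ * (β ^ n) y : W) : Ω) ∈ R := by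
        refine hRc ⟨hWC (y⁻¹ * (β ^ n) y).2, fun r hr => ?_⟩
        set zr : W := ⟨r, hRW hr⟩
        have hyn : ((y * zr * y⁻¹ : W) : Ω) ∈ R := conj_mem_of_mem_normalizer
          (le_normalizer_of_stronglyClosed hRsc (hWC y.2)) hr
        have h1 := hβR _ hyn
        rw [map_mul, map_mul, map_inv, hβR zr hr] at h1
        have h2 : zr * (y⁻¹ * (β ^ n) y) = y⁻¹ * (β ^ n) y * zr := by
          calc zr * (y⁻¹ * (β ^ n) y) = y⁻¹ * (y * zr * y⁻¹) * (β ^ n) y := by group
            _ = y⁻¹ * ((β ^ n) y * zr * ((β ^ n) y)⁻¹) * (β ^ n) y := by rw [h1]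
            _ = y⁻¹ * (β ^ n) y * zr := by group
        exact congrArg Subtype.val h2
      exact hβR _ hmem
    have h3 := apply_eq_of_diff_fixed (hS.to_le (hWC.trans (centralizerIn_le X'))) hn hd
    rw [hne', Subgroup.inclusion_inj] at h3
    change MulAut.congr e' (a : MulAut P) (e' w) = e' w at h3
    change (a : MulAut P) w = w
    rw [show MulAut.congr e' (a : MulAut P) (e' w) = e' ((a : MulAut P) w) from
      congrArg (fun z => e' ((a : MulAut P) z)) (e'.symm_apply_apply w)] at h3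
    exact e'.injective h3
  -- conclusion
  have hin := eq_inner_of_isPGroup (hYp.to_le hVY) hMn.1.1 hpg
  have hVM : M.IsNormal V := by
    refine ⟨le_rfl, fun P φ hφ => ?_⟩
    rw [hin] at hφ
    obtain ⟨hP, g, hg, hge⟩ := hφ
    refine ⟨conjHom (P ⊔ V) g, M.conj_mem (sup_le hP le_rfl) hg, fun y => (hge y).symm, ?_⟩
    ext y
    constructor
    · rintro ⟨z, hz, rfl⟩
      exact V.mul_mem (V.mul_mem hg hz) (V.inv_mem hg)
    · intro hy
      have h1 := V.mul_mem (V.mul_mem (V.inv_mem hg) hy) hg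
      refine ⟨⟨g⁻¹ * y * g, le_sup_right (a := P) h1⟩, h1, ?_⟩
      change g * (g⁻¹ * y * g) * g⁻¹ = y
      group
  refine isConstrained_of_centralizerIn_le hNs hQn ?_
  refine LE.le.trans' (le_sSup (isNormal_closure_of_weaklyNormal hYp hMn.1 hVM)) ?_
  exact fun v hv => Subgroup.subset_closure ⟨V.subtype, id_mem N hVY, ⟨v, hv⟩, rfl⟩

/-- **Characteristic `p`-type or component type.** -/
theorem characteristicPType_or_componentType (hS : IsPGroup p S) (hF : F.IsSaturated p) :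
    F.IsOfCharacteristicPType p ∨ F.IsOfComponentType p := by
  by_cases hc : F.IsOfComponentType p
  · exact Or.inr hc
  refine Or.inl fun U hne hUn N hN => ?_
  rw [show N = normSys F U rfl hUn.1 from ext_hom hN]
  refine isConstrained_normSys hS hF hne hUn fun X hX hcard hXn => ?_
  by_contra hnc
  have := finite_of_le (centralizerIn_le (S := S) X)
  obtain ⟨T, C, hC⟩ := exists_component _ (centSys F X rfl hX) rfl
    (hS.to_le (centralizerIn_le X))
    (isSaturated_centSys hS hF rfl hX (fullyCentralized_of_fullyNormalized hS hF hXn)) hnc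
  exact hc ⟨X, hcard, hXn, _, fun _ => rfl, T, C, hC⟩

end CfsgLib.Fusion.CentralLift
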