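import Cfsg.Agent.Lib.Fusion.CentralLift.Component
import Cfsg.Agent.Lib.Fusion.Product
import Cfsg.Agent.Lib.Fusion.InnerSat
import Cfsg.Prelude.Def_FusionFitting

/-!
# Constrained systems and the generalized Fitting subsystem
-/

set_option autoImplicit false

open Cfsg Cfsg.FusionSystem

namespace CfsgLib.Fusion.CentralLift

variable {Ω : Type*} [Group Ω] {S : Subgroup Ω} [Finite S] {F : FusionSystem S} {p : ℕ}
  [Fact p.Prime]

/-- Without components the layer is the system over the trivial subgroup. -/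
theorem isLayerOf_bot (hS : IsPGroup p S) (hF : F.IsSaturated p)
    (hno : ¬ ∃ (T : Subgroup Ω) (C : FusionSystem T), C.IsComponentIn F p) :
    (innerFusionSystem (⊥ : Subgroup Ω)).IsLayerOf F p := by
  have hbS : (⊥ : Subgroup Ω) ≤ S := bot_le
  have := finite_of_le hbS
  have hsc : F.StronglyClosed ⊥ := stronglyClosed_of_isNormal isNormal_bot
  have h1 : ∀ {x : Ω}, x ∈ (⊥ : Subgroup Ω) → x = 1 := fun hx => Subgroup.mem_bot.1 hx
  have hin : ∀ {P : Subgroup Ω}, P ≤ ⊥ → ∀ φ : P →* Ω, φ ∈ (innerFusionSystem (⊥ : Subgroup Ω)).Hom P :=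
    fun {P} hP φ => ⟨hP, 1, one_mem _, fun x => by
      have hx : x = 1 := Subtype.ext (h1 (hP x.2))
      rw [hx, map_one, OneMemClass.coe_one, mul_one, inv_one, mul_one]⟩
  refine ⟨⟨⟨isSaturated_inner (hS.to_le hbS), hF, fun P φ hφ => ?_, hsc,
    fun P _ φ _ α _ => ⟨Subgroup.subtype _, hin (by rintro _ ⟨z, -, rfl⟩; exact (α z).2) _,
      fun x hφx hαx => ?_⟩, fun P hP φ hφ => ?_⟩, fun α _ => ?_⟩,
    fun U C hC => absurd ⟨U, C, hC⟩ hno, fun R D hD _ P φ hφ => ?_⟩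
  · obtain ⟨hP, g, hg, hge⟩ := hφ
    exact innerFusionSystem_le F P ⟨hP.trans hbS, g, hbS hg, hge⟩
  · exact ((h1 (α _).2).trans (h1 (α _).2).symm)
  · refine ⟨1, one_mem _, φ, hin hP φ, fun x hx => rfl⟩
  · refine ⟨1, one_mem _, fun x => ?_, fun c _ => by simp⟩
    exact (h1 x.2).trans (h1 (α x).2).symm
  · obtain ⟨hP, g, -, hge⟩ := hφ
    refine mem_of_eq rfl (id_mem D (hP.trans bot_le)) fun x => ?_
    have hx : x = 1 := Subtype.ext (h1 (hP x.2))
    rw [hx, map_one, map_one]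

omit [Fact p.Prime] [Finite S] in
/-- A central product with the trivial system changes nothing. -/
theorem isCentralProductOf_bot (A : Subgroup Ω) :
    IsCentralProductOf (innerFusionSystem A) (innerFusionSystem (⊥ : Subgroup Ω))
      (innerFusionSystem A) := by
  let θ : ↥(A.prod (⊥ : Subgroup Ω)) →* Ω :=
    (MonoidHom.fst Ω Ω).comp (A.prod (⊥ : Subgroup Ω)).subtype
  have h2 : ∀ x : ↥(A.prod (⊥ : Subgroup Ω)), (x : Ω × Ω).2 = 1 := fun x => Subgroup.mem_bot.1 x.2.2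
  refine ⟨productSystem _ _, isProductSystem_productSystem _ _, ⊥, θ, bot_le, bot_inf_eq _,
    bot_inf_eq _, fun x _ => rfl, fun y hy => (Subgroup.mem_bot.1 hy.2).symm, bot_le,
    fun s => ⟨fun h => Subgroup.mem_bot.2 (Prod.ext h (h2 s)),
      fun h => congrArg Prod.fst (Subgroup.mem_bot.1 h)⟩, ?_, fun P' φ' => ⟨?_, ?_⟩⟩
  · ext y
    exact ⟨by rintro ⟨s, rfl⟩; exact s.2.1,
      fun hy => ⟨⟨(y, 1), hy, one_mem _⟩, rfl⟩⟩
  · rintro ⟨hP, g, hg, hge⟩
    refine ⟨hP, conjHom _ (g, 1), (productSystem _ _).conj_mem (Subgroup.map_subtype_le _)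
      ⟨hg, one_mem _⟩, Subgroup.map_subtype_le _, fun x => ?_, fun x => ?_, fun x => ?_⟩
    · exact (A.prod ⊥).mul_mem ((A.prod ⊥).mul_mem ⟨hg, one_mem _⟩
        (Subgroup.map_subtype_le _ x.2)) ((A.prod ⊥).inv_mem ⟨hg, one_mem _⟩)
    · obtain ⟨_, s, hs, rfl⟩ := x
      exact hs
    · exact hge _
  · rintro ⟨hP, φ, ⟨-, φ₁, ⟨-, g, hg, hge⟩, φ₂, -, he⟩, hQ, hφS, hθP, hind⟩
    refine ⟨hP, g, hg, fun y => ?_⟩
    have hy : ((y : Ω), (1 : Ω)) ∈ preimageAlong θ P' :=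
      ⟨⟨(y, 1), hP y.2, one_mem _⟩, y.2, rfl⟩
    refine Eq.trans ?_ (hge ⟨(y : Ω), ⟨_, hy, rfl⟩⟩)
    refine Eq.trans ?_ (congrArg Prod.fst (he ⟨_, hy⟩ ⟨_, hy, rfl⟩ ⟨_, hy, rfl⟩))
    exact (congrArg φ' (Subtype.ext rfl)).trans (hind ⟨_, hy⟩)

/-- **`F` is constrained exactly when `F*(F) = O_p(F)`.** -/
theorem isConstrained_iff_generalizedFitting (hS : IsPGroup p S) (hF : F.IsSaturated p) :
    F.IsConstrained p ↔ (innerFusionSystem F.core).IsGeneralizedFittingOf F p := by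
  constructor
  · intro h
    exact ⟨⊥, _, isLayerOf_bot hS hF ((isConstrained_iff_no_component hS hF).1 h),
      isCentralProductOf_bot F.core⟩
  · rintro ⟨T, E, hE, D₀, -, Z, θ, -, -, -, -, hθy, -, -, hr, -⟩
    refine (isConstrained_iff_no_component hS hF).2 ?_
    rintro ⟨U, C, hC⟩
    refine not_component_le_core hS hC ((le_S E (hE.2.1 U C hC U (id_mem C le_rfl))).trans ?_)
    intro y hy
    have hy' : ((1 : Ω), y) ∈ F.core.prod T := ⟨one_mem _, hy⟩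
    exact hr.le ⟨⟨_, hy'⟩, hθy y hy'⟩

end CfsgLib.Fusion.CentralLift
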