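import Cfsg.Agent.Lib.Fusion.CentralLift.Saturated
import Cfsg.Agent.Lib.Fusion.FactorBasic

/-!
# Pulling a normal subsystem of a central factor system back
-/

set_option autoImplicit false

open Cfsg Cfsg.FusionSystem

namespace CfsgLib.Fusion.CentralLift

variable {Ω : Type*} [Group Ω] {Ω' : Type*} [Group Ω']

/-- A normal subsystem of the factor system modulo a central subgroup. -/
structure LiftData {S : Subgroup Ω} (F : FusionSystem S) (Z : Subgroup Ω) (θ : S →* Ω')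
    {S' : Subgroup Ω'} (E : FusionSystem S') {T' : Subgroup Ω'} (D' : FusionSystem T') (p : ℕ) :
    Prop where
  isPGroup : IsPGroup p S
  saturated : F.IsSaturated p
  central : F.IsCentral Z
  factor : F.IsFactorSystem Z θ E
  normal : D'.IsNormalIn E p

variable {S Z : Subgroup Ω} [Finite S] {F : FusionSystem S} {θ : S →* Ω'} {S' T' : Subgroup Ω'}
  {E : FusionSystem S'} {D' : FusionSystem T'} {p : ℕ} [Fact p.Prime]

theorem stronglyClosed_of_isCentral {Q : Subgroup Ω} (hQ : F.IsCentral Q) : F.StronglyClosed Q :=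
  stronglyClosed_of_isNormal ⟨hQ.1, fun P φ hφ => by
    obtain ⟨ψ, hψ, hψe, hψQ⟩ := hQ.2 P φ hφ
    exact ⟨ψ, hψ, hψe, img_eq_of_forall_fixed le_sup_right hψQ⟩⟩

theorem imageAlong_ext {P : Subgroup Ω} (hP : P ≤ S) {φ ψ : imageAlong θ P →* Ω'}
    (h : ∀ (x : P) (hx : θ ⟨x, hP x.2⟩ ∈ imageAlong θ P),
      φ ⟨θ ⟨x, hP x.2⟩, hx⟩ = ψ ⟨θ ⟨x, hP x.2⟩, hx⟩) (y : imageAlong θ P) : φ y = ψ y := by
  obtain ⟨_, s, hs, rfl⟩ := y
  exact h ⟨s, hs⟩ _

namespace LiftData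

variable (h : LiftData F Z θ E D' p)
include h

theorem finite_S' : Finite S' :=
  Finite.of_surjective (fun s : S => (⟨θ s, h.factor.2.2.1.le ⟨s, rfl⟩⟩ : S')) fun y => by
    obtain ⟨s, hs⟩ := h.factor.2.2.1.ge y.2
    exact ⟨s, Subtype.ext hs⟩

theorem hker (s : S) : θ s = 1 ↔ (s : Ω) ∈ Z := h.factor.2.1 s

theorem T'_le : T' ≤ S' := h.normal.1.2.2.2.1.1

theorem theta_congr {a b : S} (hab : (a : Ω)⁻¹ * b ∈ Z) : θ a = θ b := by
  have h1 : θ (a⁻¹ * b) = 1 := (h.hker _).2 hab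
  rwa [map_mul, map_inv, inv_mul_eq_one] at h1

theorem mod_of_theta_eq {a b : S} (hab : θ a = θ b) : (a : Ω)⁻¹ * b ∈ Z :=
  (h.hker (a⁻¹ * b)).1 (by rw [map_mul, map_inv, hab, inv_mul_cancel])

theorem morphism : F.IsSurjectiveMorphism E θ :=
  isSurjectiveMorphism_of_isFactorSystem h.isPGroup h.saturated
    (stronglyClosed_of_isCentral h.central) h.factor

/-- The induced map on the image. -/
theorem exists_img {P : Subgroup Ω} {φ : P →* Ω} (hφ : φ ∈ F.Hom P) :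
    ∃ φ' ∈ E.Hom (imageAlong θ P), ∀ x : P,
      φ' ⟨θ ⟨x, le_S F hφ x.2⟩, apply_mem_imageAlong' θ (le_S F hφ x.2) x.2⟩ =
        θ ⟨φ x, apply_mem_S F hφ x⟩ := by
  obtain ⟨φ', hφ', hP, hφS, hθP, he⟩ := h.morphism.1.2 P φ hφ
  exact ⟨φ', hφ', fun x => he x⟩

/-- A map of the factor system lifts to the preimage. -/
theorem exists_lift {P' : Subgroup Ω'} {φ' : P' →* Ω'} (hφ' : φ' ∈ E.Hom P') :
    ∃ φ ∈ F.Hom (preimageAlong θ P'), ∀ (x : preimageAlong θ P')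
      (hx : θ ⟨x, preimageAlong_le θ P' x.2⟩ ∈ P') (hφx : φ x ∈ S),
        φ' ⟨θ ⟨x, preimageAlong_le θ P' x.2⟩, hx⟩ = θ ⟨φ x, hφx⟩ := by
  obtain ⟨φ, hφ, hP, hφS, hθP, he⟩ := h.morphism.2.2 P' (le_S E hφ') φ' hφ'
  exact ⟨φ, hφ, fun x _ _ => he x⟩

theorem preimage_image {P : Subgroup Ω} (hP : P ≤ S) (hZP : Z ≤ P) :
    preimageAlong θ (imageAlong θ P) = P := by
  refine le_antisymm ?_ fun y hy => ⟨⟨y, hP hy⟩, ⟨_, hy, rfl⟩, rfl⟩
  rintro _ ⟨s, ⟨z, hz, hzs⟩, rfl⟩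
  have h2 := P.mul_mem (show (z : Ω) ∈ P from hz) (hZP (h.mod_of_theta_eq hzs))
  simpa using h2

theorem mem_T {s : S} : (s : Ω) ∈ preimageAlong θ T' ↔ θ s ∈ T' := mem_preimageAlong

theorem img_le {P : Subgroup Ω} (hP : P ≤ preimageAlong θ T') : imageAlong θ P ≤ T' := by
  rintro _ ⟨s, hs, rfl⟩
  exact h.mem_T.1 (hP hs)

theorem image_T : imageAlong θ (preimageAlong θ T') = T' := by
  refine le_antisymm (h.img_le le_rfl) fun y hy => ?_
  obtain ⟨s, rfl⟩ := h.factor.2.2.1.ge (h.T'_le hy)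
  exact ⟨s, h.mem_T.2 hy, rfl⟩

theorem Z_le_T : Z ≤ preimageAlong θ T' := fun z hz =>
  (h.mem_T (s := ⟨z, h.central.1 hz⟩)).2 (by rw [(h.hker _).2 hz]; exact one_mem _)

theorem stronglyClosed_T : F.StronglyClosed (preimageAlong θ T') := by
  refine ⟨preimageAlong_le θ T', fun R hR φ hφ x => ?_⟩
  obtain ⟨φ', hφ', he⟩ := h.exists_img hφ
  have h1 := h.normal.1.2.2.2.1.2 _ (h.img_le hR) φ' hφ'
    ⟨_, apply_mem_imageAlong' θ (le_S F hφ x.2) x.2⟩
  rw [he x] at h1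
  exact (h.mem_T (s := ⟨φ x, apply_mem_S F hφ x⟩)).2 h1

/-- The pullback of `D'`. -/
def pullSub : FusionSystem (preimageAlong θ T') where
  Hom P := {φ | φ ∈ F.Hom P ∧ P ≤ preimageAlong θ T' ∧ ∃ φ' ∈ D'.Hom (imageAlong θ P),
    ∀ (x : P) (hx : (x : Ω) ∈ S) (hφx : φ x ∈ S),
      φ' ⟨θ ⟨x, hx⟩, apply_mem_imageAlong' θ hx x.2⟩ = θ ⟨φ x, hφx⟩}
  le_of_mem := fun hφ => ⟨hφ.2.1, fun x => h.stronglyClosed_T.2 _ hφ.2.1 _ hφ.1 x⟩
  injective_of_mem := fun hφ => F.injective_of_mem hφ.1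
  conj_mem := fun {P g} hP hg => by
    have hgS := preimageAlong_le θ T' hg
    refine ⟨F.conj_mem (hP.trans (preimageAlong_le θ T')) hgS, hP, conjHom _ (θ ⟨g, hgS⟩),
      D'.conj_mem (h.img_le hP) ((h.mem_T (s := ⟨g, hgS⟩)).1 hg), fun x hx hφx => ?_⟩
    change θ ⟨g, hgS⟩ * θ ⟨x, hx⟩ * (θ ⟨g, hgS⟩)⁻¹ = _
    rw [← map_inv, ← map_mul, ← map_mul]
    rfl
  comp_mem := by
    rintro P Q φ ψ ⟨hφ, hP, φ', hφ', he⟩ ⟨hψ, hQ, ψ', hψ', he'⟩ hv
    have hv' : ∀ y, φ' y ∈ imageAlong θ Q := by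
      rintro ⟨_, s, hs, rfl⟩
      rw [show φ' ⟨θ s, _⟩ = θ ⟨φ ⟨s, hs⟩, apply_mem_S F hφ _⟩ from
        he ⟨s, hs⟩ s.2 (apply_mem_S F hφ _)]
      exact apply_mem_imageAlong' θ (apply_mem_S F hφ _) (hv ⟨s, hs⟩)
    refine ⟨F.comp_mem hφ hψ hv, hP, _, D'.comp_mem hφ' hψ' hv', fun x hx hφx => ?_⟩
    refine Eq.trans ?_ (he' ⟨φ x, hv x⟩ (apply_mem_S F hφ x) hφx)
    exact congrArg ψ' (Subtype.ext (he x hx _))
  inv_mem := by
    rintro P φ ⟨hφ, hP, φ', hφ', he⟩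
    obtain ⟨ψ, hψ, hψe⟩ := F.inv_mem hφ
    obtain ⟨ψ', hψ', hψ'e⟩ := D'.inv_mem hφ'
    have hle : imageAlong θ φ.range ≤ φ'.range := by
      rintro _ ⟨s, ⟨x, hx⟩, rfl⟩
      refine ⟨⟨θ ⟨x, le_S F hφ x.2⟩, apply_mem_imageAlong' θ _ x.2⟩, ?_⟩
      rw [he x (le_S F hφ x.2) (apply_mem_S F hφ x)]
      exact congrArg θ (Subtype.ext hx)
    have hrT : φ.range ≤ preimageAlong θ T' := by
      rintro _ ⟨x, rfl⟩
      exact h.stronglyClosed_T.2 P hP φ hφ x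
    refine ⟨ψ, ⟨hψ, hrT, _, res_mem D' hψ' hle, ?_⟩, hψe⟩
    rintro ⟨_, x, rfl⟩ hx hψx
    have h1 := he x (le_S F hφ x.2) hx
    refine Eq.trans ?_ ((hψ'e ⟨θ ⟨x, le_S F hφ x.2⟩, apply_mem_imageAlong' θ _ x.2⟩).trans
      (congrArg θ (Subtype.ext (hψe x).symm)))
    exact congrArg ψ' (Subtype.ext h1.symm)

theorem isInvariantIn_pullSub : h.pullSub.IsInvariantIn F := by
  have := h.finite_S'
  have hT := h.stronglyClosed_T
  obtain ⟨-, -, hDE, hT', hconj, hfr⟩ := h.normal.1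
  refine ⟨fun P φ hφ => hφ.1, hT, ?_, fun P hPT φ hφ => ?_⟩
  · rintro P hPT φ ⟨hφ, -, φ', hφ', he⟩ α hα
    have hαF := (mem_autGroup_iff F hT.1).1 hα
    obtain ⟨a', ha', hae⟩ := h.exists_img hαF
    have ha'' : ∃ a ∈ E.autGroup T', ∀ (x : preimageAlong θ T') (hx : θ ⟨x, hT.1 x.2⟩ ∈ T'),
        ((a ⟨θ ⟨x, hT.1 x.2⟩, hx⟩ : T') : Ω') =
          θ ⟨((α x : preimageAlong θ T') : Ω), hT.1 (α x).2⟩ := by
      obtain ⟨a, ha, hae'⟩ := exists_iso_of_range (res_mem E ha' h.image_T.ge)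
        ((weaklyClosed_of_stronglyClosed hT').2 _ (res_mem E ha' h.image_T.ge))
      exact ⟨a, (mem_autGroup_iff E h.T'_le).2 ha, fun x hx => (hae' _).trans (hae x)⟩
    obtain ⟨a, ha, hae'⟩ := ha''
    obtain ⟨χ', hχ', hχe⟩ := hconj _ (h.img_le hPT) φ' hφ' a ha
    set P₁ := (P.subgroupOf (preimageAlong θ T')).map
      ((preimageAlong θ T').subtype.comp α.toMonoidHom)
    have hP₁T : P₁ ≤ preimageAlong θ T' := by rintro _ ⟨x, -, rfl⟩; exact (α x).2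
    have hback : ∀ y : P₁, ((α⁻¹ ⟨y, hP₁T y.2⟩ : preimageAlong θ T') : Ω) ∈ P := by
      rintro ⟨_, x, hx, rfl⟩
      change ((α⁻¹ (α x) : preimageAlong θ T') : Ω) ∈ P
      rw [MulAut.inv_apply_self]
      exact hx
    let β : P₁ →* P :=
      (((preimageAlong θ T').subtype.comp (α⁻¹).toMonoidHom).comp
        (Subgroup.inclusion hP₁T)).codRestrict P hback
    have hφT : ∀ x, φ x ∈ preimageAlong θ T' := fun x => hT.2 P hPT φ hφ x
    have hβF : P.subtype.comp β ∈ F.Hom P₁ :=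
      res_mem F ((mem_autGroup_iff F hT.1).1 (inv_mem hα)) hP₁T
    have hχF : ((preimageAlong θ T').subtype.comp α.toMonoidHom).comp
        ((φ.comp β).codRestrict _ fun y => hφT _) ∈ F.Hom P₁ :=
      F.comp_mem (F.comp_mem hβF hφ hback) hαF fun y => hφT _
    have himg : imageAlong θ P₁ ≤
        ((imageAlong θ P).subgroupOf T').map (T'.subtype.comp a.toMonoidHom) := by
      rintro _ ⟨s, ⟨x, hx, hxs⟩, rfl⟩
      refine ⟨⟨θ ⟨x, hT.1 x.2⟩, h.mem_T.1 x.2⟩, apply_mem_imageAlong' θ (hT.1 x.2) hx, ?_⟩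
      exact (hae' x _).trans (congrArg θ (Subtype.ext hxs))
    refine ⟨_, ⟨hχF, hP₁T, _, res_mem D' hχ' himg, ?_⟩, fun x hφx hαx => ?_⟩
    · intro y hy hχy
      obtain ⟨x, hx, hxy⟩ := y.2
      have hβy : β y = ⟨x, hx⟩ := by
        refine Subtype.ext ?_
        change ((α⁻¹ ⟨(y : Ω), hP₁T y.2⟩ : preimageAlong θ T') : Ω) = x
        rw [show (⟨(y : Ω), hP₁T y.2⟩ : preimageAlong θ T') = α x from Subtype.ext hxy.symm,
          MulAut.inv_apply_self]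
      have hθx : θ ⟨x, hT.1 x.2⟩ ∈ T' := h.mem_T.1 x.2
      have hval : φ' ⟨θ ⟨x, hT.1 x.2⟩, apply_mem_imageAlong' θ (hT.1 x.2) hx⟩ =
          θ ⟨φ ⟨x, hx⟩, hT.1 (hφT _)⟩ := he ⟨x, hx⟩ _ _
      have h1 := hχe ⟨θ ⟨x, hT.1 x.2⟩, apply_mem_imageAlong' θ (hT.1 x.2) hx⟩
        (by rw [hval]; exact h.mem_T.1 (hφT ⟨x, hx⟩))
        ⟨⟨_, hθx⟩, apply_mem_imageAlong' θ (hT.1 x.2) hx, rfl⟩
      refine Eq.trans ?_ (h1.trans ?_)
      · exact congrArg χ' (Subtype.ext (((hae' x hθx).trans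
          (congrArg θ (Subtype.ext hxy :
            (⟨((α x : preimageAlong θ T') : Ω), hT.1 (α x).2⟩ : S) = ⟨_, hy⟩))).symm))
      · refine (congrArg (fun z : T' => ((a z : T') : Ω')) (Subtype.ext hval :
          (_ : T') = ⟨θ ⟨φ ⟨x, hx⟩, hT.1 (hφT _)⟩, h.mem_T.1 (hφT _)⟩)).trans ?_
        refine (hae' ⟨φ ⟨x, hx⟩, hφT _⟩ _).trans (congrArg θ (Subtype.ext ?_))
        exact congrArg (fun z => ((α ⟨φ z, hφT z⟩ : preimageAlong θ T') : Ω)) hβy.symm
    · have hβx : β ⟨_, hαx⟩ = x :=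
        Subtype.ext (congrArg Subtype.val (MulAut.inv_apply_self _ α ⟨x, hPT x.2⟩) :)
      exact congrArg (fun z => ((α ⟨φ z, hφT z⟩ : preimageAlong θ T') : Ω)) hβx
  · obtain ⟨φ', hφ', he⟩ := h.exists_img hφ
    obtain ⟨a, ha, φ₀', hφ₀', hfe⟩ := hfr _ (h.img_le hPT) φ' hφ'
    obtain ⟨ψ, hψ, hψe⟩ := h.exists_lift ((mem_autGroup_iff E h.T'_le).1 ha)
    obtain ⟨α, hα, hαe⟩ := exists_aut_of_map hψ fun x => hT.2 _ le_rfl ψ hψ x
    have hαi := (mem_autGroup_iff F hT.1).1 (inv_mem hα)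
    have hφT : ∀ x, φ x ∈ preimageAlong θ T' := fun x => hT.2 P hPT φ hφ x
    refine ⟨α, hα, _, ⟨F.comp_mem hφ hαi hφT, hPT, φ₀', hφ₀', fun x hx hφx => ?_⟩, fun x hx => ?_⟩
    · set w : preimageAlong θ T' := α⁻¹ ⟨φ x, hφT x⟩ with hw
      have h1 : φ₀' ⟨θ ⟨x, hx⟩, apply_mem_imageAlong' θ hx x.2⟩ ∈ T' := apply_mem_S D' hφ₀' _
      have h2 := (hfe _ h1).symm.trans (he x)
      have h3 := hψe w (h.mem_T.1 w.2) (apply_mem_S F hψ w)
      change ((a ⟨θ ⟨w, hT.1 w.2⟩, h.mem_T.1 w.2⟩ : T') : Ω') = _ at h3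
      have h4 : ψ w = φ x := by
        rw [← hαe, hw, MulAut.apply_inv_self]
      change φ₀' _ = θ ⟨(w : Ω), hφx⟩
      have h5 : a ⟨_, h1⟩ = a ⟨θ ⟨w, hT.1 w.2⟩, h.mem_T.1 w.2⟩ :=
        Subtype.ext (h2.trans ((congrArg θ (Subtype.ext h4.symm)).trans h3.symm))
      exact congrArg Subtype.val (a.injective h5)
    · exact (congrArg Subtype.val (MulAut.apply_inv_self _ α ⟨φ x, hφT x⟩)).symm

theorem preimage_normalizer {R : Subgroup Ω} (hR : R ≤ preimageAlong θ T') (hZR : Z ≤ R) :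
    preimageAlong θ (normalizerIn T' (imageAlong θ R)) = normalizerIn (preimageAlong θ T') R := by
  have hRS := hR.trans (preimageAlong_le θ T')
  have := finite_of_le hRS
  have := h.finite_S'
  have hRS' : imageAlong θ R ≤ S' := (h.img_le hR).trans h.T'_le
  have := finite_of_le hRS'
  ext y
  constructor
  · rintro ⟨s, hs, rfl⟩
    refine ⟨h.mem_T.2 hs.1, mem_normalizer_of_forall fun r hr => ?_⟩
    obtain ⟨t, ht, hte⟩ := conj_mem_of_mem_normalizer hs.2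
      (apply_mem_imageAlong' θ (hRS hr) hr)
    have h1 := R.mul_mem (show (t : Ω) ∈ R from ht) (hZR (h.mod_of_theta_eq
      (b := s * ⟨r, hRS hr⟩ * s⁻¹) (by rw [hte, map_mul, map_mul, map_inv])))
    rw [mul_inv_cancel_left] at h1
    exact h1
  · intro hy
    have hyS : y ∈ S := preimageAlong_le θ T' hy.1
    refine ⟨⟨y, hyS⟩, ⟨h.mem_T.1 hy.1, mem_normalizer_of_forall ?_⟩, rfl⟩
    rintro _ ⟨t, ht, rfl⟩
    refine ⟨⟨y, hyS⟩ * t * (⟨y, hyS⟩ : S)⁻¹, conj_mem_of_mem_normalizer hy.2 ht, ?_⟩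
    rw [map_mul, map_mul, map_inv]

theorem card_preimage {K : Subgroup Ω'} (hK : K ≤ S') :
    Nat.card (preimageAlong θ K) = Nat.card θ.ker * Nat.card K := by
  let f : K.comap θ →* K := (θ.comp (K.comap θ).subtype).codRestrict K fun x => x.2
  have hf : Function.Surjective f := fun y => by
    obtain ⟨s, hs⟩ := h.factor.2.2.1.ge (hK y.2)
    exact ⟨⟨s, show θ s ∈ K from hs ▸ y.2⟩, Subtype.ext hs⟩
  rw [show Nat.card (preimageAlong θ K) = Nat.card (K.comap θ) from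
    Subgroup.card_map_of_injective Subtype.val_injective,
    Subgroup.card_eq_card_quotient_mul_card_subgroup f.ker,
    Nat.card_congr (QuotientGroup.quotientKerEquivOfSurjective f hf).toEquiv, mul_comm]
  congr 1
  exact Nat.card_congr
    { toFun := fun x => ⟨(x : K.comap θ), congrArg Subtype.val x.2⟩
      invFun := fun x => ⟨⟨(x : S), show θ x ∈ K by rw [x.2]; exact one_mem K⟩, Subtype.ext x.2⟩
      left_inv := fun _ => rfl
      right_inv := fun _ => rfl }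

theorem isFullyNormalized_img {Q : Subgroup Ω} (hZQ : Z ≤ Q)
    (hQ : h.pullSub.IsFullyNormalized Q) : D'.IsFullyNormalized (imageAlong θ Q) := by
  have := h.finite_S'
  refine ⟨h.img_le hQ.1, fun R' hR' => ?_⟩
  obtain ⟨d', hd', rfl⟩ := hR'
  obtain ⟨ψ, hψ, hψe⟩ := h.exists_lift (h.normal.1.2.2.1 _ hd')
  have hQS := hQ.1.trans (preimageAlong_le θ T')
  have hQle : Q ≤ preimageAlong θ (imageAlong θ Q) := (h.preimage_image hQS hZQ).ge
  set φ := ψ.comp (Subgroup.inclusion hQle)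
  have hφ : φ ∈ h.pullSub.Hom Q :=
    ⟨res_mem F hψ hQle, hQ.1, d', hd', fun x hx hφx =>
      hψe (Subgroup.inclusion hQle x) (apply_mem_imageAlong' θ hx x.2) hφx⟩
  have hRT := range_le_S h.pullSub hφ
  have hZR : Z ≤ φ.range := fun z hz => by
    obtain ⟨χ, -, hχe, hχZ⟩ := h.central.2 Q φ hφ.1
    refine ⟨⟨z, hZQ hz⟩, ?_⟩
    rw [← hχe]
    exact (congrArg χ (Subtype.ext rfl)).trans (hχZ ⟨z, hz⟩)
  have himg : imageAlong θ φ.range = d'.range := by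
    ext y
    constructor
    · rintro ⟨s, ⟨x, hx⟩, rfl⟩
      exact ⟨⟨_, apply_mem_imageAlong' θ (hQS x.2) x.2⟩,
        (hψe (Subgroup.inclusion hQle x) _ (apply_mem_S F hψ _)).trans
          (congrArg θ (Subtype.ext hx))⟩
    · rintro ⟨⟨_, s, hs, rfl⟩, rfl⟩
      refine ⟨⟨φ ⟨s, hs⟩, apply_mem_S F hφ.1 _⟩, ⟨⟨s, hs⟩, rfl⟩, ?_⟩
      exact (hψe (Subgroup.inclusion hQle ⟨s, hs⟩) _ (apply_mem_S F hψ _)).symm
  have h1 := hQ.2 φ.range ⟨φ, hφ, rfl⟩
  rw [← h.preimage_normalizer hRT hZR, ← h.preimage_normalizer hQ.1 hZQ, himg,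
    h.card_preimage ((normalizerIn_le _).trans h.T'_le),
    h.card_preimage ((normalizerIn_le _).trans h.T'_le)] at h1
  exact Nat.le_of_mul_le_mul_left h1 Nat.card_pos

/-- The pullback is saturated modulo `Z`. -/
theorem centralSub : CentralSub F Z h.pullSub p := by
  have := h.finite_S'
  have hT := h.stronglyClosed_T
  have hTS := hT.1
  have := finite_of_le hTS
  obtain ⟨⟨hDs, hEs, hDE, -, -, -⟩, hext⟩ := h.normal
  have hT'S := h.T'_le
  have := finite_of_le hT'S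
  have hS'p : IsPGroup p S' := h.factor.2.2.1 ▸
    h.isPGroup.of_surjective θ.rangeRestrict θ.rangeRestrict_surjective
  have hT'p := hS'p.to_le hT'S
  refine ⟨h.isPGroup, h.saturated, h.central, h.Z_le_T, h.isInvariantIn_pullSub, ?_, ?_, ?_, ?_⟩
  · -- agreement modulo `Z`
    rintro P P' φ φ' ⟨hφ, hP, ψ, hψ, he⟩ hφ' hP' hmod
    have himg : imageAlong θ P' ≤ imageAlong θ P := by
      rintro _ ⟨s, hs, rfl⟩
      obtain ⟨x, hx, -⟩ := hmod ⟨s, hs⟩
      exact ⟨⟨x, le_S F hφ x.2⟩, x.2, h.theta_congr hx⟩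
    refine ⟨hφ', hP', _, res_mem D' hψ himg, fun y hy hφy => ?_⟩
    obtain ⟨x, hx, hx'⟩ := hmod y
    refine Eq.trans ?_ ((he x (le_S F hφ x.2) (apply_mem_S F hφ x)).trans (h.theta_congr hx'))
    exact congrArg ψ (Subtype.ext (h.theta_congr
      (a := ⟨x, le_S F hφ x.2⟩) (b := ⟨y, hy⟩) hx).symm)
  · -- Sylow modulo `Z`
    intro Q hZQ hQ K hK
    have hQS := hQ.1.trans hTS
    have := finite_of_le hQS
    have hn := h.isFullyNormalized_img hZQ hQ
    have := finite_of_le (hn.1.trans hT'S)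
    have hidx := ((isFullyAutomized_iff hT'p).1
      (fullyAutomized_receptive_of_fullyNormalized hT'p hDs hn).1).2
    have hex : ∀ a : h.pullSub.autGroup Q, ∃ a' : D'.autGroup (imageAlong θ Q), ∀ x : Q,
        (((a' : MulAut _) ⟨θ ⟨x, hQS x.2⟩, apply_mem_imageAlong' θ (hQS x.2) x.2⟩ :
          imageAlong θ Q) : Ω') = θ ⟨((a : MulAut Q) x : Q), hQS ((a : MulAut Q) x).2⟩ := by
      rintro ⟨a, ha⟩
      obtain ⟨-, -, φ', hφ', he⟩ := (mem_autGroup_iff _ hQ.1).1 ha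
      have hv : ∀ y, φ' y ∈ imageAlong θ Q := by
        rintro ⟨_, s, hs, rfl⟩
        rw [show φ' ⟨θ s, _⟩ = θ ⟨(a ⟨s, hs⟩ : Q), hQS (a _).2⟩ from
          he ⟨s, hs⟩ s.2 (hQS (a _).2)]
        exact apply_mem_imageAlong' θ (hQS (a _).2) (a _).2
      obtain ⟨a', ha', ha'e⟩ := exists_aut_of_map hφ' hv
      exact ⟨⟨a', ha'⟩, fun x => (ha'e _).trans (he x (hQS x.2) (hQS (a x).2))⟩
    have huniq : ∀ (a : h.pullSub.autGroup Q) (b : D'.autGroup (imageAlong θ Q)),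
        (∀ x : Q, (((b : MulAut _) ⟨θ ⟨x, hQS x.2⟩, apply_mem_imageAlong' θ (hQS x.2) x.2⟩ :
          imageAlong θ Q) : Ω') = θ ⟨((a : MulAut Q) x : Q), hQS ((a : MulAut Q) x).2⟩) →
        (hex a).choose = b := by
      intro a b hb
      refine Subtype.ext (MulEquiv.ext ?_)
      rintro ⟨_, s, hs, rfl⟩
      exact Subtype.ext (((hex a).choose_spec ⟨s, hs⟩).trans (hb ⟨s, hs⟩).symm)
    let π : h.pullSub.autGroup Q →* D'.autGroup (imageAlong θ Q) :=
      { toFun := fun a => (hex a).choose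
        map_one' := huniq 1 1 fun x => rfl
        map_mul' := fun a b => huniq _ _ fun x => by
          rw [Subgroup.coe_mul, MulAut.mul_apply]
          refine Eq.trans ?_ ((hex a).choose_spec ((b : MulAut Q) x))
          exact congrArg (fun z => ((((hex a).choose : MulAut _) z : imageAlong θ Q) : Ω'))
            (Subtype.ext ((hex b).choose_spec x) :
              ((hex b).choose : MulAut _) ⟨θ ⟨x, hQS x.2⟩, apply_mem_imageAlong' θ (hQS x.2) x.2⟩ =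
                ⟨θ ⟨((b : MulAut Q) x : Q), hQS ((b : MulAut Q) x).2⟩,
                  apply_mem_imageAlong' θ (hQS ((b : MulAut Q) x).2) ((b : MulAut Q) x).2⟩) }
    have hπ : Function.Surjective π := by
      rintro ⟨b, hb⟩
      obtain ⟨ψ, hψ, hψe⟩ :=
        h.exists_lift (hDE _ ((mem_autGroup_iff D' hn.1).1 hb))
      have hQle : Q ≤ preimageAlong θ (imageAlong θ Q) := (h.preimage_image hQS hZQ).ge
      have hψQ : ∀ x : Q, ψ (Subgroup.inclusion hQle x) ∈ Q := fun x => by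
        have h1 : θ ⟨ψ (Subgroup.inclusion hQle x), apply_mem_S F hψ _⟩ ∈ imageAlong θ Q := by
          rw [← hψe (Subgroup.inclusion hQle x) (apply_mem_imageAlong' θ (hQS x.2) x.2)]
          exact (b _).2
        exact (h.preimage_image hQS hZQ).le (mem_preimageAlong.2 h1)
      have hφ : ψ.comp (Subgroup.inclusion hQle) ∈ h.pullSub.Hom Q :=
        ⟨res_mem F hψ hQle, hQ.1, _, (mem_autGroup_iff D' hn.1).1 hb,
          fun x hx hφx => hψe (Subgroup.inclusion hQle x) _ _⟩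
      obtain ⟨a, ha, hae⟩ := exists_aut_of_map hφ hψQ
      refine ⟨⟨a, ha⟩, huniq _ _ fun x => ?_⟩
      exact (hψe (Subgroup.inclusion hQle x) _ (apply_mem_S F hψ _)).trans
        (congrArg θ (Subtype.ext (hae x).symm))
    have hle : ((autInducedBy T' (imageAlong θ Q)).subgroupOf
        (D'.autGroup (imageAlong θ Q))).comap π ≤
        (autInducedBy (preimageAlong θ T') Q ⊔ K).subgroupOf (h.pullSub.autGroup Q) := by
      intro a ha
      obtain ⟨g, hg, hge⟩ := mem_autInducedBy_iff.1 (Subgroup.mem_subgroupOf.1 ha)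
      obtain ⟨t, rfl⟩ := h.factor.2.2.1.ge (hT'S hg)
      have htn : (t : Ω) ∈ normalizerIn (preimageAlong θ T') Q := by
        rw [← h.preimage_normalizer hQ.1 hZQ]
        exact mem_preimageAlong.2 ⟨hg, mem_normalizer_of_aut hge⟩
      have hu : normAut (t : Ω) htn.2 ∈ autInducedBy (preimageAlong θ T') Q :=
        mem_autInducedBy_iff.2 ⟨t, htn.1, fun _ => rfl⟩
      have haF := autGroup_mono h.isInvariantIn_pullSub.1 Q a.2
      have huF : normAut (t : Ω) htn.2 ∈ F.autGroup Q :=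
        autInducedBy_le_autGroup hQS (autInducedBy_mono hTS hu)
      rw [Subgroup.mem_subgroupOf,
        show (a : MulAut Q) = normAut (t : Ω) htn.2 * ((normAut (t : Ω) htn.2)⁻¹ * a) by
          rw [mul_inv_cancel_left]]
      refine mul_mem (Subgroup.mem_sup_left hu) (Subgroup.mem_sup_right (hK _
        (mul_mem (inv_mem huF) haF) fun x => ?_))
      have h1 : θ ⟨((a : MulAut Q) x : Q), hQS ((a : MulAut Q) x).2⟩ =
          θ (t * ⟨x, hQS x.2⟩ * t⁻¹) := by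
        rw [map_mul, map_mul, map_inv]
        exact ((hex a).choose_spec x).symm.trans (hge _)
      set y : Q := (normAut (t : Ω) htn.2)⁻¹ ((a : MulAut Q) x) with hy
      have hy' : (t : Ω) * y * (t : Ω)⁻¹ = (a : MulAut Q) x := by
        rw [← normAut_apply (t : Ω) htn.2 y, hy, MulAut.apply_inv_self]
      change (x : Ω)⁻¹ * (y : Ω) ∈ Z
      refine h.mod_of_theta_eq (a := ⟨x, hQS x.2⟩) (b := ⟨y, hQS y.2⟩) ?_
      rw [show (⟨((a : MulAut Q) x : Q), hQS ((a : MulAut Q) x).2⟩ : S) =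
        t * ⟨y, hQS y.2⟩ * t⁻¹ from Subtype.ext hy'.symm, map_mul, map_mul, map_mul, map_mul] at h1
      exact (mul_left_cancel (mul_right_cancel h1)).symm
    intro hdvd
    refine hidx (hdvd.trans ?_)
    have h2 := Subgroup.index_dvd_of_le hle
    rwa [Subgroup.index_comap_of_surjective _ hπ] at h2
  · -- receptive modulo `Z`
    intro P Q M e he hZP hQ hPM hM hcond
    obtain ⟨heF, hPT, e', he', hee0⟩ := he
    have hee : ∀ (x : P) (hx : (x : Ω) ∈ S) (hφx : (e x : Ω) ∈ S),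
        e' ⟨θ ⟨x, hx⟩, apply_mem_imageAlong' θ hx x.2⟩ = θ ⟨(e x : Ω), hφx⟩ := hee0
    have hPS := hPT.trans hTS
    have hMT : M ≤ preimageAlong θ T' := hM.trans (normalizerIn_le P)
    have hMS := hMT.trans hTS
    have hQS := hQ.1.trans hTS
    have hZQ : Z ≤ Q := fun z hz => by
      obtain ⟨χ, -, hχe, hχZ⟩ := h.central.2 P _ heF
      have h1 : (e ⟨z, hZP hz⟩ : Ω) = z := ((hχe ⟨z, hZP hz⟩).symm.trans
        ((congrArg χ (Subtype.ext rfl)).trans (hχZ ⟨z, hz⟩)))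
      exact h1 ▸ (e _).2
    have hn := h.isFullyNormalized_img hZQ hQ
    have hrec := (fullyAutomized_receptive_of_fullyNormalized hT'p hDs hn).2
    have hr : e'.range = imageAlong θ Q := by
      ext y
      constructor
      · rintro ⟨⟨_, s, hs, rfl⟩, rfl⟩
        refine ⟨⟨(e ⟨s, hs⟩ : Q), hQS (e _).2⟩, (e _).2, ?_⟩
        exact (hee ⟨s, hs⟩ s.2 (hQS (e _).2)).symm
      · rintro ⟨s, hs, rfl⟩
        refine ⟨⟨θ ⟨e.symm ⟨s, hs⟩, hPS (e.symm _).2⟩, apply_mem_imageAlong' θ _ (e.symm _).2⟩, ?_⟩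
        refine (hee (e.symm ⟨s, hs⟩) (hPS (e.symm _).2) (hQS (e _).2)).trans ?_
        exact congrArg θ (Subtype.ext ((congrArg Subtype.val (e.apply_symm_apply ⟨s, hs⟩) :)))
    obtain ⟨ψ', hψ', hψ'e⟩ := hrec.2 _ e' he' hr
    have hle : imageAlong θ M ≤ extender T' (imageAlong θ P) e' := by
      rintro _ ⟨s, hs, rfl⟩
      have hsn : (s : Ω) ∈ normalizerIn (preimageAlong θ T') P := hM hs
      rw [← h.preimage_normalizer hPT hZP] at hsn
      obtain ⟨hsT', hsn'⟩ := mem_preimageAlong.1 hsn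
      obtain ⟨n, hn', hne⟩ := hcond s hs
      refine mem_extender_iff.2 ⟨hsT', hsn', θ ⟨n, hTS hn'⟩, h.mem_T.1 hn', ?_⟩
      rintro ⟨_, r, hr', rfl⟩
      have hx : (s : Ω) * r * (s : Ω)⁻¹ ∈ P := conj_mem_of_mem_normalizer (hM hs).2 hr'
      have h1 := h.theta_congr (a := ⟨n, hTS hn'⟩ * ⟨e ⟨r, hr'⟩, hQS (e _).2⟩ * (⟨n, hTS hn'⟩ : S)⁻¹)
        (b := ⟨e ⟨_, hx⟩, hQS (e _).2⟩) (hne ⟨r, hr'⟩ hx)
      rw [map_mul, map_mul, map_inv] at h1
      have h2 := hee ⟨_, hx⟩ (hPS hx) (hQS (e _).2)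
      have h3 := hee ⟨r, hr'⟩ r.2 (hQS (e _).2)
      refine Eq.trans ?_ (h2.trans (h1.symm.trans ?_))
      · exact congrArg e' (Subtype.ext (by
          rw [normAut_apply, ← map_inv, ← map_mul, ← map_mul]
          rfl))
      · rw [h3]
    obtain ⟨χ, hχ, hχe⟩ := h.exists_lift (hDE _ (res_mem D' hψ' hle))
    have hMle : M ≤ preimageAlong θ (imageAlong θ M) :=
      (h.preimage_image hMS (hZP.trans hPM)).ge
    refine ⟨χ.comp (Subgroup.inclusion hMle), ⟨res_mem F hχ hMle, hMT, _, res_mem D' hψ' hle,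
      fun x hx hφx => hχe (Subgroup.inclusion hMle x) _ _⟩, fun x => ?_⟩
    refine h.mod_of_theta_eq (a := ⟨e x, hQS (e x).2⟩) (b := ⟨_, apply_mem_S F hχ _⟩) ?_
    refine Eq.trans ?_ (hχe (Subgroup.inclusion hMle (Subgroup.inclusion hPM x))
      (apply_mem_imageAlong' θ (hMS (hPM x.2)) (hPM x.2)) (apply_mem_S F hχ _))
    rw [← hee x (hPS x.2) (hQS (e x).2)]
    exact (hψ'e _ (apply_mem_imageAlong' θ (hPS x.2) x.2)
      (hle (apply_mem_imageAlong' θ (hMS (hPM x.2)) (hPM x.2)))).symm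
  · -- extension at `T`
    intro a ha hco r hr hrS hrZ
    obtain ⟨haF, -, φ', hφ', hae⟩ := (mem_autGroup_iff _ le_rfl).1 ha
    obtain ⟨a', ha', ha'e⟩ := exists_aut_of_map (M := T')
      (res_mem D' hφ' h.image_T.ge) (apply_mem_S D' (res_mem D' hφ' h.image_T.ge))
    obtain ⟨β', hβ', hβT, hβC⟩ := hext a' ha'
    have hθr : θ ⟨r, hrS⟩ ∈ centralizerIn S' T' := by
      refine ⟨h.factor.2.2.1.le ⟨_, rfl⟩, fun y hy => ?_⟩
      obtain ⟨s, rfl⟩ := h.factor.2.2.1.ge (hT'S hy)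
      have h1 := h.theta_congr (a := s) (b := ⟨r, hrS⟩ * s * (⟨r, hrS⟩ : S)⁻¹)
        (hrZ ⟨s, h.mem_T.2 hy⟩)
      rw [map_mul, map_mul, map_inv] at h1
      exact eq_mul_inv_iff_mul_eq.1 h1
    have hXS' : T' ⊔ centralizerIn S' T' ≤ S' := sup_le hT'S (centralizerIn_le T')
    obtain ⟨β, hβ, hβe⟩ := h.exists_lift ((mem_autGroup_iff E hXS').1 hβ')
    have hTX : preimageAlong θ T' ≤ preimageAlong θ (T' ⊔ centralizerIn S' T') :=
      Subgroup.map_mono (Subgroup.comap_mono le_sup_left)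
    obtain ⟨b, hb, hbe⟩ := exists_aut_of_map (res_mem F hβ hTX) fun x =>
      hT.2 _ le_rfl _ (res_mem F hβ hTX) x
    -- `a` and `b` agree modulo `Z`
    have hab : ∀ x : preimageAlong θ T', ((a x : preimageAlong θ T') : Ω)⁻¹ * (b x : Ω) ∈ Z := by
      intro x
      refine h.mod_of_theta_eq (a := ⟨_, hTS (a x).2⟩) (b := ⟨_, hTS (b x).2⟩) ?_
      have hx' : θ ⟨x, hTS x.2⟩ ∈ T' := h.mem_T.1 x.2
      refine Eq.trans ?_ ((hβe (Subgroup.inclusion hTX x) (Subgroup.mem_sup_left hx')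
        (apply_mem_S F hβ _)).trans (congrArg θ (Subtype.ext (hbe x).symm)))
      refine Eq.trans ?_ (hβT ⟨_, hx'⟩).symm
      exact ((ha'e ⟨_, hx'⟩).trans (hae x (hTS x.2) (hTS (a x).2))).symm
    have hrX : r ∈ preimageAlong θ (T' ⊔ centralizerIn S' T') :=
      (mem_preimageAlong (s := ⟨r, hrS⟩)).2 (Subgroup.mem_sup_right hθr)
    set r' := β ⟨r, hrX⟩
    have hr'S : r' ∈ S := apply_mem_S F hβ _
    have hr'n : r' ∈ Subgroup.normalizer (preimageAlong θ T' : Set Ω) :=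
      le_normalizer_of_stronglyClosed hT hr'S
    refine ⟨r', hr'n, hr'S, ?_, ?_⟩
    · have h1 := hβe ⟨r, hrX⟩ (Subgroup.mem_sup_right hθr) hr'S
      have h2 := hβC ⟨θ ⟨r, hrS⟩, Subgroup.mem_sup_right hθr⟩ hθr
      refine (h.mem_T (s := (⟨r, hrS⟩ : S)⁻¹ * ⟨r', hr'S⟩)).2 ?_
      rw [map_mul, map_inv, ← h1]
      exact h2.1
    · have hk : ∀ c : MulAut (preimageAlong θ T'), c ∈ F.autGroup (preimageAlong θ T') →
          (∀ x : preimageAlong θ T', (x : Ω)⁻¹ * (c x : Ω) ∈ Z) → c ∈ kAut F Z (preimageAlong θ T') := fun c hc hm =>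
        ⟨hc, hm, fun x hx => by
          obtain ⟨χ, -, hχe, hχZ⟩ := h.central.2 _ _ ((mem_autGroup_iff F hTS).1 hc)
          exact Subtype.ext ((hχe x).symm.trans
            ((congrArg χ (Subtype.ext rfl)).trans (hχZ ⟨x, hx⟩)))⟩
      have haG : a ∈ F.autGroup (preimageAlong θ T') := (mem_autGroup_iff F hTS).2 haF
      have hck : normAut r hr ∈ kAut F Z (preimageAlong θ T') := hk _
        (autInducedBy_le_autGroup hTS (mem_autInducedBy_iff.2 ⟨r, hrS, fun _ => rfl⟩)) hrZ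
      have hk₁ : a⁻¹ * b ∈ kAut F Z (preimageAlong θ T') := by
        refine hk _ (mul_mem (inv_mem haG) hb) fun x => ?_
        have h2 := hab x
        obtain ⟨χ, -, hχe, hχZ⟩ := h.central.2 _ _ ((mem_autGroup_iff F hTS).1 (inv_mem haG))
        set z : preimageAlong θ T' := (a x)⁻¹ * b x
        have h3 : ((a⁻¹ z : preimageAlong θ T') : Ω) = z :=
          (hχe z).symm.trans ((congrArg χ (Subtype.ext rfl)).trans (hχZ ⟨z, h2⟩))
        have h4 : ((a⁻¹ z : preimageAlong θ T') : Ω) ∈ Z := by rw [h3]; exact h2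
        rw [map_mul, map_inv, MulAut.inv_apply_self] at h4
        exact h4
      have hcomm : (a⁻¹ * b) * normAut r hr = normAut r hr * (a⁻¹ * b) := by
        refine MulEquiv.ext fun x => ?_
        obtain ⟨k₁, hk10⟩ : ∃ k, k = a⁻¹ * b := ⟨_, rfl⟩
        obtain ⟨k₂, hk20⟩ : ∃ k, k = normAut r hr := ⟨_, rfl⟩
        rw [← hk10] at hk₁ ⊢
        rw [← hk20] at hck ⊢
        obtain ⟨u, hu0⟩ : ∃ u, u = x⁻¹ * k₁ x := ⟨_, rfl⟩
        obtain ⟨w, hw0⟩ : ∃ w, w = x⁻¹ * k₂ x := ⟨_, rfl⟩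
        have hu : (u : Ω) ∈ Z := by simpa [hu0] using hk₁.2.1 x
        have hw : (w : Ω) ∈ Z := by simpa [hw0] using hck.2.1 x
        have hx1 : k₁ x = x * u := by rw [hu0, mul_inv_cancel_left]
        have hx2 : k₂ x = x * w := by rw [hw0, mul_inv_cancel_left]
        rw [MulAut.mul_apply, MulAut.mul_apply, hx2, map_mul, hk₁.2.2 w hw, hx1, map_mul,
          hck.2.2 u hu, hx2, mul_assoc, mul_assoc]
        refine congrArg (x * ·) (Subtype.ext ?_)
        change (u : Ω) * w = w * u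
        exact F.center_le_centralizer ((le_sSup (show Z ∈ {Q | F.IsCentral Q} from h.central) :
          Z ≤ F.center) hw) u (hTS u.2)
      have hconj : b * normAut r hr * b⁻¹ = normAut r' hr'n := by
        refine MulEquiv.ext fun x => Subtype.ext ?_
        obtain ⟨y, rfl⟩ := b.surjective x
        rw [MulAut.mul_apply, MulAut.mul_apply, MulAut.inv_apply_self, normAut_apply, hbe, hbe]
        have h5 : Subgroup.inclusion hTX (normAut r hr y) =
            ⟨r, hrX⟩ * Subgroup.inclusion hTX y * (⟨r, hrX⟩ : preimageAlong θ _)⁻¹ := Subtype.ext rfl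
        rw [MonoidHom.comp_apply, MonoidHom.comp_apply, h5, map_mul, map_mul, map_inv]
      rw [← hconj]
      calc a * normAut r hr * a⁻¹
          = a * (normAut r hr * (a⁻¹ * b)) * b⁻¹ := by group
        _ = _ := by rw [← hcomm]; group

end LiftData

end CfsgLib.Fusion.CentralLift
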