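import Cfsg.Agent.Lib.Fusion.CentralLift.Key
import Cfsg.Agent.Lib.Fusion.GeneratedSaturationMain

/-!
# The lifted system

The system generated by the lifted automorphisms agrees with `G` modulo `Z`, and its automorphism
groups of the members are exactly the lifted ones.
-/

set_option autoImplicit false

open Cfsg Cfsg.FusionSystem

namespace CfsgLib.Fusion.CentralLift

variable {Ω : Type*} [Group Ω] {S T Z : Subgroup Ω} {F : FusionSystem S} {G : FusionSystem T}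
  {p : ℕ}

/-- A system containing the lifted automorphisms of the members. -/
def Admissible (F : FusionSystem S) (Z : Subgroup Ω) (G : FusionSystem T) (p : ℕ)
    (W : FusionSystem T) : Prop :=
  ∀ Q : Subgroup Ω, IsCent Z G Q → liftAut F G p Q ≤ W.autGroup Q

/-- The system generated by the lifted automorphisms. -/
def liftSys (F : FusionSystem S) (Z : Subgroup Ω) (G : FusionSystem T) (p : ℕ) :
    FusionSystem T where
  Hom P := {φ | φ ∈ G.Hom P ∧ ∀ W : FusionSystem T, Admissible F Z G p W → φ ∈ W.Hom P}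
  le_of_mem h := G.le_of_mem h.1
  injective_of_mem h := G.injective_of_mem h.1
  conj_mem := fun hP hg => ⟨G.conj_mem hP hg, fun W _ => W.conj_mem hP hg⟩
  comp_mem := by
    intro P Q φ ψ hφ hψ h
    exact ⟨G.comp_mem hφ.1 hψ.1 h, fun W hW => W.comp_mem (hφ.2 W hW) (hψ.2 W hW) h⟩
  inv_mem := by
    intro P φ hφ
    obtain ⟨ψ, hψ, hψe⟩ := G.inv_mem hφ.1
    refine ⟨ψ, ⟨hψ, fun W hW => ?_⟩, hψe⟩
    obtain ⟨θ, hθ, hθe⟩ := W.inv_mem (hφ.2 W hW)
    refine mem_of_eq rfl hθ ?_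
    rintro ⟨_, x, rfl⟩
    rw [hψe]
    exact (hθe x).symm

theorem liftSys_le : (liftSys F Z G p).IsSubsystemOf G := fun _ _ hφ => hφ.1

/-- Two maps congruent modulo `Z`. -/
def ModEq (Z : Subgroup Ω) {P : Subgroup Ω} (φ ψ : P →* Ω) : Prop := ∀ x, (φ x)⁻¹ * ψ x ∈ Z

/-- `e` is the restriction of a map of the whole normalizer. -/
def Reach (D : FusionSystem T) {P X : Subgroup Ω} (e : X ≃* P) : Prop :=
  IsIso D e ∧ ∃ φ ∈ D.Hom (normalizerIn T X),
    ∀ (x : X) (hx : (x : Ω) ∈ normalizerIn T X), φ ⟨x, hx⟩ = e x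

theorem mod_trans {a b c : Ω} (h₁ : a⁻¹ * b ∈ Z) (h₂ : b⁻¹ * c ∈ Z) : a⁻¹ * c ∈ Z := by
  simpa [mul_assoc] using Z.mul_mem h₁ h₂

/-- The restriction of an iso to automorphisms of a stabilized subgroup. -/
theorem exists_res_aut {H : Subgroup Ω} {W : FusionSystem H} {M X : Subgroup Ω} {γ : MulAut M}
    [Finite H] (hγ : γ ∈ W.autGroup M) (hMH : M ≤ H) (hXM : X ≤ M)
    (hs : ∀ x : M, (x : Ω) ∈ X → (γ x : Ω) ∈ X) :
    ∃ a ∈ W.autGroup X, ∀ x : X, (a x : Ω) = γ (Subgroup.inclusion hXM x) :=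
  exists_aut_of_map (res_mem W ((mem_autGroup_iff W hMH).1 hγ) hXM) fun x => hs _ x.2

variable [Finite S] [Fact p.Prime]

namespace CentralSub

variable (h : CentralSub F Z G p)
include h

omit [Finite S] [Fact p.Prime] in
theorem isIso_F_of_lift {P Q : Subgroup Ω} {e : P ≃* Q} (he : IsIso (liftSys F Z G p) e) :
    IsIso F e := h.sub P he.1

theorem liftAut_le_liftSys {Q : Subgroup Ω} (hQ : IsCent Z G Q) :
    liftAut F G p Q ≤ (liftSys F Z G p).autGroup Q := fun _ ha =>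
  (mem_autGroup_iff _ hQ.1).2 ⟨(mem_autGroup_iff G hQ.1).1 (h.liftAut_le hQ.1 ha), fun W hW =>
    (mem_autGroup_iff W hQ.1).1 (hW Q hQ ha)⟩

/-- Adjusting an isomorphism onto a fully normalized subgroup so as to extend modulo `Z`. -/
theorem exists_adjust {X Q : Subgroup Ω} {e : X ≃* Q} (he : IsIso G e) (hZX : Z ≤ X)
    (hQ : G.IsFullyNormalized Q) :
    ∃ a ∈ G.autGroup Q, ∃ ψ ∈ G.Hom (normalizerIn T X),
      ∀ (x : X) (hx : (x : Ω) ∈ normalizerIn T X), (a (e x) : Ω)⁻¹ * ψ ⟨x, hx⟩ ∈ Z := by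
  have hXT : X ≤ T := he.le_left
  have hQT : Q ≤ T := hQ.1
  have := finite_of_le (hQT.trans h.T_le)
  obtain ⟨a, ha, haz⟩ := exists_conj_mem_of_le (p := p)
    (U := (autInducedBy T X).map (MulAut.congr e).toMonoidHom)
    (by
      have := finite_of_le (hXT.trans h.T_le)
      exact (isPGroup_autInducedBy (h.isPGroup.to_le h.T_le) X).map _)
    (h.isPGroup_sylAut hQT)
    (by
      rintro _ ⟨v, hv, rfl⟩
      exact congr_mem_autGroup he (autInducedBy_le_autGroup hXT hv))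
    (h.sylAut_le_G hQT) (h.sylAut_index (h.Z_le_of_iso (h.isIso_of_G he) hZX) hQ)
  have he' : IsIso G (e.trans a) := he.trans ((mem_autGroup_iff G hQT).1 ha)
  obtain ⟨ψ, hψ, hψe⟩ := h.recep (e.trans a) he' hZX hQ (le_normalizerIn hXT) le_rfl
    fun m hm => by
      have h1 := haz _ ⟨normAut m hm.2, mem_autInducedBy_iff.2 ⟨m, hm.1, fun _ => rfl⟩, rfl⟩
      obtain ⟨k, hk, u, hu, hku⟩ := h.sylAut_dec hQT h1
      obtain ⟨n, hn, hne⟩ := mem_autInducedBy_iff.1 hu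
      refine ⟨n, hn, fun x hx => ?_⟩
      have h2 := congrArg (fun c : MulAut Q => c (a (e x))) hku
      simp only [MulAut.mul_apply, MulAut.inv_apply_self] at h2
      have h3 := hk.2.1 (u (a (e x)))
      rw [← h2, hne] at h3
      change ((n * (a (e x) : Ω) * n⁻¹))⁻¹ *
        ((a (e (normAut m hm.2 x)) : Q) : Ω) ∈ Z
      have h4 : (MulAut.congr e (normAut m hm.2)) (e x) = e (normAut m hm.2 x) := by
        change e (normAut m hm.2 (e.symm (e x))) = _
        rw [MulEquiv.symm_apply_apply]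
      rw [← h4]
      exact h3
  exact ⟨a, ha, ψ, hψ, fun x hx => hψe x⟩

/-- An automorphism in `G` of a member is a lifted one times one trivial modulo `Z`. -/
theorem exists_lift_mul {P : Subgroup Ω} (hP : IsCent Z G P) {a : MulAut P}
    (ha : a ∈ G.autGroup P) : ∃ a' ∈ liftAut F G p P, a'⁻¹ * a ∈ kAut F Z P := by
  have := finite_of_le (hP.1.trans h.T_le)
  have := finite_of_le h.T_le
  obtain ⟨n, hn, k, hk⟩ := exists_pPrime_part p a
  have hn' : a ^ n ∈ liftAut F G p P :=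
    Subgroup.subset_closure (Or.inl ⟨pow_mem ha n, hn⟩)
  -- the part of `p`-power order
  obtain ⟨Q, hPQ, hQn⟩ := exists_fullyNormalized G hP.1
  obtain ⟨e, he⟩ := isConj_iff.1 hPQ
  have hQ := h.isCent_of_conj hP hPQ
  have := finite_of_le (hQ.1.trans h.T_le)
  set c := (a ^ n)⁻¹ * a with hc
  have hcG : MulAut.congr e c ∈ G.autGroup Q :=
    congr_mem_autGroup he (mul_mem (inv_mem (pow_mem ha n)) ha)
  have hpz : IsPGroup p (Subgroup.zpowers (MulAut.congr e c)) := by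
    obtain ⟨j, -, hj⟩ := (Nat.dvd_prime_pow Fact.out).1 (orderOf_dvd_of_pow_eq_one
      (show MulAut.congr e c ^ p ^ k = 1 by rw [← map_pow, hk, map_one]))
    exact IsPGroup.of_card (n := j) (by rw [Nat.card_zpowers, hj])
  obtain ⟨b, hb, hbz⟩ := exists_conj_mem_of_le hpz (h.isPGroup_sylAut hQ.1)
    (Subgroup.zpowers_le.2 hcG) (h.sylAut_le_G hQ.1) (h.sylAut_index hQ.2.1 hQn)
  obtain ⟨k₁, hk₁, u, hu, hku⟩ := h.sylAut_dec hQ.1 (hbz _ (Subgroup.mem_zpowers _))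
  obtain ⟨t, htT, hte⟩ := mem_autInducedBy_iff.1 hu
  have hbF := autGroup_mono h.sub Q hb
  have hQS := hQ.1.trans h.T_le
  have heF := h.isIso_of_G he
  have hul : u ∈ liftAut F G p Q := by
    rw [show u = normAut t (mem_normalizer_of_aut hte) from
      MulEquiv.ext fun x => Subtype.ext (hte x)]
    exact h.normAut_mem_liftAut hQ.1 _ htT
  have h1 : MulAut.congr e c = (b⁻¹ * k₁ * b) * (b⁻¹ * u * b) := by
    calc MulAut.congr e c = b⁻¹ * (b * MulAut.congr e c * b⁻¹) * b := by group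
      _ = _ := by rw [hku]; group
  have hu' : b⁻¹ * u * b ∈ liftAut F G p Q := by
    simpa using h.liftAut_normal hQ.1 hul (inv_mem hbF)
  have hk' : b⁻¹ * k₁ * b ∈ kAut F Z Q := by
    simpa using h.kAut_normal hQS hk₁ (inv_mem hbF)
  have hu'' := h.congr_mem_liftAut heF.symm hQ.1 hP.1 hu'
  have hk'' := h.congr_mem_kAut heF.symm hk'
  have h2 := congrArg (MulAut.congr e.symm) h1
  rw [congr_symm_congr, map_mul] at h2
  set u' := MulAut.congr e.symm (b⁻¹ * u * b) with hu'def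
  refine ⟨a ^ n * u', mul_mem hn' hu'', ?_⟩
  rw [mul_inv_rev, mul_assoc, ← hc, h2, ← mul_assoc]
  exact h.kAut_normal (hP.1.trans h.T_le) hk''
    (inv_mem (autGroup_mono h.sub P (h.liftAut_le hP.1 hu''))) |> fun hh => by
      rwa [inv_inv] at hh

omit [Finite S] [Fact p.Prime] in
theorem modEq_comp {P Q : Subgroup Ω} {φ₁ d₁ : P →* Ω} {φ₂ d₂ : Q →* Ω}
    (hd₂ : d₂ ∈ G.Hom Q) (hZQ : Z ≤ Q) (h₁ : ModEq Z φ₁ d₁) (h₂ : ModEq Z φ₂ d₂)
    (hv : ∀ x, φ₁ x ∈ Q) (hv' : ∀ x, d₁ x ∈ Q) :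
    ModEq Z (φ₂.comp (φ₁.codRestrict Q hv)) (d₂.comp (d₁.codRestrict Q hv')) := by
  intro x
  change (φ₂ ⟨φ₁ x, hv x⟩)⁻¹ * d₂ ⟨d₁ x, hv' x⟩ ∈ Z
  have hz := h₁ x
  rw [show (⟨d₁ x, hv' x⟩ : Q) = ⟨φ₁ x, hv x⟩ * ⟨(φ₁ x)⁻¹ * d₁ x, hZQ hz⟩ from
    Subtype.ext (mul_inv_cancel_left _ _).symm, map_mul,
    h.fix (h.sub Q hd₂) (x := ⟨(φ₁ x)⁻¹ * d₁ x, hZQ hz⟩) hz, ← mul_assoc]
  exact Z.mul_mem (h₂ _) hz

/-- **Every map of `G` agrees modulo `Z` with one of the lifted system.** -/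
theorem exists_modEq {P : Subgroup Ω} (hZP : Z ≤ P) {φ : P →* Ω} (hφ : φ ∈ G.Hom P) :
    ∃ d ∈ (liftSys F Z G p).Hom P, ModEq Z φ d := by
  have := finite_of_le h.T_le
  suffices H : ∀ (n : ℕ) (P : Subgroup Ω), P ≤ T → Z ≤ P → Nat.card T - Nat.card P ≤ n →
      ∀ φ ∈ G.Hom P, ∃ d ∈ (liftSys F Z G p).Hom P, ModEq Z φ d from
    H _ P (le_S G hφ) hZP le_rfl φ hφ
  clear hZP hφ φ P
  intro n
  induction n using Nat.strong_induction_on with
  | _ n ih =>
  intro P hPT hZP hnP φ hφ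
  set D := liftSys F Z G p with hD
  -- automorphisms of members
  have hmem : ∀ Q : Subgroup Ω, IsCent Z G Q → ∀ a ∈ G.autGroup Q,
      ∃ d ∈ D.Hom Q, ∀ x : Q, (a x : Ω)⁻¹ * d x ∈ Z := by
    intro Q hQ a ha
    obtain ⟨a', ha', hk⟩ := h.exists_lift_mul hQ ha
    refine ⟨_, (mem_autGroup_iff D hQ.1).1 (h.liftAut_le_liftSys hQ ha'), fun x => ?_⟩
    change (a x : Ω)⁻¹ * (a' x : Ω) ∈ Z
    have h1 := h.iso_mem_Z (h.isIso_of_G ((mem_autGroup_iff G hQ.1).1 (h.liftAut_le hQ.1 ha')))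
      (x := x⁻¹ * (a'⁻¹ * a) x) (hk.2.1 x)
    rw [map_mul, map_inv, MulAut.mul_apply, MulAut.apply_inv_self] at h1
    simp only [Subgroup.coe_mul, Subgroup.coe_inv] at h1
    simpa using Z.inv_mem h1
  rcases eq_or_lt_of_le hPT with rfl | hlt
  · have hv : ∀ x, φ x ∈ P := apply_mem_S G hφ
    obtain ⟨a, ha, hae⟩ := exists_aut_of_map hφ hv
    obtain ⟨d, hd, hde⟩ := hmem P h.isCent_top a ha
    exact ⟨d, hd, fun x => by rw [← hae]; exact hde x⟩
  have := finite_of_le (hPT.trans h.T_le)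
  have hbig : ∀ M : Subgroup Ω, M ≤ T → Nat.card P < Nat.card M → Z ≤ M → ∀ ψ ∈ G.Hom M,
      ∃ d ∈ D.Hom M, ModEq Z ψ d := fun M hM hcard hZM ψ hψ => by
    have hMT : Nat.card M ≤ Nat.card T := Subgroup.card_le_of_le hM
    exact ih (Nat.card T - Nat.card M) (by omega) M hM hZM le_rfl ψ hψ
  have hgrow : ∀ {A B : Subgroup Ω}, A < B → B ≤ T → Nat.card A < Nat.card B := by
    intro A B hAB hB
    have := finite_of_le (hB.trans h.T_le)
    exact lt_of_not_ge fun hge => hAB.ne (Subgroup.eq_of_le_of_card_ge hAB.le hge)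
  -- automorphisms of fully normalized subgroups of the same order
  have haut : ∀ Q : Subgroup Ω, G.IsFullyNormalized Q → Z ≤ Q → Nat.card Q = Nat.card P →
      ∀ a ∈ G.autGroup Q, ∃ d ∈ D.Hom Q, ∀ x : Q, (a x : Ω)⁻¹ * d x ∈ Z := by
    intro Q hQ hZQ hcard a ha
    by_cases hQc : IsCent Z G Q
    · exact hmem Q hQc a ha
    obtain ⟨R, hR, t, htT, htR, htn⟩ : ∃ R, G.IsConj Q R ∧ ∃ t ∈ T,
        (∀ q ∈ R, q⁻¹ * (t * q * t⁻¹) ∈ Z) ∧ t ∉ R := by
      by_contra hcon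
      push Not at hcon
      exact hQc ⟨hQ.1, hZQ, hcon⟩
    obtain ⟨g, hg⟩ := isConj_iff.1 hR
    have hRT := le_right_of_isConj hR
    have hZR : Z ≤ R := h.Z_le_of_iso (h.isIso_of_G hg) hZQ
    have := finite_of_le (hQ.1.trans h.T_le)
    have := finite_of_le (hRT.trans h.T_le)
    have hnorm : ∀ {Y : Subgroup Ω} {w : Ω}, Y ≤ T → Z ≤ Y →
        (∀ q ∈ Y, q⁻¹ * (w * q * w⁻¹) ∈ Z) → w ∈ Subgroup.normalizer (Y : Set Ω) := by
      intro Y w hYT hZY hw
      have := finite_of_le (hYT.trans h.T_le)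
      refine mem_normalizer_of_forall fun q hq => ?_
      have h1 := Y.mul_mem hq (hZY (hw q hq))
      rwa [mul_inv_cancel_left] at h1
    -- transport `t` to `Q`
    obtain ⟨ψ, hψ, hψe⟩ := h.recep (M := R ⊔ Subgroup.zpowers t) g.symm hg.symm hZR hQ le_sup_left
      (sup_le (le_normalizerIn hRT) (Subgroup.zpowers_le.2 ⟨htT, hnorm hRT hZR htR⟩))
      (fun m hm => by
        obtain ⟨s, hs, r, hr, rfl⟩ := exists_mul_of_mem_sup
          (Subgroup.zpowers_le.2 (hnorm hRT hZR htR))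
          ((sup_comm R (Subgroup.zpowers t)).le hm)
        refine ⟨(g.symm ⟨r, hr⟩ : Ω), hQ.1 (g.symm _).2, fun x hx => ?_⟩
        obtain ⟨i, rfl⟩ := hs
        have htk : normAut t (hnorm hRT hZR htR) ∈ kAut F Z R := h.mem_kAut (hRT.trans h.T_le)
          (autInducedBy_le_autGroup (hRT.trans h.T_le) (mem_autInducedBy_iff.2
            ⟨t, h.T_le htT, fun _ => rfl⟩)) fun q => htR q q.2
        have hti : ∀ q : R, (q : Ω)⁻¹ * (t ^ i * q * (t ^ i)⁻¹) ∈ Z := fun q => by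
          have h1 := (zpow_mem htk i).2.1 q
          rw [show normAut t (hnorm hRT hZR htR) ^ i =
            normAut (t ^ i) (zpow_mem (hnorm hRT hZR htR) i) from
              (map_zpow R.normalizerMonoidHom ⟨t, hnorm hRT hZR htR⟩ i).symm, normAut_apply] at h1
          exact h1
        have hy : r * (x : Ω) * r⁻¹ ∈ R := R.mul_mem (R.mul_mem hr x.2) (R.inv_mem hr)
        have hz := hti ⟨_, hy⟩
        have hgz : ((g.symm ⟨_, hy⟩ : Q) : Ω)⁻¹ *
            ((g.symm ⟨t ^ i * r * x * (t ^ i * r)⁻¹, hx⟩ : Q) : Ω) ∈ Z := by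
          have h1 := h.iso_mem_Z (h.isIso_of_G hg.symm)
            (x := (⟨_, hy⟩ : R)⁻¹ * ⟨t ^ i * r * x * (t ^ i * r)⁻¹, hx⟩) (by
              simpa [mul_assoc] using hz)
          rw [map_mul, map_inv] at h1
          exact h1
        rw [show (⟨r * x * r⁻¹, hy⟩ : R) = ⟨r, hr⟩ * x * (⟨r, hr⟩ : R)⁻¹ from Subtype.ext rfl,
          map_mul, map_mul, map_inv] at hgz
        exact hgz)
    have hwT : ψ ⟨t, le_sup_right (a := R) (Subgroup.mem_zpowers t)⟩ ∈ T := apply_mem_S G hψ _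
    set w := ψ ⟨t, le_sup_right (a := R) (Subgroup.mem_zpowers t)⟩ with hw
    have hψR : ∀ q : R, ψ (Subgroup.inclusion le_sup_left q) ∈ Q := fun q => by
      have h1 := Q.mul_mem (g.symm q).2 (hZQ (hψe q))
      rwa [mul_inv_cancel_left] at h1
    have hwQ : ∀ q ∈ Q, q⁻¹ * (w * q * w⁻¹) ∈ Z := by
      intro q hq
      set x := g ⟨q, hq⟩
      set z := (g.symm x : Ω)⁻¹ * ψ (Subgroup.inclusion le_sup_left x) with hz
      have hzZ : z ∈ Z := hψe x
      have hq' : ψ (Subgroup.inclusion le_sup_left x) = q * z := by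
        have hgx : (g.symm x : Ω) = q := congrArg Subtype.val (g.symm_apply_apply ⟨q, hq⟩)
        rw [hz, hgx, mul_inv_cancel_left]
      set t' : ↥(R ⊔ Subgroup.zpowers t) := ⟨t, le_sup_right (a := R) (Subgroup.mem_zpowers t)⟩
      set x' : ↥(R ⊔ Subgroup.zpowers t) := Subgroup.inclusion le_sup_left x
      have h1 : ψ (x'⁻¹ * (t' * x' * t'⁻¹)) ∈ Z := by
        have h0 : ((x'⁻¹ * (t' * x' * t'⁻¹) : ↥(R ⊔ Subgroup.zpowers t)) : Ω) ∈ Z := htR x x.2
        rw [h.fix (h.sub _ hψ) h0]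
        exact h0
      rw [map_mul, map_inv, map_mul, map_mul, map_inv, hq'] at h1
      have hc := h.commute_Z hzZ (h.T_le hwT)
      have h2 : (q * z)⁻¹ * (w * (q * z) * w⁻¹) = z⁻¹ * (q⁻¹ * (w * q * w⁻¹)) * z := by
        calc (q * z)⁻¹ * (w * (q * z) * w⁻¹) = z⁻¹ * (q⁻¹ * (w * q * (z * w⁻¹))) := by group
          _ = z⁻¹ * (q⁻¹ * (w * q * (w⁻¹ * z))) := by
            rw [show z * w⁻¹ = w⁻¹ * z by rw [eq_inv_mul_iff_mul_eq, ← mul_assoc, hc,
              mul_inv_cancel_right]]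
          _ = _ := by group
      rw [h2] at h1
      have := Z.mul_mem (Z.mul_mem hzZ h1) (Z.inv_mem hzZ)
      simpa [mul_assoc] using this
    have hwn := hnorm hQ.1 hZQ hwQ
    have hwnQ : w ∉ Q := by
      intro hwq
      obtain ⟨x', hx'⟩ := (show w ∈ (ψ.comp (Subgroup.inclusion le_sup_left)).range by
        rw [show (ψ.comp (Subgroup.inclusion le_sup_left)).range = Q by
          rw [← h.range_eq_of_mod (h.sub R hg.symm) (res_mem F (h.sub _ hψ) le_sup_left) hZR hψe,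
            range_subtype_comp]]
        exact hwq)
      have h9 : (x' : Ω) = t := congrArg Subtype.val (G.injective_of_mem hψ hx')
      rw [← h9] at htn
      exact htn x'.2
    -- `a` extends
    have haI := (mem_autGroup_iff G hQ.1).1 ha
    obtain ⟨θ, hθ, hθe⟩ := h.recep (M := Q ⊔ Subgroup.zpowers w) a haI hZQ hQ le_sup_left
      (sup_le (le_normalizerIn hQ.1) (Subgroup.zpowers_le.2 ⟨hwT, hwn⟩))
      (fun m hm => by
        obtain ⟨s, hs, r, hr, rfl⟩ := exists_mul_of_mem_sup (Subgroup.zpowers_le.2 hwn)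
          ((sup_comm Q (Subgroup.zpowers w)).le hm)
        refine ⟨(a ⟨r, hr⟩ : Ω), hQ.1 (a _).2, fun x hx => ?_⟩
        obtain ⟨i, rfl⟩ := hs
        have htk : normAut w hwn ∈ kAut F Z Q := h.mem_kAut (hQ.1.trans h.T_le)
          (autInducedBy_le_autGroup (hQ.1.trans h.T_le) (mem_autInducedBy_iff.2
            ⟨w, h.T_le hwT, fun _ => rfl⟩)) fun q => hwQ q q.2
        have hti : ∀ q : Q, (q : Ω)⁻¹ * (w ^ i * q * (w ^ i)⁻¹) ∈ Z := fun q => by
          have h1 := (zpow_mem htk i).2.1 q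
          rw [show normAut w hwn ^ i = normAut (w ^ i) (zpow_mem hwn i) from
              (map_zpow Q.normalizerMonoidHom ⟨w, hwn⟩ i).symm, normAut_apply] at h1
          exact h1
        have hy : r * (x : Ω) * r⁻¹ ∈ Q := Q.mul_mem (Q.mul_mem hr x.2) (Q.inv_mem hr)
        have hgz : ((a ⟨_, hy⟩ : Q) : Ω)⁻¹ *
            ((a ⟨w ^ i * r * x * (w ^ i * r)⁻¹, hx⟩ : Q) : Ω) ∈ Z := by
          have h1 := h.iso_mem_Z (h.isIso_of_G haI)
            (x := (⟨_, hy⟩ : Q)⁻¹ * ⟨w ^ i * r * x * (w ^ i * r)⁻¹, hx⟩) (by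
              simpa [mul_assoc] using hti ⟨_, hy⟩)
          rw [map_mul, map_inv] at h1
          exact h1
        rw [show (⟨r * x * r⁻¹, hy⟩ : Q) = ⟨r, hr⟩ * x * (⟨r, hr⟩ : Q)⁻¹ from Subtype.ext rfl,
          map_mul, map_mul, map_inv] at hgz
        exact hgz)
    have hMT : Q ⊔ Subgroup.zpowers w ≤ T := sup_le hQ.1 (Subgroup.zpowers_le.2 hwT)
    have hQlt : Q < Q ⊔ Subgroup.zpowers w := lt_of_le_of_ne le_sup_left fun he =>
      hwnQ (he.symm.le (le_sup_right (a := Q) (Subgroup.mem_zpowers w)))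
    obtain ⟨d, hd, hde⟩ := hbig _ hMT (hcard ▸ hgrow hQlt hMT) (hZQ.trans le_sup_left) θ hθ
    refine ⟨_, res_mem D hd le_sup_left, fun x => ?_⟩
    have := Z.mul_mem (hθe x) (hde (Subgroup.inclusion le_sup_left x))
    rwa [mul_assoc, mul_inv_cancel_left] at this
  -- isomorphisms onto fully normalized subgroups
  have htop : ∀ (X Q : Subgroup Ω) (e : X ≃* Q), IsIso G e → Z ≤ X → G.IsFullyNormalized Q →
      Nat.card X = Nat.card P → ∃ d ∈ D.Hom X, ∀ x : X, (e x : Ω)⁻¹ * d x ∈ Z := by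
    intro X Q e he hZX hQ hcard
    have hXT : X ≤ T := he.le_left
    have hXlt : X < T := lt_of_le_of_ne hXT fun hX => by
      subst hX
      exact (hgrow hlt le_rfl).ne hcard.symm
    obtain ⟨a, ha, ψ, hψ, hψe⟩ := h.exists_adjust he hZX hQ
    have hXN := lt_normalizerIn (h.isPGroup.to_le h.T_le) hXlt
    obtain ⟨d, hd, hde⟩ := hbig _ inf_le_left (hcard ▸ hgrow hXN inf_le_left)
      (hZX.trans hXN.le) ψ hψ
    have hQcard : Nat.card Q = Nat.card P := (Nat.card_congr e.symm.toEquiv).trans hcard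
    have hZQ := h.Z_le_of_iso (h.isIso_of_G he) hZX
    obtain ⟨da, hda, hdae⟩ := haut Q hQ hZQ hQcard a⁻¹ (inv_mem ha)
    have h1 : ModEq Z (Q.subtype.comp (e.trans a).toMonoidHom)
        (d.comp (Subgroup.inclusion hXN.le)) := fun x => by
      exact mod_trans (hψe x (hXN.le x.2)) (hde ⟨x, hXN.le x.2⟩)
    have hdX : ∀ x, d.comp (Subgroup.inclusion hXN.le) x ∈ Q := fun x => by
      have := Q.mul_mem (a (e x)).2 (hZQ (h1 x))
      rwa [show (Q.subtype.comp (e.trans a).toMonoidHom) x = (a (e x) : Ω) from rfl,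
        mul_inv_cancel_left] at this
    refine ⟨_, D.comp_mem (res_mem D hd hXN.le) hda hdX, fun x => ?_⟩
    have h2 := h.modEq_comp (φ₂ := Q.subtype.comp (a⁻¹).toMonoidHom) (liftSys_le Q hda) hZQ h1
      hdae (fun x => (a (e x)).2) hdX x
    change ((a⁻¹ (a (e x)) : Q) : Ω)⁻¹ * _ ∈ Z at h2
    rw [MulAut.inv_apply_self] at h2
    exact h2
  obtain ⟨eφ, heφ, heφe⟩ := exists_iso_of_mem hφ
  obtain ⟨Q₀, hQQ₀, hQ₀⟩ := exists_fullyNormalized G (range_le_S G hφ)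
  obtain ⟨e₂, he₂⟩ := isConj_iff.1 hQQ₀
  have hZr : Z ≤ φ.range := h.Z_le_range (h.sub P hφ) hZP
  obtain ⟨d₁, hd₁, hd₁e⟩ := htop P Q₀ (eφ.trans e₂) (heφ.trans he₂) hZP hQ₀ rfl
  obtain ⟨d₂, hd₂, hd₂e⟩ := htop φ.range Q₀ e₂ he₂ hZr hQ₀
    (Nat.card_congr eφ.symm.toEquiv)
  have hr₂ : d₂.range = Q₀ := by
    rw [← h.range_eq_of_mod (h.sub _ he₂) (h.sub _ (liftSys_le _ hd₂)) hZr hd₂e, range_subtype_comp]
  obtain ⟨f₂, hf₂, hf₂e⟩ := exists_iso_of_range hd₂ hr₂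
  have hZQ₀ := h.Z_le_of_iso (h.isIso_of_G he₂) hZr
  have hd₁Q : ∀ x, d₁ x ∈ Q₀ := fun x => by
    have := Q₀.mul_mem (e₂ (eφ x)).2 (hZQ₀ (hd₁e x))
    rwa [show ((eφ.trans e₂) x : Ω) = (e₂ (eφ x) : Ω) from rfl, mul_inv_cancel_left] at this
  refine ⟨_, D.comp_mem hd₁ hf₂.symm hd₁Q, fun x => ?_⟩
  change (φ x)⁻¹ * ((f₂.symm ⟨d₁ x, hd₁Q x⟩ : φ.range) : Ω) ∈ Z
  set w := (f₂ (eφ x))⁻¹ * ⟨d₁ x, hd₁Q x⟩
  have hwZ : (w : Ω) ∈ Z := by
    have h1 : ((f₂ (eφ x) : Q₀) : Ω)⁻¹ * (e₂ (eφ x) : Ω) ∈ Z := by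
      rw [hf₂e]; simpa using Z.inv_mem (hd₂e (eφ x))
    have h2 := Z.mul_mem h1 (hd₁e x)
    change _ * ((((e₂ (eφ x) : Q₀)) : Ω)⁻¹ * d₁ x) ∈ Z at h2
    rw [mul_assoc, mul_inv_cancel_left] at h2
    exact h2
  have h3 : f₂.symm ⟨d₁ x, hd₁Q x⟩ = eφ x * f₂.symm w := by
    rw [← f₂.symm_apply_apply (eφ x), ← map_mul]
    exact congrArg f₂.symm (mul_inv_cancel_left _ _).symm
  rw [h3, ← heφe, Subgroup.coe_mul, inv_mul_cancel_left]
  exact h.iso_mem_Z (h.isIso_F_of_lift hf₂).symm hwZ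

theorem isConj_liftSys {P Q : Subgroup Ω} (hZP : Z ≤ P) (hc : G.IsConj P Q) :
    (liftSys F Z G p).IsConj P Q := by
  obtain ⟨φ, hφ, rfl⟩ := hc
  obtain ⟨d, hd, hde⟩ := h.exists_modEq hZP hφ
  exact ⟨d, hd, (h.range_eq_of_mod (h.sub P hφ) (h.sub P (liftSys_le P hd)) hZP hde).symm⟩

theorem fullyNormalized_G_of_liftSys {P : Subgroup Ω} (hZP : Z ≤ P)
    (hP : (liftSys F Z G p).IsFullyNormalized P) : G.IsFullyNormalized P :=
  ⟨hP.1, fun R hR => hP.2 R (h.isConj_liftSys hZP hR)⟩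

/-- Restrictions of lifted automorphisms are lifted. -/
theorem res_mem_liftAut {M X : Subgroup Ω} (hM : IsCent Z G M) (hX : IsCent Z G X) (hXM : X ≤ M)
    {γ : MulAut M} (hγ : γ ∈ liftAut F G p M) (hs : ∀ x : M, (x : Ω) ∈ X ↔ (γ x : Ω) ∈ X)
    {a : MulAut X} (hae : ∀ x : X, (a x : Ω) = γ (Subgroup.inclusion hXM x)) :
    a ∈ liftAut F G p X := by
  have hMS := hM.1.trans h.T_le
  have := finite_of_le hMS
  have := finite_of_le h.T_le
  have := finite_of_le (hX.1.trans h.T_le)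
  let γs : stabAut G M X := ⟨γ, h.liftAut_le hM.1 hγ, hs⟩
  let res : stabAut G M X →* MulAut X := (G.autGroup X).subtype.comp (resStab hXM hM.1)
  have hres : res γs = a := MulEquiv.ext fun x => Subtype.ext (hae x).symm
  obtain ⟨n, hn, k, hk⟩ := exists_pPrime_part p γs
  rw [← hres, show γs = γs ^ n * ((γs ^ n)⁻¹ * γs) by rw [mul_inv_cancel_left], map_mul]
  refine mul_mem (Subgroup.subset_closure (Or.inl ⟨(resStab hXM hM.1 (γs ^ n)).2,
    Nat.Coprime.coprime_dvd_left (orderOf_map_dvd res _) hn⟩)) ?_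
  set c := (γs ^ n)⁻¹ * γs with hc
  have hcl : (c : MulAut M) ∈ liftAut F G p M := by
    rw [hc, Subgroup.coe_mul, Subgroup.coe_inv, SubmonoidClass.coe_pow]
    exact mul_mem (inv_mem (pow_mem hγ n)) hγ
  obtain ⟨Y, e, he, hYT, hY, t, ht, htT, hce⟩ := h.exists_congr_normAut hM
    (fun Y hY _ => h.sep hY) hcl (k := k) (congrArg Subtype.val hk :)
  set X₁ := img (Y.subtype.comp e.symm.toMonoidHom) X
  obtain ⟨g, hg, hge⟩ : ∃ g : X ≃* X₁, IsIso F g ∧
      ∀ x : X, (g x : Ω) = e.symm (Subgroup.inclusion hXM x) := he.symm.exists_res hXM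
  have hX₁T := (h.isCent_of_iso hX hg).1
  have htX₁ : t ∈ Subgroup.normalizer (X₁ : Set Ω) := by
    have := finite_of_le (hX₁T.trans h.T_le)
    refine mem_normalizer_of_forall fun y hy => ?_
    obtain ⟨x, hx, rfl⟩ := mem_img.1 hy
    refine mem_img.2 ⟨(c : MulAut M) x, (c.2.2 x).1 hx, ?_⟩
    rw [hce]
    change ((e.symm (e (normAut t ht (e.symm x))) : Y) : Ω) = _
    rw [MulEquiv.symm_apply_apply]
    rfl
  refine Subgroup.subset_closure (Or.inr ⟨X₁, g.symm, hg.symm, hX₁T, t, htX₁, htT, ?_⟩)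
  refine MulEquiv.ext fun x => g.injective ?_
  change g (res c x) = g (g.symm (normAut t htX₁ (g x)))
  rw [MulEquiv.apply_symm_apply]
  refine Subtype.ext ?_
  rw [hge, normAut_apply, hge]
  change ((e.symm (Subgroup.inclusion hXM (res c x)) : Y) : Ω) = _
  rw [show Subgroup.inclusion hXM (res c x) = (c : MulAut M) (Subgroup.inclusion hXM x) from
    Subtype.ext rfl, hce]
  change ((e.symm (e (normAut t ht (e.symm (Subgroup.inclusion hXM x)))) : Y) : Ω) = _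
  rw [MulEquiv.symm_apply_apply]
  rfl

/-- A fully normalized member with lifted automizer is fully automized and receptive. -/
theorem satMember {Q : Subgroup Ω} (hQ : IsCent Z G Q) (hQn : G.IsFullyNormalized Q)
    (hstar : (liftSys F Z G p).autGroup Q ≤ liftAut F G p Q) :
    (liftSys F Z G p).IsFullyAutomized p Q ∧ (liftSys F Z G p).IsReceptive Q := by
  have := finite_of_le h.T_le
  have := finite_of_le (hQ.1.trans h.T_le)
  set D := liftSys F Z G p
  have hT := h.isPGroup.to_le h.T_le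
  have heq : D.autGroup Q = liftAut F G p Q :=
    le_antisymm hstar (h.liftAut_le_liftSys hQ)
  constructor
  · refine (isFullyAutomized_iff hT).2 ⟨hQ.1, ?_⟩
    rw [heq]
    have hAG := h.liftAut_le hQ.1 (P := Q)
    have hn : ((liftAut F G p Q).subgroupOf (G.autGroup Q)).Normal := ⟨fun a ha b =>
      Subgroup.mem_subgroupOf.2 (h.liftAut_normal hQ.1 (Subgroup.mem_subgroupOf.1 ha)
        (autGroup_mono h.sub Q b.2))⟩
    have h1 := not_dvd_relIndex_inf (p := p) (Sy := (sylAut F Z T Q).subgroupOf (G.autGroup Q))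
      (A := (liftAut F G p Q).subgroupOf (G.autGroup Q)) (h.sylAut_index hQ.2.1 hQn)
    have hU : sylAut F Z T Q ⊓ liftAut F G p Q = autInducedBy T Q := by
      refine le_antisymm (fun s hs => ?_) (le_inf le_sup_left fun u hu => ?_)
      · obtain ⟨k, hk, u, hu, hse⟩ := h.sylAut_dec hQ.1 hs.1
        have hul : u ∈ liftAut F G p Q := by
          obtain ⟨t, htT, hte⟩ := mem_autInducedBy_iff.1 hu
          rw [show u = normAut t (mem_normalizer_of_aut hte) from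
            MulEquiv.ext fun x => Subtype.ext (hte x)]
          exact h.normAut_mem_liftAut hQ.1 _ htT
        have hkl : k ∈ liftAut F G p Q := by
          rw [show k = s * u⁻¹ by rw [hse, mul_inv_cancel_right]]
          exact mul_mem hs.2 (inv_mem hul)
        rw [hse]
        exact mul_mem (((inn_eq Q).le.trans (autInducedBy_mono hQ.1)) (h.sep hQ k hkl hk)) hu
      · obtain ⟨t, htT, hte⟩ := mem_autInducedBy_iff.1 hu
        rw [show u = normAut t (mem_normalizer_of_aut hte) from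
          MulEquiv.ext fun x => Subtype.ext (hte x)]
        exact h.normAut_mem_liftAut hQ.1 _ htT
    rwa [show (sylAut F Z T Q).subgroupOf (G.autGroup Q) ⊓ (liftAut F G p Q).subgroupOf (G.autGroup Q)
        = (sylAut F Z T Q ⊓ liftAut F G p Q).subgroupOf (G.autGroup Q) from rfl,
      hU, Subgroup.relIndex_subgroupOf hAG] at h1
  · refine ⟨hQ.1, fun R φ hφ hr => ?_⟩
    obtain ⟨e, he, hee⟩ := exists_iso_of_range hφ hr
    have heG : IsIso G e := liftSys_le R he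
    have hZR : Z ≤ R := h.Z_le_of_iso (h.isIso_of_G heG).symm hQ.2.1
    have hRN : R ≤ extender T R φ := le_extender hφ
    obtain ⟨ψ, hψ, hψe⟩ := h.recep (M := extender T R φ) e heG hZR hQn hRN
      (extender_le_normalizerIn _ _) fun m hm => by
        obtain ⟨-, hmn, n, hn, hne⟩ := mem_extender_iff.1 hm
        refine ⟨n, hn, fun x hx => ?_⟩
        rw [hee, hee, ← hne]
        rw [show normAut m hmn x = ⟨m * x * m⁻¹, hx⟩ from rfl, inv_mul_cancel]
        exact Z.one_mem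
    obtain ⟨d, hd, hde⟩ := h.exists_modEq (hZR.trans hRN) hψ
    have hmod : ∀ x : R, (e x : Ω)⁻¹ * d (Subgroup.inclusion hRN x) ∈ Z := fun x => by
      have := Z.mul_mem (hψe x) (hde (Subgroup.inclusion hRN x))
      rwa [mul_assoc, mul_inv_cancel_left] at this
    obtain ⟨e', he', he'e⟩ := exists_iso_of_range (res_mem D hd hRN) (Q := Q) (by
      rw [← h.range_eq_of_mod (h.isIso_of_G heG) (res_mem F (h.sub _ (liftSys_le _ hd)) hRN) hZR hmod,
        range_subtype_comp])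
    set δ : MulAut Q := e.symm.trans e'
    have hδD : δ ∈ D.autGroup Q := (mem_autGroup_iff D hQ.1).2 (he.symm.trans he')
    have hδk : δ ∈ kAut F Z Q := h.mem_kAut (hQ.1.trans h.T_le)
      (autGroup_mono h.sub Q (autGroup_mono liftSys_le Q hδD)) fun y => by
        have h1 := hmod (e.symm y)
        rw [MulEquiv.apply_symm_apply, ← show (e' (e.symm y) : Ω) =
          d (Subgroup.inclusion hRN (e.symm y)) from he'e _] at h1
        exact h1
    have hδI := h.sep hQ δ (hstar hδD) hδk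
    rw [inn_eq, mem_autInducedBy_iff] at hδI
    obtain ⟨w, hw, hwe⟩ := hδI
    refine ⟨_, D.comp_mem hd (D.conj_mem le_rfl (T.inv_mem (hQ.1 hw))) (apply_mem_S D hd),
      fun x hP hN => ?_⟩
    change w⁻¹ * d ⟨x, hN⟩ * w⁻¹⁻¹ = φ ⟨x, hP⟩
    rw [← hee, show d ⟨x, hN⟩ = (e' ⟨x, hP⟩ : Ω) from (he'e ⟨x, hP⟩).symm]
    have h1 := hwe (e ⟨x, hP⟩)
    rw [show δ (e ⟨x, hP⟩) = e' ⟨x, hP⟩ from congrArg e' (e.symm_apply_apply _)] at h1
    rw [h1]
    group

end CentralSub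

end CfsgLib.Fusion.CentralLift
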