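import Cfsg.Agent.Lib.Fusion.CentralLift.Basic
import Cfsg.Agent.Lib.Fusion.SmallControl
import Cfsg.Agent.Lib.Fusion.FactorHat
import Cfsg.Agent.Lib.Fusion.Normal

/-!
# The automorphisms trivial modulo `Z` among the lifted ones are inner
-/

set_option autoImplicit false

open Cfsg Cfsg.FusionSystem

namespace CfsgLib.Fusion.CentralLift

variable {Ω : Type*} [Group Ω]

/-- The part of order prime to `p` is a power; the rest has `p`-power order. -/
theorem exists_pPrime_part {A : Type*} [Group A] [Finite A] (p : ℕ) [hp : Fact p.Prime] (a : A) :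
    ∃ n : ℕ, (orderOf (a ^ n)).Coprime p ∧ ∃ k : ℕ, ((a ^ n)⁻¹ * a) ^ p ^ k = 1 := by
  set e := (orderOf a).factorization p
  have hb : orderOf (a ^ p ^ e) = orderOf a / p ^ e :=
    orderOf_pow_of_dvd (pow_ne_zero _ hp.out.ne_zero) (Nat.ordProj_dvd _ _)
  have hco : (orderOf (a ^ p ^ e)).Coprime p := by
    rw [hb]; exact (Nat.coprime_ordCompl hp.out (orderOf_pos a).ne').symm
  obtain ⟨u, hu⟩ := exists_pow_eq_self_of_coprime (x := a ^ p ^ e) (n := p ^ e)
    (hco.pow_right e).symm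
  refine ⟨p ^ e * u, ?_, e, ?_⟩
  · rw [pow_mul]
    exact Nat.Coprime.coprime_dvd_left (orderOf_pow_dvd _) hco
  · have hcm : Commute ((a ^ (p ^ e * u))⁻¹) a := ((Commute.refl a).pow_left _).inv_left
    rw [hcm.mul_pow, inv_pow, ← pow_mul, mul_right_comm, pow_mul, pow_mul,
      ← pow_mul (a ^ p ^ e), mul_comm (p ^ e) u, pow_mul (a ^ p ^ e)]
    rw [← pow_mul, mul_comm u, pow_mul, hu, inv_mul_cancel]

theorem eq_one_of_coprime_of_pow_mem {A : Type*} [Group A] {p : ℕ} [Fact p.Prime]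
    {K : Subgroup A} (hK : IsPGroup p K) {x : A} (hx : x ∈ K) (hco : (orderOf x).Coprime p) :
    x = 1 := by
  obtain ⟨k, hk⟩ := hK ⟨x, hx⟩
  exact orderOf_eq_one_iff.1 ((hco.pow_right k).eq_one_of_dvd
    (orderOf_dvd_of_pow_eq_one (congrArg Subtype.val hk)))

variable {S T Z : Subgroup Ω}

/-- `Aut_T(P)` with the automorphisms trivial modulo `Z`. -/
abbrev sylAut (F : FusionSystem S) (Z T P : Subgroup Ω) : Subgroup (MulAut P) :=
  autInducedBy T P ⊔ kAut F Z P

variable [Finite S] {F : FusionSystem S} {G : FusionSystem T} {p : ℕ} [Fact p.Prime]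

namespace CentralSub

variable (h : CentralSub F Z G p)
include h

/-- The automorphisms trivial modulo `Z` are central modulo inner ones. -/
def CommInn (_h : CentralSub F Z G p) (P : Subgroup Ω) : Prop :=
  ∀ a ∈ G.autGroup P, ∀ k ∈ kAut F Z P, a * k * a⁻¹ * k⁻¹ ∈ Cfsg.Inn P

/-- The lifted automorphisms trivial modulo `Z` are inner. -/
def Sep (_h : CentralSub F Z G p) (P : Subgroup Ω) : Prop :=
  ∀ a ∈ liftAut F G p P, a ∈ kAut F Z P → a ∈ Cfsg.Inn P

omit [Finite S] [Fact p.Prime] in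
theorem autT_le_G {P : Subgroup Ω} (hP : P ≤ T) : autInducedBy T P ≤ G.autGroup P :=
  autInducedBy_le_autGroup hP

theorem sylAut_le_G {P : Subgroup Ω} (hP : P ≤ T) : sylAut F Z T P ≤ G.autGroup P :=
  sup_le (h.autT_le_G hP) (h.kAut_le_G hP)

theorem autT_le_normalizer {P : Subgroup Ω} (hP : P ≤ T) :
    autInducedBy T P ≤ Subgroup.normalizer (kAut F Z P : Set (MulAut P)) := by
  intro a ha
  have haF := autGroup_mono h.sub P (h.autT_le_G hP ha)
  have hn : ∀ b ∈ kAut F Z P, a * b * a⁻¹ ∈ kAut F Z P := fun b hb =>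
    h.kAut_normal (hP.trans h.T_le) hb haF
  refine Subgroup.mem_normalizer_iff.2 fun b => ⟨hn b, fun hb => ?_⟩
  have := h.kAut_normal (hP.trans h.T_le) hb (inv_mem haF)
  simpa [mul_assoc] using this

theorem isPGroup_sylAut {P : Subgroup Ω} (hP : P ≤ T) : IsPGroup p (sylAut F Z T P) := by
  have := finite_of_le (hP.trans h.T_le)
  exact IsPGroup.to_sup_of_normal_right' (isPGroup_autInducedBy (h.isPGroup.to_le h.T_le) P)
    (h.isPGroup_kAut (hP.trans h.T_le)) (h.autT_le_normalizer hP)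

theorem sylAut_dec {P : Subgroup Ω} (hP : P ≤ T) {s : MulAut P} (hs : s ∈ sylAut F Z T P) :
    ∃ k ∈ kAut F Z P, ∃ u ∈ autInducedBy T P, s = k * u := by
  have hs' : s ∈ autInducedBy T P ⊔ kAut F Z P := hs
  rw [← SetLike.mem_coe, Subgroup.coe_mul_of_left_le_normalizer_right _ _
    (h.autT_le_normalizer hP)] at hs'
  obtain ⟨u, hu, k, hk, rfl⟩ := hs'
  exact ⟨u * k * u⁻¹, h.kAut_normal (hP.trans h.T_le) hk
    (autGroup_mono h.sub P (h.autT_le_G hP hu)), u, hu, by simp⟩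

theorem sylAut_index {P : Subgroup Ω} (hZP : Z ≤ P) (hP : G.IsFullyNormalized P) :
    ¬ p ∣ (sylAut F Z T P).relIndex (G.autGroup P) :=
  h.sylow hZP hP _ fun _ ha hm => h.mem_kAut (hP.1.trans h.T_le) ha hm

theorem fullyNormalized_G {P : Subgroup Ω} (hP : P ≤ T) (hn : F.IsFullyNormalized P) :
    G.IsFullyNormalized P := by
  refine ⟨hP, fun R hR => ?_⟩
  have hRT : R ≤ T := le_right_of_isConj hR
  obtain ⟨e, -, -, ψ, hψ, -, hψn⟩ := exists_hom_normalizerIn_of_fullyNormalized h.isPGroup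
    h.saturated hn (isConj_symm (isConj_of_isSubsystemOf h.sub hR))
  have hle : normalizerIn T R ≤ normalizerIn S R := fun x hx => ⟨h.T_le hx.1, hx.2⟩
  have := finite_of_le ((normalizerIn_le (S := T) P).trans h.T_le)
  let f : normalizerIn T R → normalizerIn T P := fun x =>
    ⟨ψ (Subgroup.inclusion hle x),
      h.stronglyClosed.2 _ inf_le_left _ (res_mem F hψ hle) x, (hψn _).2⟩
  exact Nat.card_le_card_of_injective f fun a b hab => Subgroup.inclusion_injective hle
    (F.injective_of_mem hψ (congrArg Subtype.val hab))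

/-- An element of `T` carried by an isomorphism to an automorphism induced by `S` is carried to
one induced by `T`. -/
theorem congr_normAut_mem {X P : Subgroup Ω} {e : X ≃* P} (he : IsIso F e) (hP : F.IsReceptive P)
    {t : Ω} (ht : t ∈ Subgroup.normalizer (X : Set Ω)) (htT : t ∈ T)
    (hS : MulAut.congr e (normAut t ht) ∈ autInducedBy S P) :
    MulAut.congr e (normAut t ht) ∈ autInducedBy T P := by
  have hext : t ∈ extender S X (P.subtype.comp e.toMonoidHom) :=
    mem_extender_iso_iff.2 ⟨h.T_le htT, ht, hS⟩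
  obtain ⟨ψ, hψ, hψe⟩ := exists_extension hP he (le_extender he) le_rfl
  have hψt : ψ ⟨t, hext⟩ ∈ T :=
    h.stronglyClosed.2 _ (inf_le_left : T ⊓ extender S X (P.subtype.comp e.toMonoidHom) ≤ T) _
      (res_mem F hψ inf_le_right) ⟨t, htT, hext⟩
  refine mem_autInducedBy_iff.2 ⟨_, hψt, fun y => ?_⟩
  obtain ⟨x, rfl⟩ := e.surjective y
  change ((e (normAut t ht (e.symm (e x))) : P) : Ω) = _
  rw [MulEquiv.symm_apply_apply, ← hψe, ← hψe, ← map_inv, ← map_mul, ← map_mul]
  exact congrArg ψ (Subtype.ext rfl)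

/-- An element of `T` inducing an automorphism trivial modulo `Z` on a member lies in it. -/
theorem mem_of_normAut_mem_kAut {P : Subgroup Ω} (hP : IsCent Z G P) {t : Ω} (htT : t ∈ T)
    (ht : t ∈ Subgroup.normalizer (P : Set Ω)) (hk : normAut t ht ∈ kAut F Z P) : t ∈ P :=
  hP.2.2 P (isConj_refl hP.1) t htT fun q hq => hk.2.1 ⟨q, hq⟩

theorem autT_inf_kAut {P : Subgroup Ω} (hP : IsCent Z G P) {u : MulAut P}
    (hu : u ∈ autInducedBy T P) (hk : u ∈ kAut F Z P) : u ∈ Cfsg.Inn P := by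
  obtain ⟨t, htT, hte⟩ := mem_autInducedBy_iff.1 hu
  have htn := mem_normalizer_of_aut hte
  obtain rfl : u = normAut t htn := MulEquiv.ext fun x => Subtype.ext (hte x)
  exact normAut_mem_inn _ (h.mem_of_normAut_mem_kAut hP htT _ hk)

/-- A `p`-element of the lifted automorphisms is induced by `T`, up to an isomorphism. -/
theorem exists_congr_normAut {M : Subgroup Ω} (hM : IsCent Z G M)
    (hsep : ∀ Y, IsCent Z G Y → Nat.card Y = Nat.card M → h.Sep Y) {c : MulAut M}
    (hc : c ∈ liftAut F G p M) {k : ℕ} (hk : c ^ p ^ k = 1) :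
    ∃ (X : Subgroup Ω) (e : X ≃* M), IsIso F e ∧ X ≤ T ∧ IsCent Z G X ∧
      ∃ (t : Ω) (ht : t ∈ Subgroup.normalizer (X : Set Ω)), t ∈ T ∧
        c = MulAut.congr e (normAut t ht) := by
  obtain ⟨M', hMM', hn⟩ := exists_fullyNormalized F (hM.1.trans h.T_le)
  obtain ⟨e₀, he₀⟩ := isConj_iff.1 hMM'
  obtain ⟨hM'T, hM'⟩ := h.isCent_of_iso hM he₀
  have := finite_of_le (hM.1.trans h.T_le)
  have := finite_of_le (hM'T.trans h.T_le)
  have hc' := h.congr_mem_liftAut he₀ hM.1 hM'T hc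
  have hpz : IsPGroup p (Subgroup.zpowers (MulAut.congr e₀ c)) := by
    obtain ⟨j, -, hj⟩ := (Nat.dvd_prime_pow Fact.out).1 (orderOf_dvd_of_pow_eq_one
      (show MulAut.congr e₀ c ^ p ^ k = 1 by rw [← map_pow, hk, map_one]))
    exact IsPGroup.of_card (n := j) (by rw [Nat.card_zpowers, hj])
  obtain ⟨b, hb, hbz⟩ := exists_conj_mem_of_le hpz (h.isPGroup_sylAut hM'T)
    (Subgroup.zpowers_le.2 (h.liftAut_le hM'T hc')) (h.sylAut_le_G hM'T)
    (h.sylAut_index hM'.2.1 (h.fullyNormalized_G hM'T hn))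
  obtain ⟨k', hk', u, hu, hku⟩ := h.sylAut_dec hM'T (hbz _ (Subgroup.mem_zpowers _))
  obtain ⟨t, htT, hte⟩ := mem_autInducedBy_iff.1 hu
  have htn := mem_normalizer_of_aut hte
  obtain rfl : u = normAut t htn := MulEquiv.ext fun x => Subtype.ext (hte x)
  have hbF := autGroup_mono h.sub M' hb
  have hk'l : k' ∈ liftAut F G p M' := by
    rw [show k' = b * MulAut.congr e₀ c * b⁻¹ * (normAut t htn)⁻¹ by rw [hku, mul_inv_cancel_right]]
    exact mul_mem (h.liftAut_normal hM'T hc' hbF) (inv_mem (h.normAut_mem_liftAut hM'T htn htT))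
  have hk'I := hsep M' hM' (card_eq_of_isConj hMM').symm k' hk'l hk'
  rw [inn_eq, mem_autInducedBy_iff] at hk'I
  obtain ⟨w, hw, hwe⟩ := hk'I
  have hwn : w ∈ Subgroup.normalizer (M' : Set Ω) := Subgroup.le_normalizer hw
  refine ⟨M', (e₀.trans b).symm, (he₀.trans ((mem_autGroup_iff F hn.1).1 hbF)).symm, hM'T, hM',
    w * t, mul_mem hwn htn, T.mul_mem (hM'T hw) htT, ?_⟩
  have h1 : normAut (w * t) (mul_mem hwn htn) = b * MulAut.congr e₀ c * b⁻¹ := by
    rw [hku, show k' = normAut w hwn from MulEquiv.ext fun x => Subtype.ext (hwe x)]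
    exact MulEquiv.ext fun x => Subtype.ext (by simp [mul_assoc])
  rw [h1, ← congr_eq_conj, congr_trans_apply e₀ b, congr_symm_congr]

omit [Finite S] [Fact p.Prime] in
theorem isIso_stab {M P : Subgroup Ω} (hM : M ≤ S) (γ : stabAut F M P) : IsIso F (γ : MulAut M) :=
  (mem_autGroup_iff F hM).1 γ.2.1

/-- Stabilizing automorphisms trivial modulo `Z` on the member form a `p`-group. -/
theorem pow_eq_one_of_res_kAut {M P : Subgroup Ω} (hP : IsCent Z G P) (hPM : P ≤ M) (hMT : M ≤ T)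
    (hMn : M ≤ Subgroup.normalizer (P : Set Ω)) {γ : stabAut F M P}
    (hγ : ((resStab hPM (hMT.trans h.T_le) γ : F.autGroup P) : MulAut P) ∈ kAut F Z P) :
    ∃ k : ℕ, γ ^ p ^ k = 1 := by
  have hPS := hP.1.trans h.T_le
  have hMS := hMT.trans h.T_le
  have := finite_of_le hMS
  have := finite_of_le hPS
  obtain ⟨n, hn, k, hk⟩ := exists_pPrime_part p γ
  suffices h1 : γ ^ n = 1 by exact ⟨k, by rwa [h1, inv_one, one_mul] at hk⟩
  set η := γ ^ n with hη
  have hres : ((resStab hPM hMS η : F.autGroup P) : MulAut P) = 1 := by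
    refine eq_one_of_coprime_of_pow_mem (h.isPGroup_kAut hPS) ?_ ?_
    · rw [hη, map_pow]
      exact pow_mem hγ n
    · rw [Subgroup.orderOf_coe]
      exact Nat.Coprime.coprime_dvd_left (orderOf_map_dvd _ _) hn
  have hfix : ∀ x : P, (η : MulAut M) (Subgroup.inclusion hPM x) = Subgroup.inclusion hPM x :=
    fun x => Subtype.ext ((resStab_apply hPM hMS η x).symm.trans (by rw [hres]; rfl))
  refine Subtype.ext (MulEquiv.ext fun m => ?_)
  change (η : MulAut M) m = m
  refine apply_eq_of_diff_fixed (h.isPGroup.to_le hMS) (by rwa [Subgroup.orderOf_coe]) ?_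
  have hd : ((m⁻¹ * (η : MulAut M) m : M) : Ω) ∈ P := by
    refine hP.2.2 P (isConj_refl hP.1) _ (hMT (m⁻¹ * (η : MulAut M) m).2) fun q hq => ?_
    have hxn : (m : Ω) * q * (m : Ω)⁻¹ ∈ P := conj_mem_of_mem_normalizer (hMn m.2) hq
    have h3 : (η : MulAut M) (m * ⟨q, hPM hq⟩ * m⁻¹) = m * ⟨q, hPM hq⟩ * m⁻¹ :=
      (congrArg _ (Subtype.ext rfl)).trans ((hfix ⟨_, hxn⟩).trans (Subtype.ext rfl))
    rw [map_mul, map_mul, map_inv,
      show (η : MulAut M) ⟨q, hPM hq⟩ = ⟨q, hPM hq⟩ from hfix ⟨q, hq⟩] at h3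
    have h4 : ((m⁻¹ * (η : MulAut M) m) * ⟨q, hPM hq⟩ * (m⁻¹ * (η : MulAut M) m)⁻¹ : M) =
        ⟨q, hPM hq⟩ := by
      calc _ = m⁻¹ * ((η : MulAut M) m * ⟨q, hPM hq⟩ * ((η : MulAut M) m)⁻¹) * m := by group
        _ = _ := by rw [h3]; group
    have h5 := congrArg Subtype.val h4
    simp only [Subgroup.coe_mul, Subgroup.coe_inv] at h5 ⊢
    rw [h5, inv_mul_cancel]
    exact Z.one_mem
  exact hfix ⟨_, hd⟩

/-- Centrality of `kAut` modulo inner automorphisms, for an element of order prime to `p`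
normalizing the Sylow subgroup. -/
theorem comm_of_normalizing {P : Subgroup Ω} (hP : IsCent Z G P) (hn : F.IsFullyNormalized P)
    (hlt : P < T) (hsep : ∀ Y, IsCent Z G Y → Nat.card P < Nat.card Y → h.Sep Y) {y : MulAut P}
    (hy : y ∈ G.autGroup P) (hyc : (orderOf y).Coprime p)
    (hyn : ∀ s ∈ sylAut F Z T P, y * s * y⁻¹ ∈ sylAut F Z T P) {k : MulAut P}
    (hk : k ∈ kAut F Z P) : y * k * y⁻¹ * k⁻¹ ∈ Cfsg.Inn P := by
  have hPT := hP.1
  have hPS := hPT.trans h.T_le
  have := finite_of_le h.T_le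
  have := finite_of_le hPS
  set M := normalizerIn T P with hM
  have hMT : M ≤ T := inf_le_left
  have hMS := hMT.trans h.T_le
  have hPM : P < M := lt_normalizerIn (h.isPGroup.to_le h.T_le) hlt
  have := finite_of_le hMS
  have hMn : M ≤ Subgroup.normalizer (P : Set Ω) := inf_le_right
  obtain ⟨ψ, hψ, hψe⟩ := h.recep y ((mem_autGroup_iff G hPT).1 hy) hP.2.1
    (h.fullyNormalized_G hPT hn) hPM.le le_rfl (fun m hm => by
      have h1 := hyn _ (Subgroup.mem_sup_left (T := kAut F Z P)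
        (mem_autInducedBy_iff.2 ⟨m, hMT hm, fun _ => rfl⟩ : normAut m (hMn hm) ∈ _))
      obtain ⟨k₁, hk₁, u, hu, hku⟩ := h.sylAut_dec hPT h1
      obtain ⟨n, hnT, hne⟩ := mem_autInducedBy_iff.1 hu
      refine ⟨n, hnT, fun x hx => ?_⟩
      have h2 := congrArg (fun a : MulAut P => a (y x)) hku
      simp only [MulAut.mul_apply, MulAut.inv_apply_self] at h2
      have h3 := hk₁.2.1 (u (y x))
      rw [← h2, hne] at h3
      exact h3)
  have hψP : ∀ x : P, ψ (Subgroup.inclusion hPM.le x) ∈ P := fun x => by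
    have := P.mul_mem (y x).2 (hP.2.1 (hψe x))
    rwa [mul_inv_cancel_left] at this
  obtain ⟨yψ, hyψ, hyψe⟩ := exists_aut_of_map (res_mem F (h.sub M hψ) hPM.le) hψP
  have hψM : ∀ g, ψ g ∈ M := fun g =>
    apply_mem_normalizerIn (e := yψ) hψ hPM.le (fun x => (hyψe x).symm) hMn g
  obtain ⟨α, hα, hαe⟩ := exists_aut_of_map hψ hψM
  have hstab : α ∈ stabAut F M P := by
    refine ⟨autGroup_mono h.sub M hα, fun x => ⟨fun hx => ?_, fun hx => ?_⟩⟩
    · rw [hαe]; exact hψP ⟨x, hx⟩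
    · obtain ⟨x', hx'⟩ := yψ.surjective ⟨_, hx⟩
      have h1 : α (Subgroup.inclusion hPM.le x') = α x := Subtype.ext (by
        rw [hαe]; exact (hyψe x').symm.trans (congrArg Subtype.val hx'))
      rw [← α.injective h1]
      exact x'.2
  let αs : stabAut F M P := ⟨α, hstab⟩
  let res : stabAut F M P →* MulAut P :=
    (F.autGroup P).subtype.comp (resStab hPM.le hMS)
  have hyF := autGroup_mono h.sub P hy
  set k₀ := y⁻¹ * res αs with hk₀
  have hk₀K : k₀ ∈ kAut F Z P := by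
    refine h.mem_kAut hPS (mul_mem (inv_mem hyF) (resStab hPM.le hMS αs).2) fun x => ?_
    have h1 : ((y x : P) : Ω)⁻¹ * ((res αs x : P) : Ω) ∈ Z := by
      change ((y x : P) : Ω)⁻¹ * ((α (Subgroup.inclusion hPM.le x) : M) : Ω) ∈ Z
      rw [hαe]; exact hψe x
    have h2 := h.iso_mem_Z ((mem_autGroup_iff F hPS).1 (inv_mem hyF)) (x := (y x)⁻¹ * res αs x) h1
    rw [map_mul, map_inv, MulAut.inv_apply_self] at h2
    exact h2
  -- a power of order prime to `p` restricting to `y`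
  obtain ⟨e, he⟩ : ∃ e, e = (orderOf α).factorization p := ⟨_, rfl⟩
  obtain ⟨j, hj⟩ := exists_pow_eq_self_of_coprime (x := y) (n := p ^ e) (hyc.pow_right e).symm
  rw [← pow_mul] at hj
  set q := p ^ e * j with hq
  have hγc : (orderOf (α ^ q)).Coprime p := by
    rw [hq, pow_mul]
    refine Nat.Coprime.coprime_dvd_left (orderOf_pow_dvd _) ?_
    rw [he, orderOf_pow_of_dvd (pow_ne_zero _ (Fact.out : p.Prime).ne_zero) (Nat.ordProj_dvd _ _)]
    exact (Nat.coprime_ordCompl Fact.out (orderOf_pos α).ne').symm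
  have hγl : α ^ q ∈ liftAut F G p M :=
    Subgroup.subset_closure (Or.inl ⟨pow_mem hα q, hγc⟩)
  have hpow : ∀ i : ℕ, ∃ k₁ ∈ kAut F Z P, res (αs ^ i) = y ^ i * k₁ := by
    intro i
    induction i with
    | zero => exact ⟨1, one_mem _, by simp⟩
    | succ i ih =>
      obtain ⟨k₁, hk₁, hke⟩ := ih
      refine ⟨y⁻¹ * k₁ * y * k₀, mul_mem ?_ hk₀K, ?_⟩
      · simpa using h.kAut_normal hPS hk₁ (inv_mem hyF)
      · rw [pow_succ αs, map_mul, hke, show res αs = y * k₀ by rw [hk₀, mul_inv_cancel_left],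
          pow_succ]
        group
  obtain ⟨k₁, hk₁, hke⟩ := hpow q
  rw [hj] at hke
  -- `k` is induced by an element normalizing `M`
  have hkS : k ∈ autInducedBy S P := by
    refine le_autInducedBy_of_normal_pgroup (K := kAut F Z P)
      (fullyAutomized_receptive_of_fullyNormalized h.isPGroup h.saturated hn).1
      (fun a ha => ha.1) ⟨fun a ha b => ?_⟩ (h.isPGroup_kAut hPS) hk
    exact Subgroup.mem_subgroupOf.2 (h.kAut_normal hPS (Subgroup.mem_subgroupOf.1 ha) b.2)
  obtain ⟨r, hr, hre⟩ := mem_autInducedBy_iff.1 hkS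
  have hrP := mem_normalizer_of_aut hre
  have hrT := le_normalizer_of_stronglyClosed h.stronglyClosed hr
  have hrM : r ∈ Subgroup.normalizer (M : Set Ω) := mem_normalizer_of_forall fun m hm =>
    ⟨conj_mem_of_mem_normalizer hrT hm.1, Subgroup.mul_mem _ (Subgroup.mul_mem _ hrP hm.2) (Subgroup.inv_mem _ hrP)⟩
  have hρF : normAut r hrM ∈ F.autGroup M :=
    autInducedBy_le_autGroup hMS (mem_autInducedBy_iff.2 ⟨r, hr, fun _ => rfl⟩)
  let ρ : stabAut F M P := ⟨normAut r hrM, hρF, fun x => Subgroup.mem_normalizer_iff.1 hrP _⟩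
  have hρres : res ρ = k := MulEquiv.ext fun x => Subtype.ext (hre x).symm
  set c := αs ^ q * ρ * (αs ^ q)⁻¹ * ρ⁻¹ with hc
  have hcl : (c : MulAut M) ∈ liftAut F G p M := by
    simp only [hc, Subgroup.coe_mul, Subgroup.coe_inv, SubmonoidClass.coe_pow, mul_assoc]
    refine mul_mem hγl ?_
    rw [← mul_assoc]
    exact h.liftAut_normal hMT (inv_mem hγl) hρF
  have hresc : res c = y * k * y⁻¹ * k⁻¹ := by
    rw [hc, map_mul, map_mul, map_mul, map_inv, map_inv, hρres, hke, mul_inv_rev]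
    have h1 : k₁ * k * k₁⁻¹ = k := by rw [h.kAut_comm hPS hk₁ hk, mul_inv_cancel_right]
    calc y * k₁ * k * (k₁⁻¹ * y⁻¹) * k⁻¹ = y * (k₁ * k * k₁⁻¹) * y⁻¹ * k⁻¹ := by group
      _ = _ := by rw [h1]
  obtain ⟨l, hl⟩ := h.pow_eq_one_of_res_kAut hP hPM.le hMT hMn (γ := c) (by
    change res c ∈ _
    rw [hresc]
    exact mul_mem (h.kAut_normal hPS hk hyF) (inv_mem hk))
  have hMc : IsCent Z G M := h.isCent_mono hP hPM.le hMT
  have hlt' : Nat.card P < Nat.card M := lt_of_not_ge fun hge =>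
    hPM.ne (Subgroup.eq_of_le_of_card_ge hPM.le hge)
  obtain ⟨X, e, he, hXT, hX, t, ht, htT, hce⟩ := h.exists_congr_normAut hMc
    (fun Y hY hcard => hsep Y hY (hcard ▸ hlt')) hcl (k := l) (congrArg Subtype.val hl :)
  -- the preimage of `P` contains `t`
  set P₁ := img (X.subtype.comp e.symm.toMonoidHom) P with hP₁
  obtain ⟨g, hg, hge⟩ := he.symm.exists_res hPM.le
  obtain ⟨hP₁T, hP₁c⟩ := h.isCent_of_iso hP hg
  have hX' : X ≤ S := hXT.trans h.T_le
  have htP : t ∈ P₁ := by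
    refine hP₁c.2.2 P₁ (isConj_refl hP₁T) t htT ?_
    intro q hq
    obtain ⟨x, hx, hxq⟩ := mem_img.1 hq
    have hmem : ((x⁻¹ * (c : MulAut M) x : M) : Ω) ∈ Z := by
      have h1 : (res c : MulAut P) ∈ kAut F Z P := by
        rw [hresc]; exact mul_mem (h.kAut_normal hPS hk hyF) (inv_mem hk)
      exact h1.2.1 ⟨x, hx⟩
    rw [hce] at hmem
    have h2 := h.iso_mem_Z he.symm hmem
    rw [map_mul, map_inv] at h2
    simp only [Subgroup.coe_mul, Subgroup.coe_inv] at h2
    change ((e.symm x : X) : Ω)⁻¹ *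
      (e.symm (e (normAut t ht (e.symm x))) : X) ∈ Z at h2
    rw [MulEquiv.symm_apply_apply, normAut_apply] at h2
    rw [← hxq]
    exact h2
  obtain ⟨x, hx, hxt⟩ := mem_img.1 htP
  have htX : t ∈ X := hxt ▸ (e.symm x).2
  rw [congr_normAut e ht htX] at hce
  have hxe : ((e ⟨t, htX⟩ : M) : Ω) = x := by
    rw [show (⟨t, htX⟩ : X) = e.symm x from Subtype.ext hxt.symm, MulEquiv.apply_symm_apply]
  rw [← hresc, inn_eq]
  refine mem_autInducedBy_iff.2 ⟨(x : Ω), hx, fun z => ?_⟩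
  change (((c : MulAut M) (Subgroup.inclusion hPM.le z) : M) : Ω) = _
  rw [hce, normAut_apply, hxe]
  rfl

/-- Centrality modulo inner automorphisms. -/
theorem commInn_of_fullyNormalized {P : Subgroup Ω} (hP : IsCent Z G P)
    (hn : F.IsFullyNormalized P)
    (hsep : ∀ Y, IsCent Z G Y → Nat.card P < Nat.card Y → h.Sep Y) : h.CommInn P := by
  have hPT := hP.1
  have hPS := hPT.trans h.T_le
  have := finite_of_le hPS
  intro a ha k hk
  let B := G.autGroup P
  let C : Subgroup B :=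
    { carrier := {b | ∀ k ∈ kAut F Z P, (b : MulAut P) * k * (b : MulAut P)⁻¹ * k⁻¹ ∈ Cfsg.Inn P}
      one_mem' := fun k _ => by simp
      mul_mem' := by
        intro u v hu hv k hk
        have h1 := mul_mem (inn_conj_mem (u : MulAut P) (hv k hk)) (hu k hk)
        convert h1 using 1
        simp only [Subgroup.coe_mul]
        group
      inv_mem' := by
        intro u hu k hk
        have h1 := inn_conj_mem (u : MulAut P)⁻¹ (inv_mem (hu k hk))
        convert h1 using 1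
        simp only [Subgroup.coe_inv]
        group }
  have hC : C.Normal := ⟨fun b hb g k hk => by
    have hgF := autGroup_mono h.sub P g.2
    have h1 := inn_conj_mem (g : MulAut P) (hb ((g : MulAut P)⁻¹ * k * (g : MulAut P)) (by
      simpa using h.kAut_normal hPS hk (inv_mem hgF)))
    convert h1 using 1
    simp only [Subgroup.coe_mul, Subgroup.coe_inv]
    group⟩
  have hkS : kAut F Z P ≤ autInducedBy S P := le_autInducedBy_of_normal_pgroup
      (fullyAutomized_receptive_of_fullyNormalized h.isPGroup h.saturated hn).1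
      (fun a ha => ha.1)
      ⟨fun a ha b => Subgroup.mem_subgroupOf.2
        (h.kAut_normal hPS (Subgroup.mem_subgroupOf.1 ha) b.2)⟩ (h.isPGroup_kAut hPS)
  have hSyC : (sylAut F Z T P).subgroupOf B ≤ C := by
    intro b hb
    obtain ⟨k₁, hk₁, u, hu, hbe⟩ := h.sylAut_dec hPT (Subgroup.mem_subgroupOf.1 hb)
    intro k hk
    have h1 : u * k * u⁻¹ * k⁻¹ ∈ Cfsg.Inn P := by
      obtain ⟨r, hr, hre⟩ := mem_autInducedBy_iff.1 (hkS hk)
      obtain ⟨t, htT, hte⟩ := mem_autInducedBy_iff.1 hu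
      refine h.autT_inf_kAut hP ?_ (mul_mem (h.kAut_normal hPS hk
        (autGroup_mono h.sub P (h.autT_le_G hPT hu))) (inv_mem hk))
      refine mem_autInducedBy_iff.2 ⟨t * (r * t⁻¹ * r⁻¹), T.mul_mem htT
        (conj_mem_of_mem_normalizer (le_normalizer_of_stronglyClosed h.stronglyClosed hr)
          (T.inv_mem htT)), fun x => ?_⟩
      have hui : ∀ z : P, ((u⁻¹ z : P) : Ω) = t⁻¹ * (z : Ω) * t := fun z => by
        have h2 := hte (u⁻¹ z)
        rw [MulAut.apply_inv_self] at h2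
        rw [h2]; group
      have hki : ∀ z : P, ((k⁻¹ z : P) : Ω) = r⁻¹ * (z : Ω) * r := fun z => by
        have h2 := hre (k⁻¹ z)
        rw [MulAut.apply_inv_self] at h2
        rw [h2]; group
      simp only [MulAut.mul_apply, hte, hre, hui, hki]
      group
    have h2 := inn_conj_mem k₁ h1
    convert h2 using 1
    rw [hbe]
    have h3 : k₁ * k = k * k₁ := h.kAut_comm hPS hk₁ hk
    calc k₁ * u * k * (k₁ * u)⁻¹ * k⁻¹ = k₁ * (u * k * u⁻¹ * k⁻¹) * (k * k₁⁻¹ * k⁻¹) := by group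
      _ = _ := by rw [show k * k₁⁻¹ * k⁻¹ = k₁⁻¹ by
            rw [mul_inv_eq_iff_eq_mul, eq_inv_mul_iff_mul_eq, ← mul_assoc, h3,
              mul_inv_cancel_right]]
  let Q := ((h.isPGroup_sylAut hPT).comap_subtype (K := B)).toSylow
    (h.sylAut_index hP.2.1 (h.fullyNormalized_G hPT hn))
  have hQ : (Q : Subgroup B) = (sylAut F Z T P).subgroupOf B := IsPGroup.toSylow_coe _ _
  suffices htop : C = ⊤ from (htop ▸ Subgroup.mem_top (⟨a, ha⟩ : B) : (⟨a, ha⟩ : B) ∈ C) k hk
  rw [eq_top_iff, ← Sylow.normalizer_sup_eq_top' Q (hQ.le.trans hSyC)]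
  refine sup_le (fun y hy => ?_) le_rfl
  obtain ⟨n, hnc, l, hl⟩ := exists_pPrime_part p y
  have h2 : (y ^ n)⁻¹ * y ∈ C := by
    refine hSyC (hQ.le ?_)
    have hyn : (y ^ n)⁻¹ * y ∈ Subgroup.normalizer ((Q : Subgroup B) : Set B) :=
      mul_mem (inv_mem (pow_mem hy n)) hy
    have hz : IsPGroup p (Subgroup.zpowers ((y ^ n)⁻¹ * y)) := by
      obtain ⟨i, -, hi⟩ := (Nat.dvd_prime_pow Fact.out).1 (orderOf_dvd_of_pow_eq_one hl)
      exact IsPGroup.of_card (n := i) (by rw [Nat.card_zpowers, hi])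
    have hsup := IsPGroup.to_sup_of_normal_right' hz Q.2 (Subgroup.zpowers_le.2 hyn)
    rw [← Q.3 hsup le_sup_right]
    exact Subgroup.mem_sup_left (Subgroup.mem_zpowers _)
  rw [show y = y ^ n * ((y ^ n)⁻¹ * y) by rw [mul_inv_cancel_left]]
  refine mul_mem ?_ h2
  have hyn : y ^ n ∈ Subgroup.normalizer ((Q : Subgroup B) : Set B) := pow_mem hy n
  have hys : ∀ s ∈ sylAut F Z T P,
      ((y ^ n : B) : MulAut P) * s * ((y ^ n : B) : MulAut P)⁻¹ ∈ sylAut F Z T P := by
    intro s hs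
    exact hQ.le ((Subgroup.mem_normalizer_iff.1 hyn ⟨s, h.sylAut_le_G hPT hs⟩).1
      (hQ.ge (Subgroup.mem_subgroupOf.2 hs)))
  have hyc : (orderOf ((y ^ n : B) : MulAut P)).Coprime p := by rwa [Subgroup.orderOf_coe]
  intro k hk
  rcases eq_or_lt_of_le hPT with rfl | hlt
  · obtain ⟨r, hr, hre⟩ := mem_autInducedBy_iff.1 (hkS hk)
    have hrn := le_normalizer_of_stronglyClosed h.stronglyClosed hr
    have hkr : k = normAut r hrn := MulEquiv.ext fun x => Subtype.ext (hre x)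
    obtain ⟨r', hr', -, hrr, he⟩ := h.top _ (y ^ n).2 hyc r hrn hr fun t => by
      rw [← hre t]; exact hk.2.1 t
    rw [hkr, he, inn_eq]
    refine mem_autInducedBy_iff.2 ⟨r' * r⁻¹, ?_, fun x => ?_⟩
    · have := conj_mem_of_mem_normalizer hrn hrr
      rwa [mul_inv_cancel_left] at this
    · have hi : ((normAut r hrn)⁻¹ x : P) = normAut r⁻¹ (inv_mem hrn) x :=
        (normAut r hrn).injective (by
          rw [MulAut.apply_inv_self]; exact Subtype.ext (by simp [mul_assoc]))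
      rw [MulAut.mul_apply, hi]
      simp [mul_assoc]
  · exact h.comm_of_normalizing hP hn hlt hsep (y ^ n).2 hyc hys hk

/-- `Sep` from centrality. -/
theorem sep_of_commInn {P : Subgroup Ω} (hP : IsCent Z G P) (hn : F.IsFullyNormalized P)
    (hc : h.CommInn P) : h.Sep P := by
  have hPT := hP.1
  have hPS := hPT.trans h.T_le
  have := finite_of_le hPS
  obtain ⟨hfa, hrec⟩ := fullyAutomized_receptive_of_fullyNormalized h.isPGroup h.saturated hn
  intro a hal hak
  let B := G.autGroup P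
  have hkS : kAut F Z P ≤ autInducedBy S P := le_autInducedBy_of_normal_pgroup hfa
      (fun a ha => ha.1)
      ⟨fun a ha b => Subgroup.mem_subgroupOf.2
        (h.kAut_normal hPS (Subgroup.mem_subgroupOf.1 ha) b.2)⟩ (h.isPGroup_kAut hPS)
  have hSyS : sylAut F Z T P ≤ autInducedBy S P := sup_le (autInducedBy_mono h.T_le) hkS
  have hidx : ¬ p ∣ ((sylAut F Z T P).subgroupOf B).index :=
    h.sylAut_index hP.2.1 (h.fullyNormalized_G hPT hn)
  -- conjugates of `Aut_T(P)` in the Sylow subgroup are induced by `T`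
  have hUU : ∀ b ∈ F.autGroup P, ∀ u ∈ autInducedBy T P, b * u * b⁻¹ ∈ autInducedBy S P →
      b * u * b⁻¹ ∈ autInducedBy T P := by
    intro b hb u hu hS'
    obtain ⟨t, htT, hte⟩ := mem_autInducedBy_iff.1 hu
    have htn := mem_normalizer_of_aut hte
    obtain rfl : u = normAut t htn := MulEquiv.ext fun x => Subtype.ext (hte x)
    rw [← congr_eq_conj] at hS' ⊢
    exact h.congr_normAut_mem ((mem_autGroup_iff F hPS).1 hb) hrec _ htT hS'
  have hkey := closure_inf_le (p := p) (K := (kAut F Z P).subgroupOf B)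
    (U := (autInducedBy T P).subgroupOf B) ((h.isPGroup_sylAut hPT).comap_subtype) hidx
    (fun x hx => Subgroup.mem_sup_right (Subgroup.mem_subgroupOf.1 hx))
    (fun x hx => Subgroup.mem_sup_left (Subgroup.mem_subgroupOf.1 hx))
    (fun s hs => by
      obtain ⟨k, hk, u, hu, hse⟩ := h.sylAut_dec hPT (Subgroup.mem_subgroupOf.1 hs)
      exact ⟨⟨k, h.kAut_le_G hPT hk⟩, hk, ⟨u, h.autT_le_G hPT hu⟩, hu, Subtype.ext hse⟩)
    (fun s hs u hu => by
      obtain ⟨r, hr, hre⟩ := mem_autInducedBy_iff.1 (hSyS (Subgroup.mem_subgroupOf.1 hs))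
      obtain ⟨t, htT, hte⟩ := mem_autInducedBy_iff.1 (Subgroup.mem_subgroupOf.1 hu)
      refine Subgroup.mem_subgroupOf.2 (mem_autInducedBy_iff.2 ⟨r * t * r⁻¹,
        conj_mem_of_mem_normalizer (le_normalizer_of_stronglyClosed h.stronglyClosed hr) htT,
        fun x => ?_⟩)
      have hsi : (((s : MulAut P)⁻¹ x : P) : Ω) = r⁻¹ * (x : Ω) * r := by
        have h2 := hre ((s : MulAut P)⁻¹ x)
        rw [MulAut.apply_inv_self] at h2
        rw [h2]; group
      simp only [Subgroup.coe_mul, Subgroup.coe_inv, MulAut.mul_apply, hre, hte, hsi]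
      group)
    (fun u hu v hv => Subtype.ext (h.kAut_comm hPS (Subgroup.mem_subgroupOf.1 hu)
      (Subgroup.mem_subgroupOf.1 hv)))
    (fun g k hk => Subgroup.mem_subgroupOf.2
      (h.kAut_normal hPS (Subgroup.mem_subgroupOf.1 hk) (autGroup_mono h.sub P g.2)))
    (fun g k hk => Subgroup.mem_subgroupOf.2 (((inn_eq P).le.trans
      (autInducedBy_mono hPT)) (hc g g.2 k (Subgroup.mem_subgroupOf.1 hk))))
    (fun g u hu hg => Subgroup.mem_subgroupOf.2 (hUU g (autGroup_mono h.sub P g.2) u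
      (Subgroup.mem_subgroupOf.1 hu) (hSyS (Subgroup.mem_subgroupOf.1 hg))))
    (k := ⟨a, h.liftAut_le hPT hal⟩) hak ?_
  · exact h.autT_inf_kAut hP (Subgroup.mem_subgroupOf.1 hkey) hak
  -- membership in the closure
  suffices hmem : liftAut F G p P ≤ (Subgroup.closure ({x : B | (orderOf x).Coprime p} ∪
      {x : B | ∃ g : B, ∃ u ∈ (autInducedBy T P).subgroupOf B, x = g * u * g⁻¹})).map B.subtype by
    obtain ⟨b, hb, hbe⟩ := hmem hal
    rwa [show (⟨a, h.liftAut_le hPT hal⟩ : B) = b from Subtype.ext hbe.symm]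
  refine (Subgroup.closure_le _).2 ?_
  rintro x (⟨hx, hco⟩ | ⟨X, e, he, hXT, t, ht, htT, rfl⟩)
  · exact ⟨⟨x, hx⟩, Subgroup.subset_closure (Or.inl (by
      change (orderOf (⟨x, hx⟩ : B)).Coprime p
      rwa [Subgroup.orderOf_mk])), rfl⟩
  · have htn : normAut t ht ∈ autInducedBy T X := mem_autInducedBy_iff.2 ⟨t, htT, fun _ => rfl⟩
    have hxB : MulAut.congr e (normAut t ht) ∈ B :=
      h.congr_mem_G he hXT hPT (autInducedBy_le_autGroup hXT htn)
    have := finite_of_le (hXT.trans h.T_le)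
    obtain ⟨b, hb, hbz⟩ := exists_conj_mem_of_le (p := p)
      (U := (autInducedBy T X).map (MulAut.congr e).toMonoidHom)
      ((isPGroup_autInducedBy (h.isPGroup.to_le h.T_le) X).map _) (h.isPGroup_sylAut hPT)
      (by rintro _ ⟨v, hv, rfl⟩
          exact h.congr_mem_G he hXT hPT (autInducedBy_le_autGroup hXT hv))
      (h.sylAut_le_G hPT) (h.sylAut_index hP.2.1 (h.fullyNormalized_G hPT hn))
    have h1 := hbz _ ⟨_, htn, rfl⟩
    have hbF := autGroup_mono h.sub P hb
    have h2 : b * MulAut.congr e (normAut t ht) * b⁻¹ ∈ autInducedBy T P := by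
      rw [← congr_eq_conj, congr_trans_apply]
      refine h.congr_normAut_mem (he.trans ((mem_autGroup_iff F hPS).1 hbF)) hrec ht htT ?_
      rw [← congr_trans_apply, congr_eq_conj]
      exact hSyS h1
    refine ⟨⟨_, hxB⟩, Subgroup.subset_closure (Or.inr ⟨(⟨b, hb⟩ : B)⁻¹,
      ⟨b, hb⟩ * ⟨_, hxB⟩ * (⟨b, hb⟩ : B)⁻¹, Subgroup.mem_subgroupOf.2 h2, ?_⟩), rfl⟩
    group

/-- Both properties hold at every member. -/
theorem commInn_sep {P : Subgroup Ω} (hP : IsCent Z G P) : h.CommInn P ∧ h.Sep P := by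
  have hT := finite_of_le h.T_le
  suffices H : ∀ (n : ℕ) (P : Subgroup Ω), IsCent Z G P → Nat.card T - Nat.card P ≤ n →
      h.CommInn P ∧ h.Sep P from H _ P hP le_rfl
  clear hP P
  intro n
  induction n using Nat.strong_induction_on with
  | _ n ih =>
  intro P hP hnP
  obtain ⟨P', hPP', hn⟩ := exists_fullyNormalized F (hP.1.trans h.T_le)
  obtain ⟨e, he⟩ := isConj_iff.1 hPP'
  obtain ⟨hP'T, hP'⟩ := h.isCent_of_iso hP he
  have hcard := card_eq_of_isConj hPP'
  have hsep : ∀ Y, IsCent Z G Y → Nat.card P' < Nat.card Y → h.Sep Y := fun Y hY hlt => by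
    have hYT : Nat.card Y ≤ Nat.card T := Subgroup.card_le_of_le hY.1
    exact (ih (Nat.card T - Nat.card Y) (by omega) Y hY le_rfl).2
  have hc := h.commInn_of_fullyNormalized hP' hn hsep
  have hs := h.sep_of_commInn hP' hn hc
  refine ⟨fun a ha k hk => ?_, fun a ha hk => ?_⟩
  · have h1 := congr_mem_inn e.symm (hc _ (h.congr_mem_G he hP.1 hP'T ha) _ (h.congr_mem_kAut he hk))
    rw [← map_mul, ← map_inv, ← map_mul, ← map_inv, ← map_mul, congr_symm_congr] at h1
    exact h1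
  · have h1 := congr_mem_inn e.symm
      (hs _ (h.congr_mem_liftAut he hP.1 hP'T ha) (h.congr_mem_kAut he hk))
    rwa [congr_symm_congr] at h1

theorem sep {P : Subgroup Ω} (hP : IsCent Z G P) : h.Sep P := (h.commInn_sep hP).2

end CentralSub

end CfsgLib.Fusion.CentralLift
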