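import Cfsg.Agent.Lib.Fusion.CentralLift.Generated

/-!
# The automorphism groups of the lifted system

Every automorphism of a member in the lifted system is a lifted automorphism: along a loop in the
class of a fully normalized member each link extends to the normalizers.
-/

set_option autoImplicit false

open Cfsg Cfsg.FusionSystem

namespace CfsgLib.Fusion.CentralLift

variable {Ω : Type*} [Group Ω] {S T Z : Subgroup Ω} [Finite S] {F : FusionSystem S}
  {G : FusionSystem T} {p : ℕ} [Fact p.Prime]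

namespace CentralSub

variable (h : CentralSub F Z G p)
include h

/-- Every member of the class reaches a fully normalized one. -/
theorem exists_reach {P X : Subgroup Ω} (hP : IsCent Z G P)
    (hPn : (liftSys F Z G p).IsFullyNormalized P) (hX : (liftSys F Z G p).IsConj P X) :
    ∃ e : X ≃* P, Reach (liftSys F Z G p) e := by
  have := finite_of_le h.T_le
  obtain ⟨e₀, he₀⟩ := isConj_iff.1 (isConj_symm hX)
  have heG : IsIso G e₀ := liftSys_le X he₀
  have hZX : Z ≤ X := h.Z_le_of_iso (h.isIso_of_G heG).symm hP.2.1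
  obtain ⟨a, ha, ψ, hψ, hψe⟩ :=
    h.exists_adjust heG hZX (h.fullyNormalized_G_of_liftSys hP.2.1 hPn)
  have hXN : X ≤ normalizerIn T X := le_normalizerIn heG.le_left
  obtain ⟨d, hd, hde⟩ := h.exists_modEq (hZX.trans hXN) hψ
  have hmod : ∀ x : X, (a (e₀ x) : Ω)⁻¹ * d (Subgroup.inclusion hXN x) ∈ Z := fun x =>
    mod_trans (hψe x (hXN x.2)) (hde (Subgroup.inclusion hXN x))
  have haG := heG.trans ((mem_autGroup_iff G hP.1).1 ha)
  obtain ⟨e, he, hee⟩ := exists_iso_of_range (res_mem _ hd hXN) (Q := P) (by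
    rw [← h.range_eq_of_mod (h.isIso_of_G haG) (res_mem F (h.sub _ (liftSys_le _ hd)) hXN) hZX
      hmod, range_subtype_comp])
  exact ⟨e, he, d, hd, fun x hx => (hee x).symm⟩

/-- Compatibility of the reaching maps along a link, from that of the loops at `P`. -/
theorem compat_of_loop {P X X' M M' : Subgroup Ω} {ψ : M ≃* M'}
    (hlink : IsLink (liftSys F Z G p) X X' ψ)
    (hL : ∀ (N N' : Subgroup Ω) (χ : N ≃* N'), IsLink (liftSys F Z G p) P P χ →
      Nat.card N = Nat.card M → ∀ b : MulAut P,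
      (∀ x : P, ∀ hx : (x : Ω) ∈ N, (b x : Ω) = χ ⟨x, hx⟩) → b ∈ liftAut F G p P)
    {eX : X ≃* X'} (heX : ∀ x : X, ∀ hx : (x : Ω) ∈ M, (eX x : Ω) = ψ ⟨x, hx⟩)
    {e : X ≃* P} {e' : X' ≃* P} (he : Reach (liftSys F Z G p) e)
    (he' : Reach (liftSys F Z G p) e') :
    (e.symm.trans (eX.trans e') : MulAut P) ∈ liftAut F G p P := by
  obtain ⟨-, φ, hφ, hφe⟩ := he
  obtain ⟨-, φ', hφ', hφe'⟩ := he'
  obtain ⟨hψ, hXM, hXM', hM, hM', hiff⟩ := id hlink
  have := finite_of_le h.T_le
  obtain ⟨ψa, hψa, hψae⟩ :=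
    exists_link_of_map X P (res_mem _ hφ hM) hXM hM (e := e) (fun x => hφe x (hM (hXM.le x.2)))
  obtain ⟨ψb, hψb, hψbe⟩ := exists_link_of_map X' P (res_mem _ hφ' hM') hXM' hM' (e := e')
    (fun x => hφe' x (hM' (hXM'.le x.2)))
  have hlink' : IsLink (liftSys F Z G p) P P (ψa.symm.trans (ψ.trans ψb)) :=
    ⟨hψa.1.symm.trans (hψ.trans hψb.1), hψa.2.2.1, hψb.2.2.1, hψa.2.2.2.2.1, hψb.2.2.2.2.1,
      fun x => by
        have h1 := hψa.2.2.2.2.2 (ψa.symm x)
        rw [MulEquiv.apply_symm_apply] at h1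
        exact h1.symm.trans ((hiff _).trans (hψb.2.2.2.2.2 _))⟩
  refine hL _ _ _ hlink' (Nat.card_congr ψa.toEquiv).symm _ fun y hy => ?_
  set x := e.symm y
  have h1 : ψa.symm ⟨(y : Ω), hy⟩ = ⟨(x : Ω), hXM.le x.2⟩ := by
    rw [MulEquiv.symm_apply_eq]
    refine Subtype.ext ?_
    rw [hψae]
    refine Eq.trans ?_ (hφe x (hM (hXM.le x.2))).symm
    exact congrArg Subtype.val (e.apply_symm_apply y).symm
  change ((e' (eX x) : P) : Ω) = (ψb (ψ (ψa.symm ⟨(y : Ω), hy⟩)) : Ω)
  rw [h1, hψbe]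
  refine (hφe' (eX x) (hM' (hXM'.le (eX x).2))).symm.trans ?_
  exact congrArg φ' (Subtype.ext (heX x (hXM.le x.2)))

/-- Loops at a fully normalized member lie among the lifted automorphisms. -/
theorem loop_mem {P : Subgroup Ω} (hP : IsCent Z G P)
    (hPn : (liftSys F Z G p).IsFullyNormalized P)
    (hbig : ∀ Y, IsCent Z G Y → Nat.card P < Nat.card Y →
      (liftSys F Z G p).autGroup Y ≤ liftAut F G p Y)
    {M M' : Subgroup Ω} {ψ : M ≃* M'} (hlink : IsLink (liftSys F Z G p) P P ψ)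
    {b : MulAut P} (hb : ∀ x : P, ∀ hx : (x : Ω) ∈ M, (b x : Ω) = ψ ⟨x, hx⟩) :
    b ∈ liftAut F G p P := by
  set D := liftSys F Z G p with hD
  have := finite_of_le h.T_le
  have hT := h.isPGroup.to_le h.T_le
  suffices H : ∀ (n : ℕ) (M M' : Subgroup Ω) (ψ : M ≃* M'), IsLink D P P ψ →
      Nat.card T - Nat.card M ≤ n → ∀ b : MulAut P,
      (∀ x : P, ∀ hx : (x : Ω) ∈ M, (b x : Ω) = ψ ⟨x, hx⟩) → b ∈ liftAut F G p P from
    H _ M M' ψ hlink le_rfl b hb
  clear hlink hb ψ M M' b
  intro n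
  induction n using Nat.strong_induction_on with
  | _ n ih =>
  intro M M' ψ hlink hn b hb
  obtain ⟨hψ, hPM, hPM', hM, hM', hiff⟩ := id hlink
  have hMT : M ≤ T := hψ.le_left
  have hM'T : M' ≤ T := hψ.le_right
  have := finite_of_le (hMT.trans h.T_le)
  have := finite_of_le (hM'T.trans h.T_le)
  have hgrow : ∀ {A B : Subgroup Ω}, A < B → B ≤ T → Nat.card A < Nat.card B := by
    intro A B hAB hB
    have := finite_of_le (hB.trans h.T_le)
    exact lt_of_not_ge fun hge => hAB.ne (Subgroup.eq_of_le_of_card_ge hAB.le hge)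
  have hMc : IsCent Z G M := h.isCent_mono hP hPM.le hMT
  have hcard : Nat.card P < Nat.card M := hgrow hPM hMT
  have := finite_of_le ((normalizerIn_le (S := T) P).trans h.T_le)
  rcases eq_or_lt_of_le hM with hMeq | hMlt
  · have hM'eq : M' = M := by
      subst hMeq
      exact Subgroup.eq_of_le_of_card_ge hM' (Nat.card_congr ψ.toEquiv).le
    subst hM'eq
    exact h.res_mem_liftAut hMc hP hPM.le
      (hbig M' hMc hcard ((mem_autGroup_iff D hMT).2 hψ)) hiff fun x => hb x (hPM.le x.2)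
  have hM'lt : M' < normalizerIn T P := by
    refine lt_of_le_of_ne hM' fun heq => ?_
    refine hMlt.ne (Subgroup.eq_of_le_of_card_ge hM ?_)
    rw [Nat.card_congr ψ.toEquiv, heq]
  have hsat : HasSatMember D p M := by
    obtain ⟨Q, hQ, hQn⟩ := exists_fullyNormalized D hMT
    have hQc := h.isCent_of_conj hMc (isConj_of_isSubsystemOf liftSys_le hQ)
    obtain ⟨h1, h2⟩ := h.satMember hQc (h.fullyNormalized_G_of_liftSys hQc.2.1 hQn)
      (hbig Q hQc (by rw [← card_eq_of_isConj hQ]; exact hcard))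
    exact ⟨Q, hQ, h1, h2⟩
  obtain ⟨T', X₁, f₁, f₂, e₁, e₂, a, -, hX₁T, hf₁, hf₂, he₁, he₂, -, he₁e, he₂e, hfa,
    ⟨χ₁, hχ₁, hχ₁n, hχ₁e⟩, ⟨χ₂, hχ₂, hχ₂n, hχ₂e⟩⟩ := exists_link_target hT hlink hsat
  have hconj : D.IsConj P X₁ := isConj_iff.2 ⟨e₁, he₁⟩
  obtain ⟨e₀, he₀⟩ := h.exists_reach hP hPn hconj
  have hrefl : Reach D (MulEquiv.refl P) :=
    ⟨isIso_refl hP.1, _, id_mem D inf_le_left, fun x hx => rfl⟩
  have h1 := lt_normalizer_inf hT (normalizerIn_le P) hMlt
  have h2 := lt_normalizer_inf hT (normalizerIn_le P) hM'lt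
  obtain ⟨ψ₁, hψ₁, hψ₁e⟩ := exists_link_of_map P X₁ hχ₁ (hPM.trans h1) inf_le_left
    (e := e₁) (fun x => (hχ₁e _ (hPM.le x.2)).trans (he₁e x).symm)
  obtain ⟨ψ₂, hψ₂, hψ₂e⟩ := exists_link_of_map P X₁ hχ₂ (hPM'.trans h2) inf_le_left
    (e := e₂) (fun x => (hχ₂e _ (hPM'.le x.2)).trans (he₂e x).symm)
  have hn₁ := hgrow h1 (inf_le_left.trans (normalizerIn_le (S := T) P))
  have hn₂ := hgrow h2 (inf_le_left.trans (normalizerIn_le (S := T) P))
  have hle₁ : Nat.card (normalizerIn T P ⊓ Subgroup.normalizer (M : Set Ω) : Subgroup Ω) ≤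
      Nat.card T := Subgroup.card_le_of_le (inf_le_left.trans (normalizerIn_le P))
  have hle₂ : Nat.card (normalizerIn T P ⊓ Subgroup.normalizer (M' : Set Ω) : Subgroup Ω) ≤
      Nat.card T := Subgroup.card_le_of_le (inf_le_left.trans (normalizerIn_le P))
  have hMM' : Nat.card M = Nat.card M' := Nat.card_congr ψ.toEquiv
  have hc₁ := h.compat_of_loop hψ₁
    (fun N N' χ hχ hc b hb => ih (Nat.card T - Nat.card N) (by omega) N N' χ hχ le_rfl b hb)
    (eX := e₁) (fun x hx => by rw [hψ₁e, hχ₁e _ (hPM.le x.2), he₁e]; rfl) hrefl he₀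
  have hc₂ := h.compat_of_loop hψ₂
    (fun N N' χ hχ hc b hb => ih (Nat.card T - Nat.card N) (by omega) N N' χ hχ le_rfl b hb)
    (eX := e₂) (fun x hx => by rw [hψ₂e, hχ₂e _ (hPM'.le x.2), he₂e]; rfl) hrefl he₀
  -- the middle automorphism
  have hT'T : T' ≤ T := hf₁.le_right
  have hX₁c : IsCent Z G X₁ := h.isCent_of_conj hP (isConj_of_isSubsystemOf liftSys_le hconj)
  have hT'c : IsCent Z G T' := h.isCent_mono hX₁c hX₁T hT'T
  have := finite_of_le h.T_le
  obtain ⟨a₁, -, ha₁e⟩ := exists_res_aut (W := D) a.2.1 hT'T hX₁T fun x hx => (a.2.2 x).1 hx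
  have ha₁ : a₁ ∈ liftAut F G p X₁ := h.res_mem_liftAut hT'c hX₁c hX₁T
    (hbig T' hT'c (by rw [← Nat.card_congr f₁.toEquiv]; exact hcard) a.2.1) a.2.2 ha₁e
  have ha₀ := h.congr_mem_liftAut (h.isIso_F_of_lift he₀.1) hX₁c.1 hP.1 ha₁
  have hkey : ∀ x : P, e₂ (b x) = a₁ (e₁ x) := fun x => Subtype.ext (by
    rw [he₂e, ha₁e]
    rw [show Subgroup.inclusion hX₁T (e₁ x) = f₁ (Subgroup.inclusion hPM.le x) from
      Subtype.ext (he₁e x), ← hfa]
    exact congrArg (fun z => ((f₂ z : T') : Ω)) (Subtype.ext (hb x (hPM.le x.2))))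
  have hfin : b = (((MulEquiv.refl P).symm.trans (e₂.trans e₀) : MulAut P))⁻¹ *
      MulAut.congr e₀ a₁ * ((MulEquiv.refl P).symm.trans (e₁.trans e₀) : MulAut P) := by
    rw [mul_assoc, eq_inv_mul_iff_mul_eq]
    refine MulEquiv.ext fun x => ?_
    change e₀ (e₂ (b x)) = e₀ (a₁ (e₀.symm (e₀ (e₁ x))))
    rw [MulEquiv.symm_apply_apply, hkey]
  rw [hfin]
  exact mul_mem (mul_mem (inv_mem hc₂) ha₀) hc₁

/-- **The automorphism groups of the members.** -/
theorem autGroup_liftSys_le {P : Subgroup Ω} (hP : IsCent Z G P) :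
    (liftSys F Z G p).autGroup P ≤ liftAut F G p P := by
  have := finite_of_le h.T_le
  suffices H : ∀ (n : ℕ) (P : Subgroup Ω), IsCent Z G P → Nat.card T - Nat.card P ≤ n →
      (liftSys F Z G p).autGroup P ≤ liftAut F G p P from H _ P hP le_rfl
  clear hP P
  intro n
  induction n using Nat.strong_induction_on with
  | _ n ih =>
  intro P₀ hP₀ hn₀
  set D := liftSys F Z G p with hD
  obtain ⟨P, hPP, hPn⟩ := exists_fullyNormalized D hP₀.1
  obtain ⟨f, hf⟩ := isConj_iff.1 hPP
  have hP : IsCent Z G P := h.isCent_of_conj hP₀ (isConj_of_isSubsystemOf liftSys_le hPP)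
  suffices hmain : D.autGroup P ≤ liftAut F G p P by
    intro a ha
    have h1 := h.congr_mem_liftAut (h.isIso_F_of_lift hf).symm hP.1 hP₀.1
      (hmain (congr_mem_autGroup hf ha))
    rwa [congr_symm_congr] at h1
  have hbig : ∀ Y, IsCent Z G Y → Nat.card P < Nat.card Y →
      D.autGroup Y ≤ liftAut F G p Y := fun Y hY hlt => by
    have hYT : Nat.card Y ≤ Nat.card T := Subgroup.card_le_of_le hY.1
    have hPP' := card_eq_of_isConj hPP
    exact ih (Nat.card T - Nat.card Y) (by omega) Y hY le_rfl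
  rcases eq_or_lt_of_le hP.1 with hPT | hlt
  · -- the whole group
    let W : FusionSystem T :=
      { Hom := fun Y => {φ | φ ∈ D.Hom Y ∧ ∀ hY : Y = P, ∃ a ∈ liftAut F G p P,
          ∀ x : P, φ ⟨x, hY.symm ▸ x.2⟩ = (a x : Ω)}
        le_of_mem := fun hφ => D.le_of_mem hφ.1
        injective_of_mem := fun hφ => D.injective_of_mem hφ.1
        conj_mem := fun {Y g} hY hg => ⟨D.conj_mem hY hg, fun he => by
          subst he
          have hgn : g ∈ Subgroup.normalizer (Y : Set Ω) :=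
            Subgroup.le_normalizer (hPT.symm.le hg)
          exact ⟨_, h.normAut_mem_liftAut hY hgn hg, fun x => rfl⟩⟩
        comp_mem := by
          rintro Y Y' φ χ hφ hχ hv
          refine ⟨D.comp_mem hφ.1 hχ.1 hv, fun hY => ?_⟩
          obtain ⟨a, ha, hae⟩ := hφ.2 hY
          have hle : P ≤ Y' := fun y hy => by
            have h1 := hv ⟨(a⁻¹ ⟨y, hy⟩ : P), hY.symm ▸ (a⁻¹ ⟨y, hy⟩ : P).2⟩
            rwa [hae, MulAut.apply_inv_self] at h1
          obtain ⟨b, hb, hbe⟩ := hχ.2 (le_antisymm (hPT.symm ▸ le_S D hχ.1) hle)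
          refine ⟨b * a, mul_mem hb ha, fun x => ?_⟩
          refine Eq.trans ?_ (hbe (a x))
          exact congrArg χ (Subtype.ext (hae x))
        inv_mem := by
          rintro Y φ hφ
          obtain ⟨θ, hθ, hθe⟩ := D.inv_mem hφ.1
          refine ⟨θ, ⟨hθ, fun hY => ?_⟩, hθe⟩
          have hcard : Nat.card Y = Nat.card P := by
            rw [← hY]; exact Nat.card_congr (MonoidHom.ofInjective (D.injective_of_mem hφ.1)).toEquiv
          have hYP : Y = P := by
            have := finite_of_le (hP.1.trans h.T_le)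
            exact Subgroup.eq_of_le_of_card_ge (hPT.symm ▸ le_S D hφ.1) hcard.ge
          obtain ⟨a, ha, hae⟩ := hφ.2 hYP
          refine ⟨a⁻¹, inv_mem ha, fun x => ?_⟩
          have h1 := hae (a⁻¹ x)
          rw [MulAut.apply_inv_self] at h1
          refine Eq.trans ?_ (hθe ⟨(a⁻¹ x : P), hYP.symm ▸ (a⁻¹ x : P).2⟩)
          exact congrArg θ (Subtype.ext h1.symm) }
    have hW : Admissible F Z G p W := fun Q hQ a ha => (mem_autGroup_iff W hQ.1).2
      ⟨(mem_autGroup_iff D hQ.1).1 (h.liftAut_le_liftSys hQ ha), fun hQP => by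
        subst hQP; exact ⟨a, ha, fun x => rfl⟩⟩
    intro a ha
    obtain ⟨a', ha', hae⟩ := (((mem_autGroup_iff D hP.1).1 ha).2 W hW).2 rfl
    rwa [show a = a' from MulEquiv.ext fun x => Subtype.ext (hae x)]
  -- below the whole group
  have hloop : ∀ {X X' M M' : Subgroup Ω} {ψ : M ≃* M'}, IsLink D X X' ψ →
      ∀ {eX : X ≃* X'}, (∀ x : X, ∀ hx : (x : Ω) ∈ M, (eX x : Ω) = ψ ⟨x, hx⟩) →
      ∀ {e : X ≃* P} {e' : X' ≃* P}, Reach D e → Reach D e' →
        (e.symm.trans (eX.trans e') : MulAut P) ∈ liftAut F G p P :=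
    fun hlink _ heX _ _ he he' => h.compat_of_loop hlink
      (fun _ _ _ hχ _ _ hb => h.loop_mem hP hPn hbig hχ hb) heX he he'
  have hclass : ∀ {X : Subgroup Ω}, D.IsConj P X → X < T := fun {X} hX => by
    refine lt_of_le_of_ne (le_right_of_isConj hX) fun he => ?_
    have h1 := card_eq_of_isConj hX
    rw [he] at h1
    exact hlt.ne (Subgroup.eq_of_le_of_card_ge hlt.le h1.ge)
  -- maps restricted from larger subgroups
  have hres : ∀ {X Y M : Subgroup Ω} {φ : M →* Ω}, φ ∈ D.Hom M → ∀ (hXM : X < M) {eX : X ≃* Y},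
      (∀ x : X, (eX x : Ω) = φ (Subgroup.inclusion hXM.le x)) →
      ∀ {e : X ≃* P} {e' : Y ≃* P}, Reach D e → Reach D e' →
        (e.symm.trans (eX.trans e') : MulAut P) ∈ liftAut F G p P := by
    intro X Y M φ hφ hXM eX heX e e' he he'
    obtain ⟨X', M₁, M₁', ψ, hψ, hX', hψe⟩ :=
      exists_link_of_restrict (h.isPGroup.to_le h.T_le) hφ hXM
    have hXY : X' = Y := by
      rw [hX']; ext y
      constructor
      · rintro ⟨x, rfl⟩
        exact (heX x) ▸ (eX x).2
      · intro hy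
        exact ⟨eX.symm ⟨y, hy⟩, by rw [MonoidHom.comp_apply, ← heX, MulEquiv.apply_symm_apply]⟩
    subst hXY
    exact hloop hψ (fun x hx => by rw [hψe _ (hXM.le x.2), heX]; rfl) he he'
  let W : FusionSystem T :=
    { Hom := fun Y => {φ | φ ∈ D.Hom Y ∧ (D.IsConj P Y → ∀ (eY : Y ≃* φ.range),
        (∀ y, (eY y : Ω) = φ y) → ∀ (e : Y ≃* P) (e' : φ.range ≃* P), Reach D e → Reach D e' →
          (e.symm.trans (eY.trans e') : MulAut P) ∈ liftAut F G p P)}
      le_of_mem := fun hφ => D.le_of_mem hφ.1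
      injective_of_mem := fun hφ => D.injective_of_mem hφ.1
      conj_mem := fun {Y g} hY hg => ⟨D.conj_mem hY hg, fun hc eY heY e e' he he' =>
        hres (D.conj_mem le_rfl hg) (hclass hc) (eX := eY)
          (fun x => by rw [heY]; rfl) he he'⟩
      comp_mem := by
        intro Y Y' φ χ hφ hχ hv
        refine ⟨D.comp_mem hφ.1 hχ.1 hv, fun hc eY heY e e' he he' => ?_⟩
        obtain ⟨eφ, heφ, heφe⟩ := exists_iso_of_mem hφ.1
        have hc₁ : D.IsConj P φ.range := isConj_trans hc ⟨φ, hφ.1, rfl⟩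
        obtain ⟨e₁, he₁⟩ := h.exists_reach hP hPn hc₁
        have hle : φ.range ≤ Y' := by rintro _ ⟨x, rfl⟩; exact hv x
        have h1 := hφ.2 hc eφ heφe e e₁ he he₁
        set ε : φ.range ≃* (χ.comp (φ.codRestrict Y' hv)).range := eφ.symm.trans eY with hε
        have hεe : ∀ z : φ.range, (ε z : Ω) = χ (Subgroup.inclusion hle z) := by
          rintro ⟨_, x, rfl⟩
          have h9 : eφ.symm ⟨φ x, x, rfl⟩ = x :=
            (MulEquiv.symm_apply_eq eφ).2 (Subtype.ext (heφe x).symm)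
          exact (congrArg (fun z => (eY z : Ω)) h9).trans (heY x)
        have h2 : (e₁.symm.trans (ε.trans e') : MulAut P) ∈ liftAut F G p P := by
          rcases eq_or_lt_of_le hle with heq | hltY
          · subst heq
            have hR : χ.range = (χ.comp (φ.codRestrict _ hv)).range := by
              ext y
              constructor
              · rintro ⟨⟨_, x, rfl⟩, rfl⟩; exact ⟨x, rfl⟩
              · rintro ⟨x, rfl⟩; exact ⟨_, rfl⟩
            obtain ⟨eχ, heχ, heχe⟩ := exists_iso_of_range hχ.1 rfl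
            have hgen : ∀ {R' : Subgroup Ω} (hRR' : χ.range = R') (ε' : φ.range ≃* R')
                (e'' : R' ≃* P), (∀ z, (ε' z : Ω) = χ z) → Reach D e'' →
                (e₁.symm.trans (ε'.trans e'') : MulAut P) ∈ liftAut F G p P := by
              intro R' hRR' ε' e'' hε' he''
              subst hRR'
              exact hχ.2 hc₁ ε' hε' e₁ e'' he₁ he''
            exact hgen hR ε e' (fun z => hεe z) he'
          · exact hres hχ.1 hltY hεe he₁ he'
        have h3 := mul_mem h2 h1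
        convert h3 using 1
        refine MulEquiv.ext fun y => ?_
        change e' (eY (e.symm y)) = e' (eY (eφ.symm (e₁.symm (e₁ (eφ (e.symm y))))))
        rw [MulEquiv.symm_apply_apply, MulEquiv.symm_apply_apply]
      inv_mem := by
        intro Y φ hφ
        obtain ⟨θ, hθ, hθe⟩ := D.inv_mem hφ.1
        refine ⟨θ, ⟨hθ, fun hc eY heY e e' he he' => ?_⟩, hθe⟩
        have hr : θ.range = Y := by
          ext y
          constructor
          · rintro ⟨⟨_, x, rfl⟩, rfl⟩; rw [hθe]; exact x.2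
          · exact fun hy => ⟨_, hθe ⟨y, hy⟩⟩
        have hgen : ∀ {R' : Subgroup Ω} (hR : θ.range = R') (eY : φ.range ≃* R') (e' : R' ≃* P),
            R' = Y → (∀ y, (eY y : Ω) = θ y) → Reach D e' →
            (e.symm.trans (eY.trans e') : MulAut P) ∈ liftAut F G p P := by
          intro R' _ eY' e'' hR heY' he''
          subst hR
          have heφ : ∀ x : R', (eY'.symm x : Ω) = φ x := by
            intro x
            have h1 : eY' ⟨φ x, x, rfl⟩ = x := Subtype.ext (by rw [heY', hθe])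
            rw [show eY'.symm x = ⟨φ x, x, rfl⟩ from (MulEquiv.symm_apply_eq eY').2 h1.symm]
          have hcY : D.IsConj P R' := isConj_trans hc (isConj_symm ⟨φ, hφ.1, rfl⟩)
          have h1 := Subgroup.inv_mem _ (hφ.2 hcY eY'.symm heφ e'' e he'' he)
          convert h1 using 1
          exact MulEquiv.ext fun _ => rfl
        exact hgen rfl eY e' hr heY he' }
  have hW : Admissible F Z G p W := fun Q hQ a ha => (mem_autGroup_iff W hQ.1).2
    ⟨(mem_autGroup_iff D hQ.1).1 (h.liftAut_le_liftSys hQ ha), fun hc eY heY e e' he he' => by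
      have hgen : ∀ {R' : Subgroup Ω} (eY : Q ≃* R') (e' : R' ≃* P), R' = Q →
          (∀ y, (eY y : Ω) = (a y : Ω)) → Reach D e' →
          (e.symm.trans (eY.trans e') : MulAut P) ∈ liftAut F G p P := by
        intro R' eY' e'' hR heY' he''
        subst hR
        have hid : (e.symm.trans ((MulEquiv.refl R').trans e'') : MulAut P) ∈ liftAut F G p P :=
          hres (id_mem D inf_le_left) (lt_normalizerIn (h.isPGroup.to_le h.T_le) (hclass hc))
            (fun x => rfl) he he''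
        have h1 := mul_mem hid
          (h.congr_mem_liftAut (h.isIso_F_of_lift he.1) hQ.1 hP.1 ha)
        convert h1 using 1
        refine MulEquiv.ext fun y => ?_
        change e'' (eY' (e.symm y)) = e'' (e.symm (e (a (e.symm y))))
        rw [MulEquiv.symm_apply_apply, show eY' (e.symm y) = a (e.symm y) from
          Subtype.ext (heY' _)]
      exact hgen eY e' (range_subtype_comp a) heY he'⟩
  intro a ha
  have h1 := (((mem_autGroup_iff D hP.1).1 ha).2 W hW).2 (isConj_refl hP.1)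
  have hrefl : Reach D (MulEquiv.refl P) :=
    ⟨isIso_refl hP.1, _, id_mem D inf_le_left, fun x hx => rfl⟩
  have hgen : ∀ {R' : Subgroup Ω}, R' = P → (∀ (eY : P ≃* R') (_ : ∀ y, (eY y : Ω) = a y)
      (e : P ≃* P) (e' : R' ≃* P), Reach D e → Reach D e' →
        (e.symm.trans (eY.trans e') : MulAut P) ∈ liftAut F G p P) → a ∈ liftAut F G p P := by
    intro R' hR hh
    subst hR
    exact hh a (fun _ => rfl) _ _ hrefl hrefl
  exact hgen (range_subtype_comp a) h1

end CentralSub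

end CfsgLib.Fusion.CentralLift
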