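import Cfsg.Agent.Lib.Fusion.CentralLift.Loops
import Cfsg.Agent.Lib.Fusion.GeneratedSaturationClass
import Cfsg.Agent.Lib.Fusion.PullSystem
import Cfsg.Agent.Lib.Fusion.PPrimeResidual

/-!
# The lifted system is a weakly normal subsystem
-/

set_option autoImplicit false

open Cfsg Cfsg.FusionSystem

namespace CfsgLib.Fusion.CentralLift

variable {Ω : Type*} [Group Ω] {S T Z : Subgroup Ω}

/-- The maps of `F` between subgroups of a strongly closed subgroup. -/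
def restrictSys (F : FusionSystem S) (hT : F.StronglyClosed T) : FusionSystem T where
  Hom P := {φ | P ≤ T ∧ φ ∈ F.Hom P}
  le_of_mem h := ⟨h.1, fun x => hT.2 _ h.1 _ h.2 x⟩
  injective_of_mem h := F.injective_of_mem h.2
  conj_mem := fun hP hg => ⟨hP, F.conj_mem (hP.trans hT.1) (hT.1 hg)⟩
  comp_mem := fun {_ _ _ _} hφ hψ hv => ⟨hφ.1, F.comp_mem hφ.2 hψ.2 hv⟩
  inv_mem := by
    rintro P φ ⟨hP, hφ⟩
    obtain ⟨ψ, hψ, hψe⟩ := F.inv_mem hφ
    refine ⟨ψ, ⟨?_, hψ⟩, hψe⟩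
    rintro _ ⟨x, rfl⟩
    exact hT.2 P hP φ hφ x

theorem mem_autGroup_restrictSys {F : FusionSystem S} (hT : F.StronglyClosed T) {α : MulAut T} :
    α ∈ (restrictSys F hT).autGroup T ↔ α ∈ F.autGroup T := by
  rw [mem_autGroup_iff _ le_rfl, mem_autGroup_iff F hT.1]
  exact ⟨fun h => h.2, fun h => ⟨le_rfl, h⟩⟩

variable [Finite S] {F : FusionSystem S} {G : FusionSystem T} {p : ℕ} [Fact p.Prime]

namespace CentralSub

variable (h : CentralSub F Z G p)
include h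

theorem isSaturated_liftSys : (liftSys F Z G p).IsSaturated p := by
  have := finite_of_le h.T_le
  set D := liftSys F Z G p
  have hT := h.isPGroup.to_le h.T_le
  refine isSaturated_of_generated_on_family hT {P | IsCent Z G P}
    (fun P hP Q hQ => h.isCent_of_conj hP (isConj_of_isSubsystemOf liftSys_le hQ)) (fun P hP => ?_)
    (fun E hE => ?_) fun P hc hP => ?_
  · obtain ⟨Q, hQ, hQn⟩ := exists_fullyNormalized D hP.1
    have hQc := h.isCent_of_conj hP (isConj_of_isSubsystemOf liftSys_le hQ)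
    obtain ⟨h1, h2⟩ := h.satMember hQc (h.fullyNormalized_G_of_liftSys hQc.2.1 hQn)
      (h.autGroup_liftSys_le hQc)
    exact ⟨Q, hQ, h1, h2⟩
  · exact fun P φ hφ => hφ.2 E fun Q hQ a ha => (mem_autGroup_iff E hQ.1).2
      (hE Q hQ ((mem_autGroup_iff D hQ.1).1 (h.liftAut_le_liftSys hQ ha)))
  · have hZP : Z ≤ P := fun z hz => hc.2 P (isConj_refl hc.1)
      ⟨h.le hz, fun y hy => h.commute_Z hz (h.T_le (hc.1 hy))⟩
    obtain ⟨R, hR, t, htT, htR, htn⟩ : ∃ R, G.IsConj P R ∧ ∃ t ∈ T,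
        (∀ q ∈ R, q⁻¹ * (t * q * t⁻¹) ∈ Z) ∧ t ∉ R := by
      by_contra hcon
      push Not at hcon
      exact hP ⟨hc.1, hZP, hcon⟩
    have hRD := h.isConj_liftSys hZP hR
    refine ⟨R, hRD, fun hle => ?_⟩
    have hRT := le_right_of_isConj hR
    have hRS := hRT.trans h.T_le
    have := finite_of_le hRS
    have hZR : Z ≤ R := by
      obtain ⟨e, he⟩ := isConj_iff.1 hR
      exact h.Z_le_of_iso (h.isIso_of_G he) hZP
    have htn' : t ∈ Subgroup.normalizer (R : Set Ω) := by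
      refine mem_normalizer_of_forall fun q hq => ?_
      have h1 := R.mul_mem hq (hZR (htR q hq))
      rwa [mul_inv_cancel_left] at h1
    have htA : normAut t htn' ∈ autInducedBy T R :=
      mem_autInducedBy_iff.2 ⟨t, htT, fun _ => rfl⟩
    have htk : normAut t htn' ∈ D.autGroup R ⊓ kAut F Z R := ⟨autInducedBy_le_autGroup hRT htA,
      h.mem_kAut hRS (autInducedBy_le_autGroup hRS (autInducedBy_mono h.T_le htA))
        fun x => htR x x.2⟩
    have hn : ((D.autGroup R ⊓ kAut F Z R).subgroupOf (D.autGroup R)).Normal := ⟨fun a ha b => by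
      rw [Subgroup.mem_subgroupOf] at ha ⊢
      exact ⟨Subgroup.mul_mem _ (Subgroup.mul_mem _ b.2 ha.1) (Subgroup.inv_mem _ b.2), h.kAut_normal hRS ha.2
        (autGroup_mono h.sub R (autGroup_mono liftSys_le R b.2))⟩⟩
    have hcore : normAut t htn' ∈ coreAut D p R :=
      ⟨⟨_, htk.1⟩, (show (D.autGroup R ⊓ kAut F Z R).subgroupOf (D.autGroup R) ≤
        pCore p (D.autGroup R) from le_sSup ⟨hn,
          ((h.isPGroup_kAut hRS).to_le inf_le_right).comap_subtype⟩) htk, rfl⟩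
    have hI := hle ⟨htA, hcore⟩
    rw [inn_eq, mem_autInducedBy_iff] at hI
    obtain ⟨q, hq, hqe⟩ := hI
    have hcent : q⁻¹ * t ∈ centralizerIn T R := by
      refine ⟨T.mul_mem (T.inv_mem (hRT hq)) htT, fun y hy => ?_⟩
      have h1 := hqe ⟨y, hy⟩
      rw [normAut_apply] at h1
      have h2 : t * y * t⁻¹ = q * y * q⁻¹ := h1
      calc y * (q⁻¹ * t) = q⁻¹ * (q * y * q⁻¹) * t := by group
        _ = q⁻¹ * (t * y * t⁻¹) * t := by rw [h2]
        _ = q⁻¹ * t * y := by group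
    have h2 := hc.2 R hRD hcent
    exact htn (by simpa using R.mul_mem hq h2)

theorem transportClosed_liftSys : TransportClosed (liftSys F Z G p) F := by
  intro P hPT φ hφ α hα
  obtain ⟨χ, hχ, hχe⟩ := h.inv.2.2.1 P hPT φ hφ.1 α hα
  refine ⟨χ, ⟨hχ, fun W hW => ?_⟩, hχe⟩
  let K := pullSys W (autIncl α) (autIncl_injective α) (autIncl_range α)
  have hK : Admissible F Z G p K := fun Q hQ a ha => by
    set f := imageEquiv (autIncl_injective α) hQ.1
    have hf : IsIso F f :=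
      mem_of_eq rfl (res_mem F ((mem_autGroup_iff F h.T_le).1 hα) hQ.1) fun _ => rfl
    obtain ⟨hXT, hX⟩ := h.isCent_of_iso hQ hf
    have h1 := (mem_autGroup_iff W hXT).1 (hW _ hX (h.congr_mem_liftAut hf hQ.1 hXT ha))
    refine (mem_autGroup_iff K hQ.1).2 ⟨hQ.1, fun x => hQ.1 (a x).2, _, h1, fun x => ?_⟩
    change ((f (a (f.symm _)) : _) : Ω) = _
    rw [show f.symm ⟨(autIncl α ⟨(x : Ω), hQ.1 x.2⟩), apply_mem_imageAlong x.2⟩ = x from
      (MulEquiv.symm_apply_eq f).2 (Subtype.ext rfl)]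
    rfl
  obtain ⟨hP, hφT, ψ, hψ, hψe⟩ := hφ.2 K hK
  refine mem_of_eq rfl hψ ?_
  rintro ⟨_, ⟨x, hx, rfl⟩⟩
  refine Eq.trans ?_ (hψe ⟨x, hx⟩).symm
  exact hχe ⟨x, hx⟩ (hφT _) ⟨x, hx, rfl⟩

theorem isWeaklyNormalIn_liftSys : (liftSys F Z G p).IsWeaklyNormalIn F p := by
  set D := liftSys F Z G p
  have hDF : D.IsSubsystemOf F := fun P φ hφ => h.sub P hφ.1
  have hT := h.stronglyClosed
  have htr : TransportClosed D F := h.transportClosed_liftSys
  refine ⟨h.isSaturated_liftSys, h.saturated, hDF, hT, htr, fun P hPT φ hφ => ?_⟩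
  have htr' : TransportClosed D (restrictSys F hT) := fun P hP φ hφ α hα =>
    htr P hP φ hφ α ((mem_autGroup_restrictSys hT).1 hα)
  set W := frattiniSys D (restrictSys F hT) htr'
  have := finite_of_le h.T_le
  -- automorphisms trivial modulo `Z`
  have hk : ∀ Q : Subgroup Ω, Q ≤ T → Z ≤ Q → kAut F Z Q ≤ W.autGroup Q := by
    intro Q hQT hZQ k hk
    obtain ⟨P', hQP', hn⟩ := exists_fullyNormalized F (hQT.trans h.T_le)
    obtain ⟨e, he⟩ := isConj_iff.1 hQP'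
    obtain ⟨α, hα, φ₀, hφ₀, hφe⟩ := h.inv.2.2.2 Q hQT _ he
    obtain ⟨d, hd, hde⟩ := h.exists_modEq hZQ hφ₀
    obtain ⟨ed, hed, hede⟩ := exists_iso_of_range hd
      (h.range_eq_of_mod (h.sub Q hφ₀) (h.sub Q hd.1) hZQ hde).symm
    have hedW : IsIso W ed :=
      ⟨⟨hQT, h.sub Q hed.1⟩, 1, one_mem _, _, hed, fun _ _ => rfl⟩
    have hQ₀T : φ₀.range ≤ T := range_le_S G hφ₀
    set k₀ := MulAut.congr ed k with hk₀
    have hk₀K : k₀ ∈ kAut F Z φ₀.range := h.congr_mem_kAut (h.isIso_F_of_lift hed) hk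
    suffices h0 : k₀ ∈ W.autGroup φ₀.range by
      have h1 := congr_mem_autGroup hedW.symm h0
      rwa [hk₀, congr_symm_congr] at h1
    have hαF := (mem_autGroup_iff F h.T_le).1 hα
    have hr : (((autIncl α).comp (Subgroup.inclusion hQ₀T)) : _ →* Ω).range = P' := by
      ext y
      constructor
      · rintro ⟨⟨_, x, rfl⟩, rfl⟩
        change ((α ⟨φ₀ x, apply_mem_S G hφ₀ x⟩ : T) : Ω) ∈ P'
        rw [← hφe x (apply_mem_S G hφ₀ x)]
        exact (e x).2
      · intro hy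
        refine ⟨⟨φ₀ (e.symm ⟨y, hy⟩), _, rfl⟩, ?_⟩
        refine ((hφe _ (apply_mem_S G hφ₀ _)).symm.trans ?_)
        exact congrArg Subtype.val (e.apply_symm_apply ⟨y, hy⟩)
    obtain ⟨g, hg, hge⟩ := exists_iso_of_range (res_mem F hαF hQ₀T) hr
    have hP'S := hn.1
    have := finite_of_le hP'S
    have hkS : kAut F Z P' ≤ autInducedBy S P' := le_autInducedBy_of_normal_pgroup
      (fullyAutomized_receptive_of_fullyNormalized h.isPGroup h.saturated hn).1
      (fun a ha => ha.1)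
      ⟨fun a ha b => Subgroup.mem_subgroupOf.2
        (h.kAut_normal hP'S (Subgroup.mem_subgroupOf.1 ha) b.2)⟩ (h.isPGroup_kAut hP'S)
    obtain ⟨r, hr', hre⟩ := mem_autInducedBy_iff.1 (hkS (h.congr_mem_kAut hg hk₀K))
    have hrn := le_normalizer_of_stronglyClosed hT hr'
    set β := α⁻¹ * normAut r hrn * α
    have hβ : β ∈ F.autGroup T := mul_mem (mul_mem (inv_mem hα)
      (autInducedBy_le_autGroup h.T_le (mem_autInducedBy_iff.2 ⟨r, hr', fun _ => rfl⟩))) hα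
    refine (mem_autGroup_iff W hQ₀T).2 ⟨⟨hQ₀T, (mem_autGroup_iff F (hQ₀T.trans h.T_le)).1 hk₀K.1⟩,
      β, (mem_autGroup_restrictSys hT).2 hβ, _, id_mem D hQ₀T, fun x hx => ?_⟩
    change ((k₀ x : φ₀.range) : Ω) = ((β ⟨(x : Ω), hx⟩ : T) : Ω)
    have h1 := hre (g x)
    rw [show MulAut.congr g k₀ (g x) = g (k₀ x) from
      congrArg (fun z => g (k₀ z)) (g.symm_apply_apply x), hge, hge] at h1
    have h2 : α (Subgroup.inclusion hQ₀T (k₀ x)) = normAut r hrn (α ⟨(x : Ω), hx⟩) :=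
      Subtype.ext h1
    change _ = (((α⁻¹ * normAut r hrn * α) ⟨(x : Ω), hx⟩ : T) : Ω)
    rw [MulAut.mul_apply, MulAut.mul_apply, ← h2, MulAut.inv_apply_self]
    rfl
  -- maps of `G`
  have hG : ∀ Q : Subgroup Ω, Z ≤ Q → ∀ ψ ∈ G.Hom Q, ψ ∈ W.Hom Q := by
    intro Q hZQ ψ hψ
    obtain ⟨d, hd, hde⟩ := h.exists_modEq hZQ hψ
    have hψF := h.sub Q hψ
    have hdF := h.sub Q hd.1
    have hr := h.range_eq_of_mod hψF hdF hZQ hde
    obtain ⟨ed, hed, hede⟩ := exists_iso_of_range hd hr.symm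
    obtain ⟨eψ, heψ, heψe⟩ := exists_iso_of_mem hψF
    set k : MulAut ψ.range := ed.symm.trans eψ
    have hRT : ψ.range ≤ T := range_le_S G hψ
    have hkK : k ∈ kAut F Z ψ.range := by
      refine h.mem_kAut (hRT.trans h.T_le) ((mem_autGroup_iff F (hRT.trans h.T_le)).2
        ((h.isIso_F_of_lift hed).symm.trans heψ)) fun y => ?_
      obtain ⟨x, rfl⟩ := ed.surjective y
      change ((ed x : ψ.range) : Ω)⁻¹ * ((eψ (ed.symm (ed x)) : ψ.range) : Ω) ∈ Z
      rw [MulEquiv.symm_apply_apply, hede, heψe]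
      simpa using Z.inv_mem (hde x)
    have hQT := le_S G hψ
    have h1 : IsIso W ed := ⟨⟨hQT, h.sub Q hed.1⟩, 1, one_mem _, _, hed, fun _ _ => rfl⟩
    have h2 := h1.trans ((mem_autGroup_iff W hRT).1 (hk _ hRT (h.Z_le_range hψF hZQ) hkK))
    refine mem_of_eq rfl h2 fun x => ?_
    change ψ x = ((eψ (ed.symm (ed x)) : ψ.range) : Ω)
    rw [MulEquiv.symm_apply_apply, heψe]
  obtain ⟨α, hα, φ₀, hφ₀, hφe⟩ := h.inv.2.2.2 P hPT φ hφ
  -- extend over `Z`
  obtain ⟨ψ, hψ, hψe, hψZ⟩ := h.central.2 P φ₀ (h.sub P hφ₀)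
  have hPn : P ≤ Subgroup.normalizer (Z : Set Ω) := fun y hy =>
    mem_normalizer_of_forall_commute fun z hz => (h.commute_Z hz (h.T_le (hPT hy))).symm
  have hψG : ψ ∈ G.Hom (P ⊔ Z) := by
    refine h.agree hφ₀ hψ (sup_le hPT h.le) fun y => ?_
    obtain ⟨x, hx, z, hz, hy⟩ := exists_mul_of_mem_sup hPn y.2
    refine ⟨⟨x, hx⟩, by rw [hy, inv_mul_cancel_left]; exact hz, ?_⟩
    rw [show y = Subgroup.inclusion le_sup_left ⟨x, hx⟩ * Subgroup.inclusion le_sup_right ⟨z, hz⟩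
      from Subtype.ext hy, map_mul, hψe, hψZ, inv_mul_cancel_left]
    exact hz
  obtain ⟨-, β, hβ, d, hd, hdβ⟩ : φ₀ ∈ W.Hom P :=
    mem_of_eq rfl (res_mem W (hG _ le_sup_right ψ hψG) le_sup_left) fun x => (hψe x).symm
  refine ⟨α * β, mul_mem hα ((mem_autGroup_restrictSys hT).1 hβ), d, hd, fun x hx => ?_⟩
  rw [hφe x (apply_mem_S G hφ₀ x)]
  exact congrArg (fun z : T => ((α z : T) : Ω)) (Subtype.ext (hdβ x hx))

/-- There is a normal subsystem over `T` contained in `G`. -/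
theorem exists_isNormalIn : ∃ D : FusionSystem T, D.IsNormalIn F p ∧ D.IsSubsystemOf G := by
  have := finite_of_le h.T_le
  have hD := h.isWeaklyNormalIn_liftSys
  obtain ⟨E, hE⟩ : ∃ E, (liftSys F Z G p).IsPPrimeResidual p E :=
    ⟨_, isPPrimeResidual_pPrimeResidualSys (h.isPGroup.to_le h.T_le) hD.1⟩
  exact ⟨E, isNormalIn_residual_of_weaklyNormal h.isPGroup hD hE,
    fun P φ hφ => (hE.2.1.1 P hφ).1⟩

end CentralSub

end CfsgLib.Fusion.CentralLift
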