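import Mathlib

/-!
# A transfer argument for a Sylow subgroup `K U` with `K` central modulo `U`

If `K` is an abelian normal `p`-subgroup, `U` is a subgroup with `K U` Sylow, every conjugate of
an element of `U` inside `K U` lies in `U`, and `K` is central modulo `U`, then the subgroup
generated by the conjugates of `U` and the elements of order prime to `p` meets `K` inside `U`.
-/

set_option autoImplicit false

namespace CfsgLib.Fusion.CentralLift

variable {G : Type*} [Group G] [Finite G] {p : ℕ} [Fact p.Prime]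

theorem closure_inf_le {Sy K U : Subgroup G} (hSy : IsPGroup p Sy) (hidx : ¬ p ∣ Sy.index)
    (hK : K ≤ Sy) (hU : U ≤ Sy) (hdec : ∀ s ∈ Sy, ∃ k ∈ K, ∃ u ∈ U, s = k * u)
    (hUn : ∀ s ∈ Sy, ∀ u ∈ U, s * u * s⁻¹ ∈ U) (hKc : ∀ a ∈ K, ∀ b ∈ K, a * b = b * a)
    (hKn : ∀ g : G, ∀ k ∈ K, g * k * g⁻¹ ∈ K)
    (hKU : ∀ g : G, ∀ k ∈ K, g * k * g⁻¹ * k⁻¹ ∈ U)
    (hUU : ∀ g : G, ∀ u ∈ U, g * u * g⁻¹ ∈ Sy → g * u * g⁻¹ ∈ U)
    {k : G} (hk : k ∈ K)
    (hmem : k ∈ Subgroup.closure ({x : G | (orderOf x).Coprime p} ∪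
      {x : G | ∃ g : G, ∃ u ∈ U, x = g * u * g⁻¹})) : k ∈ U := by
  classical
  have : (U.subgroupOf Sy).Normal := ⟨fun n hn s => hUn s s.2 n hn⟩
  let q := QuotientGroup.mk' (U.subgroupOf Sy)
  have hq1 : ∀ s : Sy, q s = 1 ↔ (s : G) ∈ U := fun s =>
    (QuotientGroup.eq_one_iff s).trans Subgroup.mem_subgroupOf
  -- every class has a representative in `K`
  have hrep : ∀ s : Sy, ∃ a : Sy, (a : G) ∈ K ∧ q s = q a := by
    intro s
    obtain ⟨a, ha, u, hu, hs⟩ := hdec s s.2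
    refine ⟨⟨a, hK ha⟩, ha, ?_⟩
    rw [show s = (⟨a, hK ha⟩ : Sy) * ⟨u, hU hu⟩ from Subtype.ext hs, map_mul,
      (hq1 ⟨u, hU hu⟩).2 hu, mul_one]
  have hcomm : ∀ a b : ↥Sy ⧸ U.subgroupOf Sy, a * b = b * a := by
    intro a b
    induction a using QuotientGroup.induction_on with
    | H a =>
      induction b using QuotientGroup.induction_on with
      | H b =>
        obtain ⟨a', ha', hae⟩ := hrep a
        obtain ⟨b', hb', hbe⟩ := hrep b
        change q a * q b = q b * q a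
        rw [hae, hbe, ← map_mul, ← map_mul,
          show a' * b' = b' * a' from Subtype.ext (hKc _ ha' _ hb')]
  let _ : CommGroup (↥Sy ⧸ U.subgroupOf Sy) :=
    { (inferInstance : Group (↥Sy ⧸ U.subgroupOf Sy)) with mul_comm := hcomm }
  have hAp : IsPGroup p (↥Sy ⧸ U.subgroupOf Sy) := hSy.to_quotient _
  let τ := MonoidHom.transfer q
  have : Fintype (G ⧸ Sy) := Sy.fintypeQuotientOfFiniteIndex
  have hτu : ∀ u ∈ U, τ u = 1 := by
    intro u hu
    rw [MonoidHom.transfer_eq_prod_quotient_orbitRel_zpowers_quot]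
    refine Finset.prod_eq_one fun o _ => (hq1 _).2 ?_
    have h1 := hUU o.out.out⁻¹ _ (pow_mem hu (Function.minimalPeriod (u • ·) o.out))
      (by rw [inv_inv]; exact QuotientGroup.out_conj_pow_minimalPeriod_mem Sy u o.out)
    rwa [inv_inv] at h1
  have hτk : τ k = q ⟨k, hK hk⟩ ^ Sy.index := by
    rw [MonoidHom.transfer_eq_prod_quotient_orbitRel_zpowers_quot,
      Subgroup.index_eq_sum_minimalPeriod Sy k, ← Finset.prod_pow_eq_pow_sum]
    refine Finset.prod_congr rfl fun o _ => ?_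
    rw [← map_pow]
    set n := Function.minimalPeriod (k • ·) o.out
    have h1 := hKU o.out.out⁻¹ _ (pow_mem hk n)
    rw [inv_inv] at h1
    refine eq_of_mul_inv_eq_one ?_
    rw [← map_inv, ← map_mul]
    exact (hq1 _).2 h1
  have hτ1 : ∀ x ∈ Subgroup.closure ({x : G | (orderOf x).Coprime p} ∪
      {x : G | ∃ g : G, ∃ u ∈ U, x = g * u * g⁻¹}), τ x = 1 := by
    intro x hx
    induction hx using Subgroup.closure_induction with
    | mem x hx =>
      rcases hx with hx | ⟨g, u, hu, rfl⟩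
      · obtain ⟨j, hj⟩ := hAp (τ x)
        rw [← orderOf_eq_one_iff]
        exact Nat.Coprime.eq_one_of_dvd
          ((Nat.Coprime.coprime_dvd_left (orderOf_map_dvd τ x) hx).pow_right j)
          (orderOf_dvd_of_pow_eq_one hj)
      · rw [map_mul, map_mul, hτu u hu, mul_one, map_inv, mul_inv_cancel]
    | one => exact map_one τ
    | mul a b _ _ ha hb => rw [map_mul, ha, hb, one_mul]
    | inv a _ ha => rw [map_inv, ha, inv_one]
  have h1 := hτ1 k hmem
  rw [hτk] at h1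
  obtain ⟨j, hj⟩ := hAp (q ⟨k, hK hk⟩)
  have h2 := Nat.dvd_gcd (orderOf_dvd_of_pow_eq_one h1) (orderOf_dvd_of_pow_eq_one hj)
  rw [(((Fact.out : p.Prime).coprime_iff_not_dvd.2 hidx).symm.pow_right j).gcd_eq_one,
    Nat.dvd_one, orderOf_eq_one_iff] at h2
  exact (hq1 ⟨k, hK hk⟩).1 h2

/-- The meet of a Sylow subgroup with a normal subgroup has index prime to `p` in it. -/
theorem not_dvd_relIndex_inf {Sy A : Subgroup G} [A.Normal] (hidx : ¬ p ∣ Sy.index) :
    ¬ p ∣ (Sy ⊓ A).relIndex A := by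
  have h1 := Subgroup.relIndex_mul_relIndex (Sy ⊓ A) A (A ⊔ Sy) inf_le_right le_sup_left
  have h2 := Subgroup.relIndex_mul_relIndex (Sy ⊓ A) Sy (A ⊔ Sy) inf_le_left le_sup_right
  have h3 : A.relIndex (A ⊔ Sy) = (Sy ⊓ A).relIndex Sy := by
    rw [sup_comm, Subgroup.relIndex_sup_right, Subgroup.inf_relIndex_left]
  rw [← h1, h3, mul_comm ((Sy ⊓ A).relIndex Sy)] at h2
  have hpos : (Sy ⊓ A).relIndex Sy ≠ 0 := Subgroup.index_ne_zero_of_finite
  rw [← Nat.eq_of_mul_eq_mul_right (Nat.pos_of_ne_zero hpos) h2]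
  exact fun h => hidx (h.trans ((Dvd.intro _ (Subgroup.relIndex_mul_index
    (le_sup_right : Sy ≤ A ⊔ Sy))) : Sy.relIndex (A ⊔ Sy) ∣ Sy.index))

end CfsgLib.Fusion.CentralLift
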